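import Cfsg.Agent.Lib.AutPSU.Basic

/-!
# Scalars, the centre, and the images of transvection groups

An element fixing every isotropic point is scalar.  A `p`-subgroup fixes a non-zero isotropic
vector, so a Sylow subgroup containing all `q(x; a, t)` fixes `x` and its centre consists of
transvections with centre `x`.
-/

set_option autoImplicit false
set_option linter.style.haveILetI false
set_option linter.unusedSimpArgs false
set_option linter.unusedSectionVars false

namespace Cfsg.Agent.AutPSU

open Matrix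
open scoped Pointwise

universe u

variable {F : Type u} [Field F] {q : ℕ} [hQ : QField F q] {n : ℕ}
include hQ

local notation "σ" => qb (F := F) q
local notation "V" => Fin n → F
local notation "Mat" => Matrix (Fin n) (Fin n) F
local notation "GLn" => GL (Fin n) F
set_option quotPrecheck false in
local notation "SUn" => ↥(Cfsg.SU n F q)
local notation "PSUn" => Cfsg.PSU n F q
local notation "H" => Cfsg.hermForm n F q

/-- There is a non-zero isotropic vector. -/
theorem exists_isotropic (hn : 2 ≤ n) : ∃ x : V, x ≠ 0 ∧ H x x = 0 := by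
  classical
  obtain ⟨a, ha⟩ := exists_norm (F := F) (q := q) (c := -1) (by rw [map_neg, map_one])
  let i : Fin n := ⟨0, by omega⟩
  let j : Fin n := ⟨1, by omega⟩
  have hij : i ≠ j := by simp [i, j, Fin.ext_iff]
  refine ⟨Pi.single i 1 + a • Pi.single j 1, fun h => ?_, ?_⟩
  · have := congrFun h i
    simp [Pi.single_eq_of_ne hij] at this
  · have hb : ∀ k l : Fin n, H (Pi.single k 1) (Pi.single l 1 : V) = if k = l then 1 else 0 := by
      intro k l
      rw [H_eq, Finset.sum_eq_single k (by intro b _ hb; simp [hb]) (by simp)]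
      by_cases h : k = l
      · subst h; simp
      · simp [h, Pi.single_eq_of_ne h]
    simp only [H_add_left, H_add_right, H_smul_left, H_smul_right, hb, hij, hij.symm, if_true,
      if_false]
    linear_combination ha

/-- A hyperbolic pair. -/
theorem exists_hyperbolic_pair (hn : 2 ≤ n) :
    ∃ e f : V, H e e = 0 ∧ H f f = 0 ∧ H e f = 1 := by
  obtain ⟨x, hx, hxx⟩ := exists_isotropic (F := F) (q := q) hn
  obtain ⟨w, hw, hww⟩ := exists_partner hx hxx
  exact ⟨w, x, hww, hxx, hw⟩

/-- An element fixing every isotropic point is scalar. -/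
theorem scalar_of_fix_iso (hn : 2 ≤ n) (M : Mat)
    (h : ∀ x : V, x ≠ 0 → H x x = 0 → ∃ a : F, M *ᵥ x = a • x) :
    ∃ c : F, ∀ v : V, M *ᵥ v = c • v := by
  obtain ⟨e, f, hee, hff, hef⟩ := exists_hyperbolic_pair (F := F) (q := q) hn
  have hfe : H f e = 1 := by rw [← H_flip e f, hef, map_one]
  have hzero : ∀ x : V, H x f ≠ 0 → x ≠ 0 := fun x hx h0 => hx (by rw [h0, H_zero_left])
  have he0 : e ≠ 0 := hzero e (by rw [hef]; exact one_ne_zero)
  have hf0 : f ≠ 0 := fun h0 => one_ne_zero (α := F) (by rw [← hef, h0, H_zero_right])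
  obtain ⟨α, hα⟩ := h e he0 hee
  obtain ⟨β, hβ⟩ := h f hf0 hff
  obtain ⟨k, hk0, hk⟩ := exists_skew (F := F) (q := q)
  -- the eigenvalues on the hyperbolic pair agree
  have hαβ : β = α := by
    have hu : H (e + k • f) (e + k • f) = 0 := by
      simp only [H_add_left, H_add_right, H_smul_left, H_smul_right, hee, hff, hef, hfe]
      linear_combination hk
    have hu0 : H (e + k • f) f ≠ 0 := by simp [hef, hff]
    obtain ⟨γ, hγ⟩ := h _ (hzero _ hu0) hu
    rw [Matrix.mulVec_add, Matrix.mulVec_smul, hα, hβ] at hγ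
    have e1 := congrArg (fun v => H v f) hγ
    have e2 := congrArg (fun v => H v e) hγ
    simp [hee, hff, hef, hfe] at e1 e2
    rw [← e1] at e2
    exact mul_left_cancel₀ hk0 (by linear_combination e2)
  rw [hαβ] at hβ
  -- vectors orthogonal to the pair
  have hw : ∀ w : V, H w e = 0 → H w f = 0 → M *ᵥ w = α • w := by
    intro w hwe hwf
    have hew : H e w = 0 := H_eq_zero_comm.1 hwe
    have hfw : H f w = 0 := H_eq_zero_comm.1 hwf
    obtain ⟨t, ht⟩ := exists_trace (F := F) (q := q) (c := - H w w)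
      (by rw [map_neg, H_self_fixed])
    have hr : ∀ s : F, s + σ s = - H w w →
        ∃ γ : F, M *ᵥ (e + s • f + w) = γ • (e + s • f + w) := by
      intro s hs
      refine h _ (hzero _ ?_) ?_
      · simp [hef, hff, hwf]
      · simp only [H_add_left, H_add_right, H_smul_left, H_smul_right, hee, hff, hef, hfe, hwe,
          hwf, hew, hfw]
        linear_combination hs
    obtain ⟨γ, hγ⟩ := hr t ht
    obtain ⟨γ', hγ'⟩ := hr (t + k) (by rw [map_add]; linear_combination ht + hk)
    rw [Matrix.mulVec_add, Matrix.mulVec_add, Matrix.mulVec_smul, hα, hβ] at hγ hγ'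
    have hdiff : α • (k • f) = γ' • (e + (t + k) • f + w) - γ • (e + t • f + w) := by
      rw [← hγ', ← hγ]; module
    have e1 := congrArg (fun v => H v f) hdiff
    simp [hff, hef, hwf] at e1
    have hgg : γ' = γ := by linear_combination -e1
    rw [hgg] at hdiff
    have e2 := congrArg (fun v => H v e) hdiff
    simp [hee, hfe, hwe] at e2
    have hγα : γ = α := mul_right_cancel₀ hk0 (by linear_combination -e2)
    rw [hγα] at hγ
    linear_combination (norm := module) hγ
  refine ⟨α, fun v => ?_⟩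
  have hd := hw (v - H v f • e - H v e • f) (by simp [hee, hfe]) (by simp [hff, hef])
  rw [Matrix.mulVec_sub, Matrix.mulVec_sub, Matrix.mulVec_smul, Matrix.mulVec_smul, hα, hβ] at hd
  linear_combination (norm := module) hd

theorem mem_center_of_scalar {s : SUn} {c : F} (h : ∀ v : V, app s v = c • v) :
    s ∈ Subgroup.center SUn :=
  Subgroup.mem_center_iff.2 fun g => su_ext fun v => by
    show app (g * s) v = app (s * g) v
    rw [app_mul, app_mul, h, h, app_smul]

theorem fix_point_of_commute {z : SUn} {x : V} {t : F} {h : IsT q x t} (hx : x ≠ 0) (ht : t ≠ 0)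
    (hc : z * tr x t h = tr x t h * z) : ∃ a : F, app z x = a • x := by
  have e : z * tr x t h * z⁻¹ = tr x t h := by rw [hc, mul_inv_cancel_right]
  rw [tr_conj] at e
  exact tr_eq_tr hx ht e.symm

theorem exists_isT {x : V} (hxx : H x x = 0) : ∃ t : F, t ≠ 0 ∧ IsT q x t := by
  obtain ⟨k, hk0, hk⟩ := exists_skew (F := F) (q := q)
  exact ⟨k, hk0, hxx, hk⟩

/-- Central elements are scalar. -/
theorem scalar_of_mem_center (hn : 2 ≤ n) {z : SUn} (hz : z ∈ Subgroup.center SUn) :
    ∃ c : F, ∀ v : V, app z v = c • v :=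
  scalar_of_fix_iso (q := q) hn _ fun x hx hxx => by
    obtain ⟨t, ht, hT⟩ := exists_isT hxx
    exact fix_point_of_commute (h := hT) hx ht (Subgroup.mem_center_iff.1 hz _).symm

theorem proj_eq_iff {s t : SUn} : proj n F q s = proj n F q t ↔ s⁻¹ * t ∈ Subgroup.center SUn := by
  rw [← proj_eq_one_iff, map_mul, map_inv, inv_mul_eq_one]

/-- Two elements agreeing on all isotropic points are equal in `PSU`. -/
theorem proj_eq_of_points (hn : 2 ≤ n) {s t : SUn}
    (h : ∀ x : V, x ≠ 0 → H x x = 0 → ∃ a : F, app t x = a • app s x) :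
    proj n F q s = proj n F q t := by
  rw [proj_eq_iff]
  obtain ⟨c, hc⟩ := scalar_of_fix_iso (q := q) hn
    (((s⁻¹ * t : SUn) : Matrix.SpecialLinearGroup (Fin n) F) : Mat) (fun x hx hxx => by
      obtain ⟨a, ha⟩ := h x hx hxx
      refine ⟨a, ?_⟩
      show app (s⁻¹ * t) x = a • x
      rw [app_mul, ha, app_smul, app_inv])
  exact mem_center_of_scalar hc

theorem app_pow_scalar {z : SUn} {c : F} (h : ∀ v : V, app z v = c • v) :
    ∀ (k : ℕ) (v : V), app (z ^ k) v = c ^ k • v
  | 0, v => by rw [pow_zero, pow_zero, app_one, one_smul]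
  | k + 1, v => by rw [pow_succ, app_mul, h, app_smul, app_pow_scalar h k, smul_smul, pow_succ']

theorem app_pow_fix {z : SUn} {c : F} {x : V} (h : app z x = c • x) :
    ∀ k : ℕ, app (z ^ k) x = c ^ k • x
  | 0 => by rw [pow_zero, pow_zero, app_one, one_smul]
  | k + 1 => by rw [pow_succ, app_mul, h, app_smul, app_pow_fix h k, smul_smul, pow_succ']

variable (p : ℕ) [Fact p.Prime] [CharP F p]

include p in
theorem eq_one_of_pow_eq_one {c : F} {k : ℕ} (h : c ^ p ^ k = 1) : c = 1 := by
  haveI : ExpChar F p := ExpChar.prime Fact.out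
  exact iterateFrobenius_inj F p k (by rw [iterateFrobenius_def, h, map_one])

include p in
/-- The eigenvalues of elements of `p`-power order are trivial. -/
theorem eigen_eq_one {s : SUn} {k : ℕ} (hs : s ^ p ^ k = 1) {x : V} (hx : x ≠ 0) {a : F}
    (h : app s x = a • x) : a = 1 := by
  apply eq_one_of_pow_eq_one (q := q) p (k := k)
  have e := app_pow_fix h (p ^ k)
  rw [hs, app_one] at e
  refine smul_left_injective F hx ?_
  show a ^ p ^ k • x = (1 : F) • x
  rw [one_smul]
  exact e.symm

include p in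
/-- Elements of `p`-power order are determined by their image in `PSU`. -/
theorem eq_of_proj_eq (hn : 2 ≤ n) {s t : SUn} {k l : ℕ} (hs : s ^ p ^ k = 1)
    (ht : t ^ p ^ l = 1) (h : proj n F q s = proj n F q t) : s = t := by
  set z := s⁻¹ * t with hz
  have hzc : z ∈ Subgroup.center SUn := proj_eq_iff.1 h
  have htz : t = s * z := by rw [hz, mul_inv_cancel_left]
  have hzN : z ^ p ^ (k + l) = 1 := by
    have hc : Commute s z := Subgroup.mem_center_iff.1 hzc s
    have e : t ^ p ^ (k + l) = s ^ p ^ (k + l) * z ^ p ^ (k + l) := by rw [htz, hc.mul_pow]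
    have e1 : t ^ p ^ (k + l) = 1 := by rw [pow_add, mul_comm, pow_mul, ht, one_pow]
    have e2 : s ^ p ^ (k + l) = 1 := by rw [pow_add, pow_mul, hs, one_pow]
    rw [e1, e2, one_mul] at e
    exact e.symm
  suffices hz1 : z = 1 by rw [htz, hz1, mul_one]
  obtain ⟨c, hc⟩ := scalar_of_mem_center hn hzc
  obtain ⟨x, hx, -⟩ := exists_isotropic (F := F) (q := q) hn
  have hc1 := eigen_eq_one p hzN hx (hc x)
  exact su_ext fun v => by
    show app z v = app 1 v
    rw [hc, hc1, one_smul, app_one]

include p in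
theorem proj_tr_eq (hn : 2 ≤ n) {x y : V} (hx : x ≠ 0) {t s : F} {h : IsT q x t} {h' : IsT q y s}
    (ht : t ≠ 0) (e : proj n F q (tr x t h) = proj n F q (tr y s h')) : ∃ a : F, y = a • x :=
  tr_eq_tr hx ht (eq_of_proj_eq p hn (tr_pow_sq p h) (tr_pow_sq p h') e)

include p in
theorem proj_commute_iff (hn : 2 ≤ n) {x y : V} (hx : x ≠ 0) (hy : y ≠ 0) {t s : F}
    {h : IsT q x t} {h' : IsT q y s} (ht : t ≠ 0) (hs : s ≠ 0) :
    proj n F q (tr x t h) * proj n F q (tr y s h') =
      proj n F q (tr y s h') * proj n F q (tr x t h) ↔ H x y = 0 := by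
  refine ⟨fun e => (tr_commute_iff (h := h) (h' := h') hx hy ht hs).1 ?_, fun e => by
    rw [← map_mul, (tr_commute_iff (h := h) (h' := h') hx hy ht hs).2 e, map_mul]⟩
  have e1 : tr x t h * tr y s h' * (tr x t h)⁻¹ = tr y s h' := by
    rw [tr_conj]
    refine eq_of_proj_eq p hn (tr_pow_sq p _) (tr_pow_sq p _) ?_
    rw [← tr_conj _ h', map_mul, map_mul, map_inv, e, mul_inv_cancel_right]
  exact mul_inv_eq_iff_eq_mul.1 e1

/-! ### Subgroups of `p`-power order -/

include p in
/-- A `p`-subgroup fixes a non-zero isotropic vector. -/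
theorem exists_fixed_iso (hn : 2 ≤ n) {P : Subgroup SUn} (hP : IsPGroup p P) :
    ∃ x : V, x ≠ 0 ∧ H x x = 0 ∧ ∀ g ∈ P, app g x = x := by
  classical
  haveI := finite_field (F := F) (q := q)
  -- a non-zero fixed vector in every invariant kernel
  have fixed : ∀ x : V, (∀ g ∈ P, app g x = x) → (∃ w : V, H w x = 0 ∧ w ≠ 0) →
      ∃ y : V, y ≠ 0 ∧ H y x = 0 ∧ ∀ g ∈ P, app g y = y := by
    intro x hx hw
    obtain ⟨w, hw, hw0⟩ := hw
    let W : Submodule F V := LinearMap.ker (Hl (q := q) x)
    letI : MulAction P W :=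
      { smul := fun g v => ⟨app (g : SUn) v, by
          show H (app (g : SUn) (v : V)) x = 0
          rw [← hx g g.2, app_H]
          exact v.2⟩
        one_smul := fun v => Subtype.ext (app_one _)
        mul_smul := fun g h v => Subtype.ext (app_mul _ _ _) }
    have hdvd : p ∣ Nat.card W := by
      have hp0 : p • (⟨w, hw⟩ : W) = 0 := by
        apply Subtype.ext
        show p • w = 0
        rw [← Nat.cast_smul_eq_nsmul F, CharP.cast_eq_zero, zero_smul]
      have := addOrderOf_eq_prime hp0 (fun e => hw0 (congrArg Subtype.val e))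
      exact this ▸ addOrderOf_dvd_natCard _
    obtain ⟨y, hy, hne⟩ := hP.exists_fixed_point_of_prime_dvd_card_of_fixed_point W hdvd
      (a := (0 : W)) (fun g => Subtype.ext (app_zero _))
    exact ⟨(y : V), fun e => hne (Subtype.ext e.symm), y.2,
      fun g hg => congrArg Subtype.val (hy ⟨g, hg⟩)⟩
  obtain ⟨x0, hx00, -⟩ := exists_isotropic (F := F) (q := q) hn
  obtain ⟨x, hx, -, hfx⟩ := fixed 0 (fun g _ => app_zero g) ⟨x0, H_zero_right _, hx00⟩
  by_cases hxx : H x x = 0
  · exact ⟨x, hx, hxx, hfx⟩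
  have hw : ∃ w : V, H w x = 0 ∧ w ≠ 0 := by
    obtain ⟨e, f, hee, hff, hef⟩ := exists_hyperbolic_pair (F := F) (q := q) hn
    by_cases hfx0 : H f x = 0
    · exact ⟨f, hfx0, fun h0 => one_ne_zero (α := F) (by rw [← hef, h0, H_zero_right])⟩
    refine ⟨e - (H e x / H f x) • f, ?_, fun h0 => ?_⟩
    · simp [div_mul_cancel₀ _ hfx0]
    · have h1 := congrArg (fun v => H v f) h0
      simp [hef, hff] at h1
  obtain ⟨y, hy, hyx, hfy⟩ := fixed x hfx hw
  by_cases hyy : H y y = 0
  · exact ⟨y, hy, hyy, hfy⟩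
  have hxy : H x y = 0 := H_eq_zero_comm.1 hyx
  obtain ⟨a, ha⟩ := exists_norm (F := F) (q := q) (c := - H y y / H x x)
    (by rw [map_div₀, map_neg, H_self_fixed, H_self_fixed])
  refine ⟨a • x + y, fun h0 => ?_, ?_, fun g hg => ?_⟩
  · have h1 := congrArg (fun v => H v y) h0
    simp [hxy] at h1
    exact hyy h1
  · simp only [H_add_left, H_add_right, H_smul_left, H_smul_right, hxy, hyx]
    have : a * σ a * H x x = - H y y := by rw [ha, div_mul_cancel₀ _ hxx]
    linear_combination this
  · rw [app_add, app_smul, hfx g hg, hfy g hg]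

theorem exists_isQ {x a : V} (hxx : H x x = 0) (ha : H a x = 0) : ∃ t : F, IsQ q x a t := by
  obtain ⟨t, ht⟩ := exists_trace (F := F) (q := q) (c := - H a a) (by rw [map_neg, H_self_fixed])
  exact ⟨t, hxx, ha, by linear_combination ht⟩

theorem IsQ.smul {x a : V} {t : F} (h : IsQ q x a t) (c : F) :
    IsQ q x (c • a) (c * σ c * t) := by
  refine ⟨h.1, by simp [h.2.1], ?_⟩
  simp only [map_mul, qb_qb, H_smul_left, H_smul_right]
  linear_combination (c * σ c) * h.2.2

theorem qE_smul_point {x a : V} {t : F} (h : IsQ q x a t) (c : F)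
    (hc : IsQ q (c • x) a t) :
    qE (c • x) a t hc = qE x (σ c • a) (σ c * σ (σ c) * t) (h.smul (σ c)) :=
  su_ext fun v => by
    show app _ v = app _ v
    simp only [qE_apply, H_smul_right, qb_qb]
    module

/-- Only multiples of `x` are fixed by all `q(x; a, t)`. -/
theorem exists_smul_of_fixed {x v : V} (hx : x ≠ 0) (hxx : H x x = 0)
    (h : ∀ (a : V) (t : F) (hq : IsQ q x a t), app (qE x a t hq) v = v) : ∃ c : F, v = c • x := by
  obtain ⟨k, hk0, hk⟩ := exists_skew (F := F) (q := q)
  have hvx : H v x = 0 := by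
    have e := h 0 k (IsT.isQ (⟨hxx, hk⟩ : IsT q x k))
    simp [hk0, hx] at e
    exact e
  refine exists_smul_of_orth (q := q) fun a ha => H_eq_zero_comm.1 ?_
  obtain ⟨t, ht⟩ := exists_isQ hxx ha
  have e := h a t ht
  simp [hvx, hx] at e
  exact e

/-- The group of all `q(x; a, t)`. -/
noncomputable def qSub (x : V) (hxx : H x x = 0) : Subgroup SUn where
  carrier := {g | ∃ (a : V) (t : F) (h : IsQ q x a t), g = qE x a t h}
  one_mem' := ⟨0, 0, isQ_zero hxx, (qE_one hxx).symm⟩
  mul_mem' := by
    rintro _ _ ⟨a, t, h, rfl⟩ ⟨b, s, h', rfl⟩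
    exact ⟨_, _, _, qE_mul h h'⟩
  inv_mem' := by
    rintro _ ⟨a, t, h, rfl⟩
    have h' : IsQ q x (-a) (σ t) := by
      refine ⟨h.1, by simp [h.2.1], ?_⟩
      simp only [qb_qb, H_neg_left, H_neg_right]
      linear_combination h.2.2
    refine ⟨-a, σ t, h', inv_eq_of_mul_eq_one_right ?_⟩
    rw [qE_mul, ← qE_one hxx]
    refine qE_congr (add_neg_cancel a) ?_
    rw [H_neg_left]
    linear_combination h.2.2

include p in
theorem isPGroup_qSub (x : V) (hxx : H x x = 0) : IsPGroup p (qSub (q := q) x hxx) := by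
  rintro ⟨g, a, t, h, rfl⟩
  exact ⟨2, Subtype.ext (qE_pow_sq p h)⟩

include p in
/-- Each isotropic point has a Sylow subgroup fixing it and containing its `q(x; a, t)`. -/
theorem exists_sylow_fix (hn : 2 ≤ n) {x : V} (hx : x ≠ 0) (hxx : H x x = 0) :
    ∃ P : Sylow p SUn, qSub x hxx ≤ (P : Subgroup SUn) ∧
      ∀ g ∈ (P : Subgroup SUn), app g x = x := by
  obtain ⟨P, hP⟩ := (isPGroup_qSub p x hxx).exists_le_sylow
  obtain ⟨y, hy, -, hfy⟩ := exists_fixed_iso p hn P.2
  obtain ⟨c, rfl⟩ := exists_smul_of_fixed hx hxx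
    (fun a t h => hfy _ (hP ⟨a, t, h, rfl⟩))
  have hc : c ≠ 0 := fun h0 => hy (by rw [h0, zero_smul])
  refine ⟨P, hP, fun g hg => smul_right_injective V hc ?_⟩
  show c • app g x = c • x
  rw [← app_smul, hfy g hg]

/-- An element fixing `x` and commuting with all `q(x; a, t)` is a transvection. -/
theorem eq_tr_of_commute {x : V} (hx : x ≠ 0) (hxx : H x x = 0) {z : SUn} (hzx : app z x = x)
    (hc : ∀ (a : V) (t : F) (h : IsQ q x a t), Commute z (qE x a t h)) :
    ∃ (t : F) (h : IsT q x t), z = tr x t h := by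
  obtain ⟨w, hw, hww⟩ := exists_partner hx hxx
  have hxw : H x w = 1 := by rw [← H_flip w x, hw, map_one]
  set b := app z w - w with hb
  have hzw : app z w = w + b := by rw [hb]; abel
  have hbx : H b x = 0 := by
    rw [hb, H_sub_left]
    nth_rewrite 1 [← hzx]
    rw [app_H, sub_self]
  have hxb : H x b = 0 := H_eq_zero_comm.1 hbx
  have hconj : ∀ (a : V) (t : F) (h : IsQ q x a t), ∀ v : V,
      H v x • app z a - H v (app z a) • x = H v x • a - H v a • x := by
    intro a t h v
    have e := qE_conj z h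
    rw [(hc a t h).eq, mul_inv_cancel_right] at e
    have e' := congrArg (fun g => app g v) e
    simp only [qE_apply, hzx] at e'
    linear_combination (norm := module) e'.symm
  -- the action on the orthogonal space of `x`
  have hza : ∀ a : V, H a x = 0 → app z a = a - H a b • x := by
    intro a ha
    obtain ⟨t, ht⟩ := exists_isQ hxx ha
    have e := hconj a t ht w
    rw [hw, one_smul, one_smul] at e
    have hk : app z a = a + (H w (app z a) - H w a) • x := by linear_combination (norm := module) e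
    have e2 := app_H z a w
    rw [hk, hzw] at e2
    simp only [H_add_left, H_add_right, H_smul_left, hxw, hxb] at e2
    rw [hk, show H w (app z a) - H w a = - H a b by linear_combination e2]
    module
  have hfix : ∀ a : V, H a x = 0 → H a b = 0 := by
    have hs : ∀ a : V, H a x = 0 → σ (H a b) = H a b := by
      intro a ha
      obtain ⟨t, ht⟩ := exists_isQ hxx ha
      have e := hconj a t ht w
      rw [hza a ha] at e
      simp only [hw, H_sub_right, H_smul_right, one_smul] at e
      have : (σ (H a b) - H a b) • x = 0 := by linear_combination (norm := module) e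
      exact sub_eq_zero.1 ((smul_eq_zero.1 this).resolve_right hx)
    intro a ha
    obtain ⟨c, hcne⟩ := qb_ne (F := F) (q := q)
    have h1 := hs (c • a) (by simp [ha])
    rw [H_smul_left, map_mul, hs a ha] at h1
    by_contra h0
    exact hcne (mul_right_cancel₀ h0 h1)
  obtain ⟨β, hβ⟩ := exists_smul_of_orth (q := q) hfix
  have hT : IsT q x (H w b + β - σ β) := by
    refine ⟨hxx, ?_⟩
    have e := app_H z w w
    rw [hzw] at e
    simp only [H_add_left, H_add_right] at e
    have hbb : H b b = 0 := by rw [hβ]; simp [hxx]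
    rw [map_sub, map_add, qb_qb, H_flip]
    linear_combination e - hbb
  refine ⟨_, hT, su_ext fun v => ?_⟩
  show app z v = app (tr x _ hT) v
  have hv : v = (v - H v x • w) + H v x • w := by module
  conv_lhs => rw [hv]
  rw [app_add, app_smul, hza _ (by simp [hw]), hfix _ (by simp [hw]), hzw, tr_apply, hβ]
  simp only [H_smul_right, zero_smul, sub_zero]
  rw [hw, ← hβ]
  rw [show v - H v x • w + H v x • (w + b) = v + H v x • b by module, hβ]
  module

include p in
/-- An automorphism maps the transvection group of a point onto that of a point. -/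
theorem exists_image_point (hn : 2 ≤ n) (φ : MulAut PSUn) {x : V} (hx : x ≠ 0)
    (hxx : H x x = 0) :
    ∃ (y : V), y ≠ 0 ∧ H y y = 0 ∧ ∀ (t : F) (h : IsT q x t),
      ∃ (s : F) (h' : IsT q y s), φ (proj n F q (tr x t h)) = proj n F q (tr y s h') := by
  classical
  haveI := finite_field (F := F) (q := q)
  obtain ⟨P, hQP, hP⟩ := exists_sylow_fix p hn hx hxx
  let Q : Sylow p PSUn := P.mapSurjective (proj_surjective (n := n) (F := F) (q := q))
  have hQ' : (Q : Subgroup PSUn) = (P : Subgroup SUn).map (proj n F q) := rfl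
  let Q' : Sylow p PSUn := Q.mapSurjective (f := φ.toMonoidHom) φ.surjective
  have hQ'' : (Q' : Subgroup PSUn) = (Q : Subgroup PSUn).map φ.toMonoidHom := rfl
  obtain ⟨g, hg⟩ := MulAction.exists_smul_eq PSUn Q Q'
  obtain ⟨s, rfl⟩ := proj_surjective g
  refine ⟨app s x, fun e => hx (app_injective s (e.trans (app_zero s).symm)),
    by rw [app_H]; exact hxx, fun t h => ?_⟩
  set y := φ (proj n F q (tr x t h)) with hy
  have hxP : tr x t h ∈ (P : Subgroup SUn) := hQP ⟨0, t, h.isQ, rfl⟩
  have hcent : ∀ u ∈ (Q' : Subgroup PSUn), Commute y u := by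
    rw [hQ'']
    rintro _ ⟨u, hu, rfl⟩
    rw [hQ'] at hu
    obtain ⟨v, hv, rfl⟩ := hu
    have e : v * tr x t h * v⁻¹ = tr x t h := by
      rw [tr_conj]
      exact tr_congr (hP v hv) rfl
    have e' : Commute (tr x t h) v := ((mul_inv_eq_iff_eq_mul).1 e).symm
    exact (e'.map (proj n F q)).map φ
  have hyQ : y ∈ (Q' : Subgroup PSUn) := by
    rw [hQ'']
    exact ⟨_, by rw [hQ']; exact ⟨_, hxP, rfl⟩, rfl⟩
  have hconj : ∀ u, u ∈ (Q' : Subgroup PSUn) ↔
      (proj n F q s)⁻¹ * u * proj n F q s ∈ (Q : Subgroup PSUn) := by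
    intro u
    rw [← hg, Sylow.coe_subgroup_smul, Subgroup.mem_pointwise_smul_iff_inv_smul_mem]
    simp [MulAut.smul_def]
  have h1 := (hconj y).1 hyQ
  rw [hQ'] at h1
  obtain ⟨z, hzP, hz⟩ := h1
  have hzc : ∀ u ∈ (P : Subgroup SUn), Commute z u := by
    intro u hu
    have hu' : proj n F q s * proj n F q u * (proj n F q s)⁻¹ ∈ (Q' : Subgroup PSUn) := by
      rw [hconj]
      exact ⟨u, hu, by group⟩
    have e : Commute (proj n F q z) (proj n F q u) := by
      rw [hz]
      have hc := (hcent _ hu').eq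
      show (proj n F q s)⁻¹ * y * proj n F q s * proj n F q u =
        proj n F q u * ((proj n F q s)⁻¹ * y * proj n F q s)
      calc (proj n F q s)⁻¹ * y * proj n F q s * proj n F q u
          = (proj n F q s)⁻¹ * (y * (proj n F q s * proj n F q u * (proj n F q s)⁻¹)) *
              proj n F q s := by group
        _ = (proj n F q s)⁻¹ * ((proj n F q s * proj n F q u * (proj n F q s)⁻¹) * y) *
              proj n F q s := by rw [hc]
        _ = _ := by group
    obtain ⟨k, hk⟩ := P.2 ⟨u, hu⟩
    have hk' : u ^ p ^ k = 1 := congrArg Subtype.val hk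
    refine mul_inv_eq_iff_eq_mul.1 (eq_of_proj_eq p hn (k := k) (l := k) ?_ hk' ?_)
    · rw [conj_pow, hk', mul_one, mul_inv_cancel]
    · rw [map_mul, map_mul, map_inv, e.eq, mul_inv_cancel_right]
  obtain ⟨t', ht', rfl⟩ := eq_tr_of_commute hx hxx (hP z hzP)
    (fun a r hr => hzc _ (hQP ⟨a, r, hr, rfl⟩))
  refine ⟨t', ht'.app s, ?_⟩
  rw [← tr_conj s ht', map_mul, map_mul, map_inv, hz]
  group

end Cfsg.Agent.AutPSU
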