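import Cfsg.Prelude.Def_LieTypeDatum
import Cfsg.Agent.Lib.AutPSL.TwistedClasses
import Mathlib

/-!
# Automorphisms of projective special unitary groups: basic maps

The Hermitian form, transvections and the elements `q(x; a, t)` of the stabiliser of an isotropic
point, semilinear automorphisms of `SU_n` and the map to `PSU_n`.
-/

set_option autoImplicit false
set_option linter.style.haveILetI false
set_option linter.unusedSimpArgs false
set_option linter.unusedSectionVars false

namespace Cfsg.Agent.AutPSU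

open Matrix

universe u

/-- `F` is a finite field with `q ^ 2` elements. -/
class QField (F : Type*) [Field F] (q : ℕ) : Prop where
  card : Nat.card F = q ^ 2
  two_le : 2 ≤ q

theorem QField.of_card {F : Type*} [Field F] [Fintype F] {q : ℕ} (hF : Fintype.card F = q ^ 2) :
    QField F q := by
  refine ⟨by rw [Nat.card_eq_fintype_card, hF], ?_⟩
  have h := Fintype.one_lt_card (α := F)
  rw [hF] at h
  by_contra hq
  interval_cases q <;> simp at h

variable {F : Type u} [Field F] {q : ℕ} [hQ : QField F q]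
include hQ

theorem two_le_q : 2 ≤ q := hQ.two_le

theorem finite_field : Finite F :=
  Nat.finite_of_card_ne_zero (by rw [hQ.card]; have := two_le_q (F := F) (q := q); positivity)

theorem exists_qhom : ∃ σ : F ≃+* F, ∀ a, σ a = a ^ q := by
  haveI := finite_field (F := F) (q := q)
  haveI := Fintype.ofFinite F
  obtain ⟨p, hchar⟩ := CharP.exists F
  obtain ⟨⟨k, hk⟩, hp, hcard⟩ := FiniteField.card F p
  have := Fact.mk hp
  haveI : ExpChar F p := ExpChar.prime hp
  have hcard' : q ^ 2 = p ^ k := by rw [← hQ.card, Nat.card_eq_fintype_card, hcard]; rfl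
  obtain ⟨f, -, hq⟩ := (Nat.dvd_prime_pow hp).1 (hcard' ▸ dvd_pow_self q two_ne_zero)
  exact ⟨iterateFrobeniusEquiv F p f, fun a => by rw [iterateFrobeniusEquiv_def, hq]⟩

variable (q) in
/-- The involutory automorphism `a ↦ a ^ q`. -/
noncomputable def qb : F ≃+* F := (exists_qhom (F := F) (q := q)).choose

local notation "σ" => qb (F := F) q

theorem qb_apply (a : F) : σ a = a ^ q := (exists_qhom (F := F) (q := q)).choose_spec a

@[simp]
theorem qb_qb (a : F) : σ (σ a) = a := by
  haveI := finite_field (F := F) (q := q)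
  haveI := Fintype.ofFinite F
  rw [qb_apply, qb_apply, ← pow_mul, ← pow_two, ← hQ.card, Nat.card_eq_fintype_card,
    FiniteField.pow_card]

theorem qb_ne : ∃ a : F, σ a ≠ a := by
  haveI := finite_field (F := F) (q := q)
  haveI := Fintype.ofFinite F
  by_contra h
  push Not at h
  obtain ⟨g, hg⟩ := IsCyclic.exists_generator (α := Fˣ)
  have h1 : g ^ q = g := Units.ext (by rw [Units.val_pow_eq_pow_val, ← qb_apply]; exact h g)
  have h2 : g ^ (q - 1) = 1 := by
    have h' : g ^ (q - 1) * g = g := by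
      rw [← pow_succ, Nat.sub_add_cancel (by have := two_le_q (F := F) (q := q); omega), h1]
    exact mul_eq_right.1 h'
  have h3 := orderOf_dvd_of_pow_eq_one h2
  rw [orderOf_eq_card_of_forall_mem_zpowers hg, Nat.card_units, hQ.card] at h3
  have hq := two_le_q (F := F) (q := q)
  have := Nat.le_of_dvd (by omega) h3
  have : q * q ≥ 2 * q := Nat.mul_le_mul_right q hq
  rw [pow_two] at *
  omega

theorem qb_ne_refl : σ ≠ RingEquiv.refl F := fun h => by
  obtain ⟨a, ha⟩ := qb_ne (F := F) (q := q)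
  exact ha (by rw [h]; rfl)

theorem orderOf_qb : orderOf (σ : F ≃+* F) = 2 :=
  orderOf_eq_prime (RingEquiv.ext fun a => by rw [pow_two]; exact qb_qb a) qb_ne_refl

/-- Every automorphism commutes with `σ`. -/
theorem qb_comm (τ : F ≃+* F) (a : F) : σ (τ a) = τ (σ a) := by
  rw [qb_apply, qb_apply, map_pow]

/-- The trace onto the fixed field is surjective. -/
theorem exists_trace {c : F} (hc : σ c = c) : ∃ t : F, t + σ t = c := by
  obtain ⟨a, ha⟩ : ∃ a : F, a + σ a ≠ 0 := by
    by_contra h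
    push Not at h
    obtain ⟨b, hb⟩ := qb_ne (F := F) (q := q)
    have h1 := h 1
    rw [map_one] at h1
    refine hb ?_
    linear_combination h b - b * h1
  refine ⟨c * a / (a + σ a), ?_⟩
  rw [map_div₀, map_mul, hc, map_add, qb_qb, add_comm (σ a) a, ← add_div, ← mul_add,
    mul_div_assoc, div_self ha, mul_one]

/-- There are non-zero skew elements. -/
theorem exists_skew : ∃ k : F, k ≠ 0 ∧ k + σ k = 0 := by
  obtain ⟨a, ha⟩ := qb_ne (F := F) (q := q)
  exact ⟨a - σ a, sub_ne_zero.2 (Ne.symm ha), by rw [map_sub, qb_qb]; ring⟩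

/-- The norm onto the fixed field is surjective. -/
theorem exists_norm {c : F} (hc : σ c = c) : ∃ a : F, a * σ a = c := by
  haveI := finite_field (F := F) (q := q)
  by_cases h0 : c = 0
  · exact ⟨0, by rw [h0, zero_mul]⟩
  obtain ⟨b, hb⟩ := AutPSL.exists_norm_eq σ (by rw [orderOf_qb]; exact two_pos) (Units.mk0 c h0)
    (Units.ext hc)
  refine ⟨b, ?_⟩
  rw [orderOf_qb, AutPSL.cyc_two] at hb
  exact congrArg Units.val hb

variable {n : ℕ}

local notation "V" => Fin n → F
local notation "Mat" => Matrix (Fin n) (Fin n) F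
local notation "GLn" => GL (Fin n) F
set_option quotPrecheck false in
local notation "SUn" => ↥(Cfsg.SU n F q)
local notation "PSUn" => Cfsg.PSU n F q
local notation "H" => Cfsg.hermForm n F q

/-! ### The form -/

omit hQ in
theorem H_def (u v : V) : H u v = ∑ i, u i * v i ^ q := rfl

theorem H_eq (u v : V) : H u v = ∑ i, u i * σ (v i) := by simp [H_def, qb_apply]

@[simp]
theorem H_add_left (u u' v : V) : H (u + u') v = H u v + H u' v := by
  simp [H_eq, add_mul, Finset.sum_add_distrib]

@[simp]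
theorem H_add_right (u v v' : V) : H u (v + v') = H u v + H u v' := by
  simp [H_eq, mul_add, Finset.sum_add_distrib]

@[simp]
theorem H_smul_left (c : F) (u v : V) : H (c • u) v = c * H u v := by
  simp [H_eq, Finset.mul_sum, mul_assoc]

@[simp]
theorem H_smul_right (c : F) (u v : V) : H u (c • v) = σ c * H u v := by
  simp [H_eq, Finset.mul_sum, mul_left_comm]

@[simp]
theorem H_zero_left (v : V) : H 0 v = 0 := by simp [H_eq]

@[simp]
theorem H_zero_right (v : V) : H v 0 = 0 := by simp [H_eq]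

@[simp]
theorem H_sub_left (u u' v : V) : H (u - u') v = H u v - H u' v := by
  simp [H_eq, sub_mul, Finset.sum_sub_distrib]

@[simp]
theorem H_sub_right (u v v' : V) : H u (v - v') = H u v - H u v' := by
  simp [H_eq, mul_sub, Finset.sum_sub_distrib]

@[simp]
theorem H_neg_left (u v : V) : H (-u) v = - H u v := by simp [H_eq, Finset.sum_neg_distrib]

@[simp]
theorem H_neg_right (u v : V) : H u (-v) = - H u v := by simp [H_eq, Finset.sum_neg_distrib]

theorem H_flip (u v : V) : σ (H u v) = H v u := by simp [H_eq, map_sum, mul_comm]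

theorem H_eq_zero_comm {u v : V} : H u v = 0 ↔ H v u = 0 := by
  rw [← H_flip v u, map_eq_zero]

theorem H_self_fixed (v : V) : σ (H v v) = H v v := H_flip v v

/-- `H` is non-degenerate. -/
theorem eq_zero_of_orth {x : V} (h : ∀ v : V, H v x = 0) : x = 0 := by
  funext i
  have e := h (Pi.single i 1)
  rw [H_eq, Finset.sum_eq_single i (by intro b _ hb; simp [hb]) (by simp)] at e
  simpa using e

theorem eq_zero_of_orth' {x : V} (h : ∀ v : V, H x v = 0) : x = 0 :=
  eq_zero_of_orth fun v => H_eq_zero_comm.1 (h v)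

/-- `H(·, x)` as a linear map. -/
noncomputable def Hl (x : V) : V →ₗ[F] F where
  toFun v := H v x
  map_add' u v := H_add_left u v x
  map_smul' c v := H_smul_left c v x

@[simp]
theorem Hl_apply (x v : V) : Hl (q := q) x v = H v x := rfl

theorem exists_H_eq_one {x : V} (hx : x ≠ 0) : ∃ w : V, H w x = 1 := by
  obtain ⟨w, hw⟩ : ∃ w : V, H w x ≠ 0 := by
    by_contra hcon
    push Not at hcon
    exact hx (eq_zero_of_orth hcon)
  exact ⟨(H w x)⁻¹ • w, by simp [inv_mul_cancel₀ hw]⟩

/-- An isotropic vector has an isotropic partner. -/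
theorem exists_partner {x : V} (hx : x ≠ 0) (hxx : H x x = 0) :
    ∃ w : V, H w x = 1 ∧ H w w = 0 := by
  obtain ⟨w, hw⟩ := exists_H_eq_one (q := q) hx
  obtain ⟨t, ht⟩ := exists_trace (F := F) (q := q) (c := - H w w) (by rw [map_neg, H_self_fixed])
  refine ⟨w + t • x, by simp [hw, hxx], ?_⟩
  have hxw : H x w = 1 := by rw [← H_flip w x, hw, map_one]
  simp [hxx, hw, hxw]
  linear_combination ht

/-- If the orthogonal space of `x` kills `y`, then `y` is a multiple of `x`. -/
theorem exists_smul_of_orth {x y : V} (h : ∀ v : V, H v x = 0 → H v y = 0) :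
    ∃ a : F, y = a • x := by
  by_cases hx : x = 0
  · subst hx
    refine ⟨0, ?_⟩
    rw [zero_smul]
    exact eq_zero_of_orth (q := q) fun v => h v (H_zero_right v)
  · obtain ⟨w, hw⟩ := exists_H_eq_one (q := q) hx
    refine ⟨σ (H w y), ?_⟩
    rw [← sub_eq_zero]
    apply eq_zero_of_orth (q := q)
    intro v
    have h1 := h (v - H v x • w) (by simp [hw])
    simp at h1 ⊢
    linear_combination h1

/-! ### Elements of `SU` -/

theorem su_ext {s t : SUn} (h : ∀ v : V, ((s : Matrix.SpecialLinearGroup (Fin n) F) : Mat) *ᵥ v =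
    ((t : Matrix.SpecialLinearGroup (Fin n) F) : Mat) *ᵥ v) : s = t :=
  Subtype.ext (Subtype.ext (Matrix.ext_iff_mulVec.2 h))

/-- The action of an element of `SU` on vectors. -/
def app (s : SUn) (v : V) : V := ((s : Matrix.SpecialLinearGroup (Fin n) F) : Mat) *ᵥ v

omit hQ in
theorem app_mul (s t : SUn) (v : V) : app (s * t) v = app s (app t v) := by
  simp [app, Matrix.mulVec_mulVec]

omit hQ in
theorem app_one (v : V) : app (1 : SUn) v = v := by simp [app]

omit hQ in
theorem app_inv (s : SUn) (v : V) : app s⁻¹ (app s v) = v := by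
  rw [← app_mul, inv_mul_cancel, app_one]

omit hQ in
theorem app_inv' (s : SUn) (v : V) : app s (app s⁻¹ v) = v := by
  rw [← app_mul, mul_inv_cancel, app_one]

omit hQ in
theorem app_H (s : SUn) (u v : V) : H (app s u) (app s v) = H u v := s.2 u v

omit hQ in
theorem app_add (s : SUn) (u v : V) : app s (u + v) = app s u + app s v := Matrix.mulVec_add _ _ _

omit hQ in
theorem app_sub (s : SUn) (u v : V) : app s (u - v) = app s u - app s v := Matrix.mulVec_sub _ _ _

omit hQ in
theorem app_smul (s : SUn) (c : F) (v : V) : app s (c • v) = c • app s v := Matrix.mulVec_smul _ _ _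

omit hQ in
theorem app_zero (s : SUn) : app s 0 = 0 := Matrix.mulVec_zero _

theorem app_injective (s : SUn) : Function.Injective (app s) := fun u v h => by
  simpa [app_inv] using congrArg (app s⁻¹) h

/-! ### Root elements attached to an isotropic point -/

/-- The conditions on the parameters of `q(x; a, t)`. -/
def IsQ (q : ℕ) [QField F q] (x a : V) (t : F) : Prop :=
  Cfsg.hermForm n F q x x = 0 ∧ Cfsg.hermForm n F q a x = 0 ∧
    t + qb q t + Cfsg.hermForm n F q a a = 0

/-- The linear map of `q(x; a, t)`. -/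
noncomputable def qLin (q : ℕ) [QField F q] (x a : V) (t : F) : V →ₗ[F] V :=
  LinearMap.id + (Hl (q := q) x).smulRight a - (Hl (q := q) a).smulRight x +
    (t • Hl (q := q) x).smulRight x

theorem qLin_apply (x a : V) (t : F) (v : V) :
    qLin q x a t v = v + H v x • a - H v a • x + (t * H v x) • x := rfl

theorem qLin_pres {x a : V} {t : F} (h : IsQ q x a t) (u v : V) :
    H (qLin q x a t u) (qLin q x a t v) = H u v := by
  obtain ⟨hxx, hax, ht⟩ := h
  have hxa : H x a = 0 := H_eq_zero_comm.1 hax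
  simp only [qLin_apply, H_add_left, H_add_right, H_sub_left, H_sub_right, H_smul_left,
    H_smul_right, hxx, hax, hxa, mul_zero, add_zero, sub_zero, H_flip, map_mul, map_sub]
  linear_combination (H u x * H x v) * ht

theorem qLin_comp {x a b : V} {t : F} (h : IsQ q x a t) {s : F} (h' : IsQ q x b s) :
    qLin q x a t ∘ₗ qLin q x b s = qLin q x (a + b) (t + s - H b a) := by
  apply LinearMap.ext
  intro v
  simp only [LinearMap.comp_apply, qLin_apply, H_add_left, H_sub_left, H_smul_left, h.1, h'.2.1,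
    H_eq_zero_comm.1 h.2.1, mul_zero, add_zero, sub_zero, H_add_right]
  module

theorem IsQ.add {x a b : V} {t s : F} (h : IsQ q x a t) (h' : IsQ q x b s) :
    IsQ q x (a + b) (t + s - H b a) := by
  refine ⟨h.1, by simp [h.2.1, h'.2.1], ?_⟩
  have e1 := h.2.2
  have e2 := h'.2.2
  simp only [map_add, map_sub, H_flip, H_add_left, H_add_right]
  linear_combination e1 + e2

theorem isQ_zero {x : V} (hx : H x x = 0) : IsQ q x (0 : V) 0 := ⟨hx, by simp, by simp⟩

theorem qLin_zero (x : V) : qLin q x 0 0 = LinearMap.id :=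
  LinearMap.ext fun v => by simp [qLin_apply]

theorem qMat_pow {x a : V} {t : F} (h : IsQ q x a t) : ∀ k : ℕ, ∃ s, IsQ q x (k • a) s ∧
    LinearMap.toMatrix' (qLin q x a t) ^ k = LinearMap.toMatrix' (qLin q x (k • a) s)
  | 0 => ⟨0, by rw [zero_smul]; exact isQ_zero h.1, by
      rw [pow_zero, zero_smul, qLin_zero, LinearMap.toMatrix'_id]⟩
  | k + 1 => by
    obtain ⟨s, hs, e⟩ := qMat_pow h k
    refine ⟨_, by rw [succ_nsmul]; exact hs.add h, ?_⟩
    rw [pow_succ, e, ← LinearMap.toMatrix'_comp, qLin_comp hs h, succ_nsmul]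

theorem qMat_pow_zero {x : V} {t : F} (h : IsQ q x 0 t) : ∀ k : ℕ,
    LinearMap.toMatrix' (qLin q x (0 : V) t) ^ k = LinearMap.toMatrix' (qLin q x (0 : V) (k • t))
  | 0 => by rw [pow_zero, zero_smul, qLin_zero, LinearMap.toMatrix'_id]
  | k + 1 => by
    have hk : IsQ q x (0 : V) (k • t) := ⟨h.1, h.2.1, by
      have := h.2.2
      simp at this ⊢
      rw [← mul_add, this, mul_zero]⟩
    rw [pow_succ, qMat_pow_zero h k, ← LinearMap.toMatrix'_comp, qLin_comp hk h, succ_nsmul,
      add_zero, H_zero_left, sub_zero]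

theorem qMat_pow_sq (p : ℕ) [CharP F p] {x a : V} {t : F} (h : IsQ q x a t) :
    LinearMap.toMatrix' (qLin q x a t) ^ p ^ 2 = 1 := by
  obtain ⟨s, hs, e⟩ := qMat_pow h p
  have hpa : p • a = 0 := by rw [← Nat.cast_smul_eq_nsmul F, CharP.cast_eq_zero, zero_smul]
  rw [hpa] at hs e
  rw [pow_two, pow_mul, e, qMat_pow_zero hs, ← Nat.cast_smul_eq_nsmul F, CharP.cast_eq_zero,
    zero_smul, qLin_zero, LinearMap.toMatrix'_id]

theorem qMat_det {x a : V} {t : F} (h : IsQ q x a t) :
    (LinearMap.toMatrix' (qLin q x a t)).det = 1 := by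
  haveI := finite_field (F := F) (q := q)
  obtain ⟨p, hp⟩ := CharP.exists F
  haveI : Fact p.Prime := ⟨CharP.char_is_prime F p⟩
  haveI : ExpChar F p := ExpChar.prime Fact.out
  have e := congrArg Matrix.det (qMat_pow_sq p h)
  rw [Matrix.det_pow, Matrix.det_one] at e
  exact iterateFrobenius_inj F p 2 (by rw [iterateFrobenius_def, e, map_one])

/-- The element `q(x; a, t)` of `SU`. -/
noncomputable def qE (x a : V) (t : F) (h : IsQ q x a t) : SUn :=
  ⟨⟨LinearMap.toMatrix' (qLin q x a t), qMat_det h⟩, fun u v => by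
    show H (LinearMap.toMatrix' (qLin q x a t) *ᵥ u) (LinearMap.toMatrix' (qLin q x a t) *ᵥ v) = _
    rw [LinearMap.toMatrix'_mulVec, LinearMap.toMatrix'_mulVec, qLin_pres h]⟩

@[simp]
theorem qE_apply (x a : V) (t : F) (h : IsQ q x a t) (v : V) :
    app (qE x a t h) v = v + H v x • a - H v a • x + (t * H v x) • x := by
  show LinearMap.toMatrix' (qLin q x a t) *ᵥ v = _
  rw [LinearMap.toMatrix'_mulVec, qLin_apply]

theorem qE_congr {x a b : V} {t s : F} {h : IsQ q x a t} {h' : IsQ q x b s} (e : a = b)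
    (e' : t = s) : qE x a t h = qE x b s h' := by subst e e'; rfl

theorem qE_mul {x a b : V} {t s : F} (ha : IsQ q x a t) (hb : IsQ q x b s) :
    qE x a t ha * qE x b s hb = qE x (a + b) (t + s - H b a) (ha.add hb) :=
  Subtype.ext (Subtype.ext (by
    show LinearMap.toMatrix' _ * LinearMap.toMatrix' _ = LinearMap.toMatrix' _
    rw [← LinearMap.toMatrix'_comp, qLin_comp ha hb]))

theorem qE_one {x : V} (hx : H x x = 0) : qE x 0 0 (isQ_zero hx) = (1 : SUn) :=
  su_ext fun v => by
    show app (qE x 0 0 (isQ_zero hx)) v = app (1 : SUn) v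
    simp [app_one]

theorem qE_pow_sq (p : ℕ) [CharP F p] {x a : V} {t : F} (h : IsQ q x a t) :
    qE x a t h ^ p ^ 2 = 1 :=
  Subtype.ext (Subtype.ext (by
    show LinearMap.toMatrix' (qLin q x a t) ^ p ^ 2 = 1
    exact qMat_pow_sq p h))

theorem IsQ.app {x a : V} {t : F} (h : IsQ q x a t) (s : SUn) :
    IsQ q (app s x) (app s a) t := ⟨by rw [app_H]; exact h.1, by rw [app_H]; exact h.2.1,
      by rw [app_H]; exact h.2.2⟩

theorem qE_conj (s : SUn) {x a : V} {t : F} (h : IsQ q x a t) :
    s * qE x a t h * s⁻¹ = qE (app s x) (app s a) t (h.app s) := by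
  apply su_ext
  intro v
  show AutPSU.app (s * qE x a t h * s⁻¹) v = AutPSU.app (qE _ _ t (h.app s)) v
  obtain ⟨u, rfl⟩ : ∃ u, AutPSU.app s u = v := ⟨_, app_inv' s v⟩
  rw [app_mul, app_mul, app_inv, qE_apply, qE_apply, app_H, app_H, app_add, app_sub, app_add,
    app_smul, app_smul, app_smul]

/-- The conditions on a transvection. -/
def IsT (q : ℕ) [QField F q] (x : V) (t : F) : Prop :=
  Cfsg.hermForm n F q x x = 0 ∧ t + qb q t = 0

theorem IsT.isQ {x : V} {t : F} (h : IsT q x t) : IsQ q x 0 t := ⟨h.1, by simp, by simp [h.2]⟩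

/-- The transvection `v ↦ v + t H(v,x) x`. -/
noncomputable def tr (x : V) (t : F) (h : IsT q x t) : SUn := qE x 0 t h.isQ

@[simp]
theorem tr_apply (x : V) (t : F) (h : IsT q x t) (v : V) :
    app (tr x t h) v = v + (t * H v x) • x := by simp [tr]

theorem tr_congr {x y : V} {t s : F} {h : IsT q x t} {h' : IsT q y s} (e : x = y) (e' : t = s) :
    tr x t h = tr y s h' := by subst e e'; rfl

theorem IsT.app {x : V} {t : F} (h : IsT q x t) (s : SUn) : IsT q (app s x) t :=
  ⟨by rw [app_H]; exact h.1, h.2⟩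

theorem tr_conj (s : SUn) {x : V} {t : F} (h : IsT q x t) :
    s * tr x t h * s⁻¹ = tr (app s x) t (h.app s) :=
  (qE_conj s h.isQ).trans (qE_congr (app_zero s) rfl)

theorem tr_pow_sq (p : ℕ) [CharP F p] {x : V} {t : F} (h : IsT q x t) : tr x t h ^ p ^ 2 = 1 :=
  qE_pow_sq p _

theorem tr_zero {x : V} (h : IsT q x (0 : F)) : tr x 0 h = (1 : SUn) := qE_one h.1

theorem tr_ne_one {x : V} (hx : x ≠ 0) {t : F} (h : IsT q x t) (ht : t ≠ 0) :
    tr x t h ≠ (1 : SUn) := by
  intro e
  obtain ⟨w, hw⟩ := exists_H_eq_one (q := q) hx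
  have := congrArg (fun g => AutPSU.app g w) e
  simp [hw, app_one, ht, hx] at this

theorem IsT.smul {x : V} {t : F} (h : IsT q x t) (a : F) : IsT q (a • x) t :=
  ⟨by simp [h.1], h.2⟩

/-- A non-trivial transvection determines its point. -/
theorem tr_eq_tr {x y : V} {t s : F} {h : IsT q x t} {h' : IsT q y s} (hx : x ≠ 0) (ht : t ≠ 0)
    (e : tr x t h = tr y s h') : ∃ a : F, y = a • x := by
  obtain ⟨w, hw⟩ := exists_H_eq_one (q := q) hx
  have := congrArg (fun g => AutPSU.app g w) e
  simp [hw] at this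
  have hc : s * H w y ≠ 0 := by
    intro h0
    rw [h0, zero_smul] at this
    exact hx ((smul_eq_zero.1 this).resolve_left ht)
  exact ⟨(s * H w y)⁻¹ * t, by rw [mul_smul, this, smul_smul, inv_mul_cancel₀ hc, one_smul]⟩

/-- Two non-trivial transvections commute exactly for orthogonal points. -/
theorem tr_commute_iff {x y : V} {t s : F} {h : IsT q x t} {h' : IsT q y s} (hx : x ≠ 0)
    (hy : y ≠ 0) (ht : t ≠ 0) (hs : s ≠ 0) :
    tr x t h * tr y s h' = tr y s h' * tr x t h ↔ H x y = 0 := by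
  constructor
  · intro e
    by_contra hb
    have e' : tr x t h * tr y s h' * (tr x t h)⁻¹ = tr y s h' := by rw [e, mul_inv_cancel_right]
    rw [tr_conj] at e'
    have hne : AutPSU.app (tr x t h) y ≠ 0 := fun h0 =>
      hy (app_injective (tr x t h) (h0.trans (app_zero _).symm))
    obtain ⟨a, ha⟩ := tr_eq_tr hne hs e'
    have h1 := congrArg (fun w => H w x) ha
    have hyx : H y x ≠ 0 := fun h0 => hb (H_eq_zero_comm.1 h0)
    simp [h.1] at h1
    have ha1 : a = 1 := by
      refine mul_right_cancel₀ hyx ?_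
      rw [one_mul]
      exact h1.symm
    subst ha1
    simp [hx, ht, hyx] at ha
  · intro hb
    have hb' : H y x = 0 := H_eq_zero_comm.1 hb
    apply su_ext
    intro v
    show AutPSU.app (tr x t h * tr y s h') v = AutPSU.app (tr y s h' * tr x t h) v
    simp only [app_mul, tr_apply, H_add_left, H_smul_left, hb, hb', mul_zero, add_zero]
    module

/-! ### Semilinear automorphisms -/

/-- Coordinatewise application of a field automorphism. -/
def vmap (τ : F ≃+* F) (v : V) : V := fun i => τ (v i)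

omit hQ in
theorem vmap_mulVec (τ : F ≃+* F) (A : Mat) (v : V) : A.map τ *ᵥ vmap τ v = vmap τ (A *ᵥ v) := by
  funext i
  simp [vmap, Matrix.mulVec, dotProduct, map_sum, map_mul]

omit hQ in
theorem vmap_surjective (τ : F ≃+* F) : Function.Surjective (vmap (n := n) τ) :=
  fun v => ⟨vmap τ.symm v, funext fun i => τ.apply_symm_apply _⟩

omit hQ in
theorem vmap_smul (τ : F ≃+* F) (a : F) (v : V) : vmap τ (a • v) = τ a • vmap τ v :=
  funext fun _ => map_mul τ _ _

omit hQ in
theorem vmap_add (τ : F ≃+* F) (u v : V) : vmap τ (u + v) = vmap τ u + vmap τ v :=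
  funext fun _ => map_add τ _ _

omit hQ in
theorem vmap_zero (τ : F ≃+* F) : vmap τ (0 : V) = 0 := funext fun _ => map_zero τ

omit hQ in
theorem H_vmap (τ : F ≃+* F) (u v : V) : H (vmap τ u) (vmap τ v) = τ (H u v) := by
  simp [H_def, vmap, map_sum, map_mul, map_pow]

omit hQ in
theorem map_mem_SU (τ : F ≃+* F) {A : Matrix.SpecialLinearGroup (Fin n) F}
    (hA : A ∈ Cfsg.SU n F q) :
    Matrix.SpecialLinearGroup.map (τ : F →+* F) A ∈ Cfsg.SU n F q := by
  intro u v
  obtain ⟨u, rfl⟩ := vmap_surjective τ u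
  obtain ⟨v, rfl⟩ := vmap_surjective τ v
  show H ((A : Mat).map τ *ᵥ vmap τ u) ((A : Mat).map τ *ᵥ vmap τ v) = _
  rw [vmap_mulVec, vmap_mulVec, H_vmap, H_vmap]
  exact congrArg τ (hA u v)

/-- Entrywise application of a field automorphism on `SU`. -/
def fld (τ : F ≃+* F) : MulAut SUn where
  toFun s := ⟨Matrix.SpecialLinearGroup.map (τ : F →+* F) s.1, map_mem_SU τ s.2⟩
  invFun s := ⟨Matrix.SpecialLinearGroup.map (τ.symm : F →+* F) s.1, map_mem_SU τ.symm s.2⟩
  left_inv s := by apply Subtype.ext; apply Subtype.ext; ext i j; simp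
  right_inv s := by apply Subtype.ext; apply Subtype.ext; ext i j; simp
  map_mul' a b := Subtype.ext (map_mul _ _ _)

omit hQ in
theorem fld_coe (τ : F ≃+* F) (s : SUn) :
    (((fld τ s : SUn) : Matrix.SpecialLinearGroup (Fin n) F) : Mat) =
      ((s : Matrix.SpecialLinearGroup (Fin n) F) : Mat).map τ := rfl

omit hQ in
theorem fld_apply (τ : F ≃+* F) (s : SUn) (v : V) :
    app (fld τ s) (vmap τ v) = vmap τ (app s v) := vmap_mulVec τ _ v

omit hQ in
theorem fld_one : fld (RingEquiv.refl F) = (1 : MulAut SUn) :=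
  MulEquiv.ext fun _ => Subtype.ext (Subtype.ext (Matrix.ext fun _ _ => rfl))

omit hQ in
theorem fld_mul (τ ρ : F ≃+* F) : (fld τ * fld ρ : MulAut SUn) = fld (ρ.trans τ) :=
  MulEquiv.ext fun _ => Subtype.ext (Subtype.ext (Matrix.ext fun _ _ => rfl))

omit hQ in
theorem GU_H (g : Cfsg.GU n F q) (u v : V) :
    H (((g : GLn) : Mat) *ᵥ u) (((g : GLn) : Mat) *ᵥ v) = H u v := g.2 u v

omit hQ in
theorem conj_mem_SU (g : Cfsg.GU n F q) (s : SUn) :
    (⟨((g : GLn) : Mat) * ((s : Matrix.SpecialLinearGroup (Fin n) F) : Mat) *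
      (((g : GLn)⁻¹ : GLn) : Mat), AutPSL.det_conj_gl (g : GLn) s.1⟩ :
        Matrix.SpecialLinearGroup (Fin n) F) ∈ Cfsg.SU n F q := by
  intro u v
  show H ((((g : GLn) : Mat) * ((s : Matrix.SpecialLinearGroup (Fin n) F) : Mat) *
      (((g : GLn)⁻¹ : GLn) : Mat)) *ᵥ u) ((((g : GLn) : Mat) *
      ((s : Matrix.SpecialLinearGroup (Fin n) F) : Mat) * (((g : GLn)⁻¹ : GLn) : Mat)) *ᵥ v) = _
  have hi := (g⁻¹).2 u v
  simp only [← Matrix.mulVec_mulVec]
  show H (((g : GLn) : Mat) *ᵥ _) (((g : GLn) : Mat) *ᵥ _) = _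
  rw [GU_H]
  exact (s.2 _ _).trans hi

/-- Conjugation by a unitary matrix. -/
def cj : Cfsg.GU n F q →* MulAut SUn where
  toFun g :=
    { toFun := fun s => ⟨_, conj_mem_SU g s⟩
      invFun := fun s => ⟨_, conj_mem_SU g⁻¹ s⟩
      left_inv := fun s => by
        apply Subtype.ext; apply Subtype.ext
        simp [Matrix.mul_assoc]
      right_inv := fun s => by
        apply Subtype.ext; apply Subtype.ext
        simp [Matrix.mul_assoc]
      map_mul' := fun a b => by
        apply Subtype.ext; apply Subtype.ext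
        show _ = (_ * _) * (_ * _)
        simp [Matrix.mul_assoc] }
  map_one' := MulEquiv.ext fun s => Subtype.ext (Subtype.ext (by simp))
  map_mul' g h := MulEquiv.ext fun s => Subtype.ext (Subtype.ext (by
    simp [Matrix.mul_assoc, _root_.mul_inv_rev]))

omit hQ in
theorem cj_coe (g : Cfsg.GU n F q) (s : SUn) :
    (((cj g s : SUn) : Matrix.SpecialLinearGroup (Fin n) F) : Mat) =
      ((g : GLn) : Mat) * ((s : Matrix.SpecialLinearGroup (Fin n) F) : Mat) *
        (((g : GLn)⁻¹ : GLn) : Mat) := rfl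

omit hQ in
theorem cj_apply (g : Cfsg.GU n F q) (s : SUn) (v : V) :
    app (cj g s) (((g : GLn) : Mat) *ᵥ v) = ((g : GLn) : Mat) *ᵥ app s v := by
  rw [app, cj_coe, app, Matrix.mulVec_mulVec, Matrix.mulVec_mulVec, Matrix.mul_assoc,
    ← Units.val_mul, inv_mul_cancel, Units.val_one, Matrix.mul_one]

omit hQ in
theorem gu_mulVec_surjective (g : Cfsg.GU n F q) :
    Function.Surjective fun v : V => ((g : GLn) : Mat) *ᵥ v := fun w =>
  ⟨(((g : GLn)⁻¹ : GLn) : Mat) *ᵥ w, by simp [Matrix.mulVec_mulVec]⟩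

omit hQ in
theorem gu_mulVec_injective (g : Cfsg.GU n F q) :
    Function.Injective fun v : V => ((g : GLn) : Mat) *ᵥ v := fun u v h => by
  simpa [Matrix.mulVec_mulVec] using congrArg (fun w => (((g : GLn)⁻¹ : GLn) : Mat) *ᵥ w) h

theorem IsT.semilinear {x : V} {t : F} (h : IsT q x t) (g : Cfsg.GU n F q) (τ : F ≃+* F) :
    IsT q (((g : GLn) : Mat) *ᵥ vmap τ x) (τ t) :=
  ⟨by rw [GU_H, H_vmap, h.1, map_zero], by rw [qb_comm, ← map_add, h.2, map_zero]⟩

/-- The projection `SU → PSU`. -/
def proj (n : ℕ) (F : Type u) [Field F] (q : ℕ) : ↥(Cfsg.SU n F q) →* Cfsg.PSU n F q :=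
  QuotientGroup.mk' (Subgroup.center ↥(Cfsg.SU n F q))

omit hQ in
theorem proj_surjective : Function.Surjective (proj n F q) := QuotientGroup.mk'_surjective _

omit hQ in
theorem proj_eq_one_iff (s : SUn) : proj n F q s = 1 ↔ s ∈ Subgroup.center SUn :=
  QuotientGroup.eq_one_iff s

/-- An automorphism of `SU` acts on `PSU`. -/
def descend : MulAut SUn →* MulAut PSUn where
  toFun e := QuotientGroup.congr (Subgroup.center SUn) (Subgroup.center SUn) e (by
    ext x
    rw [Subgroup.mem_map]
    constructor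
    · rintro ⟨z, hz, rfl⟩
      exact MulEquivClass.apply_mem_center e hz
    · intro hx
      exact ⟨e.symm x, MulEquivClass.apply_mem_center e.symm hx, e.apply_symm_apply x⟩)
  map_one' := by
    ext x
    obtain ⟨s, rfl⟩ := QuotientGroup.mk_surjective x
    rfl
  map_mul' a b := by
    ext x
    obtain ⟨s, rfl⟩ := QuotientGroup.mk_surjective x
    rfl

omit hQ in
theorem descend_proj (e : MulAut SUn) (s : SUn) :
    descend e (proj n F q s) = proj n F q (e s) := rfl

omit hQ in
theorem descend_conj (s : SUn) : descend (MulAut.conj s) = MulAut.conj (proj n F q s) := by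
  ext x
  obtain ⟨t, rfl⟩ := proj_surjective x
  rw [descend_proj]
  simp

/-- The automorphism induced by the semilinear isometry `(g, τ)`. -/
def stdA (g : Cfsg.GU n F q) (τ : F ≃+* F) : MulAut PSUn := descend (cj g * fld τ)

omit hQ in
theorem stdA_proj (g : Cfsg.GU n F q) (τ : F ≃+* F) (s : SUn) :
    stdA g τ (proj n F q s) = proj n F q (cj g (fld τ s)) := rfl

theorem stdA_tr (g : Cfsg.GU n F q) (τ : F ≃+* F) {x : V} {t : F} (h : IsT q x t) :
    stdA g τ (proj n F q (tr x t h)) =
      proj n F q (tr (((g : GLn) : Mat) *ᵥ vmap τ x) (τ t) (h.semilinear g τ)) := by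
  rw [stdA_proj]
  congr 1
  apply su_ext
  intro v
  obtain ⟨v, rfl⟩ := gu_mulVec_surjective g v
  obtain ⟨v, rfl⟩ := vmap_surjective τ v
  show AutPSU.app _ _ = AutPSU.app _ _
  rw [cj_apply, fld_apply, tr_apply, tr_apply, GU_H, H_vmap, vmap_add, vmap_smul, map_mul,
    Matrix.mulVec_add, Matrix.mulVec_smul]

end Cfsg.Agent.AutPSU
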