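import Cfsg.Agent.Lib.AutPSU.Twisted
import Cfsg.Agent.Lib.AutPSL.GraphSim

/-!
# Graph automorphisms of `PSU_n` and forms over the fixed field
-/

set_option autoImplicit false
set_option linter.unusedSectionVars false

namespace Cfsg.Agent.AutPSU

open Matrix
open Cfsg.Agent.AutPSL (cyc glMap glMap_coe uMap)
open Cfsg.Agent.AutPSp (commSub mem_commSub splitClassCount_eq_index index_ker_sup)

universe u v

variable {F : Type u} [Field F] {q : ℕ} [hQ : QField F q] {n : ℕ}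

local notation "σ" => qb (F := F) q
local notation "Mat" => Matrix (Fin n) (Fin n) F
local notation "GLn" => GL (Fin n) F
local notation "PSUn" => Cfsg.PSU n F q
local notation "GUn" => Cfsg.GU n F q
local notation "N1" => normOne (F := F) (q := q)

/-- The graph automorphism attached to a unitary matrix. -/
noncomputable def gamU (B : GUn) : MulAut PSUn := descend (cj B) * stdF σ

theorem conj_gamU (h B : GUn) :
    descend (cj h) * gamU B * (descend (cj h))⁻¹ = gamU (h * B * (gF σ h)⁻¹) := by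
  rw [gamU, gamU, ← map_inv descend, ← map_inv cj, mul_assoc, mul_assoc _ (stdF σ), stdF_cj,
    ← mul_assoc _ _ (stdF σ), ← map_mul descend, ← map_mul cj, ← mul_assoc, ← map_mul descend, ← map_mul cj,
    map_inv (gF σ), mul_assoc]

theorem val_gF_inv (g : GUn) : ((gF σ g : GUn) : GLn) = glMap σ (g : GLn) := rfl

theorem unit_eq (g : GUn) : ((g : GLn) : Mat)ᵀ * ((g : GLn) : Mat).map σ = 1 := mem_GU_iff_mat.1 g.2

theorem qb_sq : (σ : F ≃+* F) * σ = 1 := RingEquiv.ext fun a => qb_qb a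

variable (p : ℕ) [Fact p.Prime] [CharP F p] (hn : 3 ≤ n)

include p hn

theorem gamU_eq_iff (B B' : GUn) :
    gamU B = gamU B' ↔ ∃ c : N1, ((B : GLn) : Mat) = ((c : Fˣ) : F) • ((B' : GLn) : Mat) := by
  rw [gamU, gamU, mul_left_inj, ← inv_mul_eq_one, eq_comm, ← map_inv descend, ← map_inv cj, ← map_mul descend,
    ← map_mul cj, eq_comm, descend_cj_eq_one p hn]
  constructor
  · rintro ⟨c, hc⟩
    refine ⟨c⁻¹, ?_⟩
    have h1 : B' = B * scalU (by omega) c := by rw [← hc, mul_inv_cancel_left]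
    rw [h1, Subgroup.coe_mul, Units.val_mul, scalU_coe, Matrix.mul_smul, mul_one, smul_smul, Subgroup.coe_inv,
      ← Units.val_mul, inv_mul_cancel, Units.val_one, one_smul]
  · rintro ⟨c, hc⟩
    refine ⟨c⁻¹, inv_mul_eq_iff_eq_mul.2 (Subtype.ext (Units.ext ?_))⟩
    rw [Subgroup.coe_mul, Units.val_mul, scalU_coe, Matrix.mul_smul, mul_one, hc, smul_smul, Subgroup.coe_inv,
      ← Units.val_mul, inv_mul_cancel, Units.val_one, one_smul]

theorem gamU_sq (B : GUn) :
    gamU B * gamU B = 1 ↔ ∃ c : N1, ((B : GLn) : Mat) * ((B : GLn) : Mat).map σ = ((c : Fˣ) : F) • 1 := by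
  have e : gamU B * gamU B = descend (cj (B * gF σ B)) := by
    rw [gamU, mul_assoc, ← mul_assoc (stdF σ), stdF_cj, mul_assoc, ← mul_assoc, ← map_mul descend, ← map_mul cj,
      show (stdF σ : MulAut PSUn) * stdF σ = 1 by rw [← pow_two, stdF_pow, pow_two, qb_sq]; exact stdF_refl,
      mul_one]
  rw [e, descend_cj_eq_one p hn]
  refine exists_congr fun c => ⟨fun h => ?_, fun h => Subtype.ext (Units.ext ?_)⟩
  · rw [← scalU_coe (n := n) (by omega) c, ← h]
    rfl
  · rw [scalU_coe, ← h]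
    rfl

/-- An involutory graph automorphism comes from a symmetric or alternating unitary matrix. -/
theorem exists_gamU_rep [Fintype F] {γ : MulAut PSUn} (hγ : Cfsg.IsGraphAutClassPSU γ) (h2 : orderOf γ = 2) :
    ∃ B : GUn, γ = gamU B ∧
      (((B : GLn) : Mat)ᵀ = ((B : GLn) : Mat) ∨ ((B : GLn) : Mat)ᵀ = -((B : GLn) : Mat)) := by
  obtain ⟨-, δ, φ, τ, hev, hδ, hφ, rfl⟩ := hγ
  obtain ⟨g, rfl⟩ := (isInnerDiagonal_iff δ).1 hδ
  obtain rfl := (isFieldOf_iff τ φ).1 hφ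
  have hτ2 : τ ^ 2 = 1 := by
    have h1 : stdA (g * guMap τ g) (τ.trans τ) = (1 : MulAut PSUn) := by
      rw [← stdA_mul, stdA_eq_mul, ← pow_two, ← h2]
      exact pow_orderOf_eq_one _
    rw [pow_two]
    exact RingEquiv.ext fun a => RingEquiv.congr_fun (stdA_eq_one p hn h1).1 a
  have hτ : τ = σ := by
    haveI : IsCyclic (F ≃+* F) := AutPSL.isCyclic_ringAut p
    have h1 : τ ≠ 1 := fun h => by
      rw [h, orderOf_one] at hev
      exact absurd hev (by decide)
    have hoτ : orderOf τ = 2 := orderOf_eq_prime hτ2 h1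
    haveI : Finite (F ≃+* F) := Finite.of_injective (fun e : F ≃+* F => (e : F → F)) DFunLike.coe_injective
    haveI : Fintype (F ≃+* F) := Fintype.ofFinite _
    classical
    have hc := IsCyclic.card_orderOf_eq_totient (α := F ≃+* F) (d := 2)
      (by rw [← hoτ]; exact orderOf_dvd_card)
    rw [Nat.totient_two, Finset.card_eq_one] at hc
    obtain ⟨a, ha⟩ := hc
    have e1 : τ ∈ ({a} : Finset (F ≃+* F)) := by rw [← ha]; simp [hoτ]
    have e2 : σ ∈ ({a} : Finset (F ≃+* F)) := by rw [← ha]; simp [orderOf_qb]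
    rw [Finset.mem_singleton.1 e1, Finset.mem_singleton.1 e2]
  subst hτ
  refine ⟨g, rfl, ?_⟩
  obtain ⟨c, hc⟩ := (gamU_sq p hn g).1 (by
    show (descend.comp cj) g * descend (fld σ) * ((descend.comp cj) g * descend (fld σ)) = 1
    rw [← pow_two, ← h2]; exact pow_orderOf_eq_one _)
  set M := ((g : GLn) : Mat)
  have hu : IsUnit (M.map σ) := ⟨glMap σ (g : GLn), rfl⟩
  have h1 : M = ((c : Fˣ) : F) • Mᵀ := hu.mul_right_cancel (by rw [hc, Matrix.smul_mul, unit_eq g])
  have h3 := congrArg Matrix.transpose h1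
  rw [Matrix.transpose_smul, Matrix.transpose_transpose] at h3
  have h4 : M = (((c : Fˣ) : F) * ((c : Fˣ) : F)) • M := by rw [mul_smul, ← h3, ← h1]
  have hcc : ((c : Fˣ) : F) * (c : Fˣ) = 1 := by
    by_contra hne
    have h0 : (((c : Fˣ) : F) * (c : Fˣ) - 1) • M = 0 := by rw [sub_smul, one_smul, ← h4, sub_self]
    rcases smul_eq_zero.1 h0 with h | h
    · exact hne (sub_eq_zero.1 h)
    · haveI : Nonempty (Fin n) := ⟨⟨0, by omega⟩⟩
      exact (g : GLn).ne_zero h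
  rcases mul_self_eq_one_iff.1 hcc with h | h
  · exact Or.inl (by rw [h3, h, one_smul])
  · exact Or.inr (by rw [h3, h, neg_smul, one_smul])

omit p hn
variable {F₀ : Type v} [Field F₀] (j : F₀ →+* F)

local notation "GLn₀" => GL (Fin n) F₀
local notation "jM" M => Matrix.map M j

/-- `M` is the form over the fixed field of the unitary matrix `B`. -/
def Desc (B : GUn) (M : GLn₀) : Prop :=
  ∃ (h : GLn) (μ s : Fˣ), ((μ : F) • ((B : GLn) : Mat)) * (h : Mat).map σ = h ∧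
    (h : Mat)ᵀ * (h : Mat).map σ = (s : F) • (jM (M : Matrix (Fin n) (Fin n) F₀))

variable (hj : ∀ a : F, qb (F := F) q a = a ↔ a ∈ j.range)

theorem jmap_smul (a : F₀) (M : Matrix (Fin n) (Fin n) F₀) : (jM (a • M)) = j a • jM M := by
  ext i k
  simp

theorem jmap_transpose (M : Matrix (Fin n) (Fin n) F₀) : (jM Mᵀ) = (jM M)ᵀ := rfl

theorem smap_smul (a : F) (M : Mat) : (a • M).map σ = σ a • M.map σ := by
  ext i k
  simp

theorem smap_smap (M : Mat) : (M.map σ).map σ = M := by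
  ext i k
  simp [qb_qb]

theorem smap_one : (1 : Mat).map σ = 1 := Matrix.map_one _ (map_zero σ) (map_one σ)

include hj

theorem smap_j (M : Matrix (Fin n) (Fin n) F₀) : (jM M).map σ = jM M := by
  ext i k
  exact (hj _).2 ⟨_, rfl⟩

theorem exists_jM {M : Mat} (hM : M.map σ = M) : ∃ N : Matrix (Fin n) (Fin n) F₀, (jM N) = M := by
  have hent : ∀ a b, ∃ z : F₀, j z = M a b := fun a b => (hj _).1 (congrFun (congrFun hM a) b)
  choose N hN using hent
  exact ⟨Matrix.of N, by ext a b; exact hN a b⟩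

omit hj in
theorem exists_jGL {M : GLn} {N : Matrix (Fin n) (Fin n) F₀} (h : (jM N) = (M : Mat)) :
    ∃ N' : GLn₀, (jM (N' : Matrix (Fin n) (Fin n) F₀)) = (M : Mat) := by
  have hu : IsUnit N := by
    rw [Matrix.isUnit_iff_isUnit_det, isUnit_iff_ne_zero]
    intro h0
    have := (Matrix.isUnit_iff_isUnit_det (M : Mat)).1 M.isUnit
    rw [← h, ← RingHom.mapMatrix_apply, ← RingHom.map_det, h0, map_zero] at this
    exact not_isUnit_zero this
  exact ⟨hu.unit, h⟩

variable [Finite F]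

/-- A symmetric or alternating unitary matrix descends. -/
theorem exists_desc (B : GUn) {ε : F₀} (hε : ε * ε = 1) (hB : ((B : GLn) : Mat)ᵀ = j ε • ((B : GLn) : Mat)) :
    ∃ M : GLn₀, Desc j B M ∧ (M : Matrix (Fin n) (Fin n) F₀)ᵀ = ε • (M : Matrix (Fin n) (Fin n) F₀) := by
  set M := ((B : GLn) : Mat)
  have hjε : σ (j ε) = j ε := (hj _).2 ⟨_, rfl⟩
  have hεε : j ε * j ε = 1 := by rw [← map_mul, hε, map_one]
  have hε0 : j ε ≠ 0 := left_ne_zero_of_mul_eq_one hεε
  have hMM : M * M.map σ = j ε • 1 := by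
    have h1 := unit_eq B
    rw [hB, Matrix.smul_mul] at h1
    rw [← h1, smul_smul, hεε, one_smul]
  obtain ⟨μ, hμ⟩ := exists_norm (F := F) (q := q) hjε
  have hμ0 : μ ≠ 0 := fun h => hε0 (by rw [← hμ, h, zero_mul])
  let g' : GLn := Matrix.GeneralLinearGroup.mkOfDetNeZero (μ • M) (by
    rw [Matrix.det_smul]
    exact mul_ne_zero (pow_ne_zero _ hμ0) ((Matrix.isUnit_iff_isUnit_det M).1 (B : GLn).isUnit).ne_zero)
  have hg' : g' * glMap σ g' = 1 := by
    apply Units.ext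
    show (μ • M) * (μ • M).map σ = 1
    rw [smap_smul, Matrix.smul_mul, Matrix.mul_smul, smul_smul, hμ, hMM, smul_smul, hεε, one_smul]
  have hord : orderOf (σ : F ≃+* F) = 2 := orderOf_qb
  obtain ⟨h, hh⟩ := AutPSL.exists_descent σ (by rw [hord]; norm_num) g' (by
    rw [hord]
    simpa [AutPSL.cyc] using hg')
  have hh' : (μ • M) * (h : Mat).map σ = h := congrArg Units.val hh
  set C := (h : Mat)ᵀ * (h : Mat).map σ with hC
  have hCs : C.map σ = ((h : Mat).map σ)ᵀ * (h : Mat) := by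
    rw [hC, Matrix.map_mul, smap_smap, Matrix.transpose_map]
  have hCε : C = j ε • C.map σ := by
    have e3 : (h : Mat)ᵀ = (μ * j ε) • (((h : Mat).map σ)ᵀ * M) := by
      conv_lhs => rw [← hh']
      rw [Matrix.transpose_mul, Matrix.transpose_smul, hB, smul_smul, Matrix.mul_smul]
    rw [hCs, hC, e3, Matrix.smul_mul, mul_comm μ, mul_smul, Matrix.mul_assoc, ← Matrix.mul_smul,
      ← Matrix.smul_mul μ M, hh']
  obtain ⟨s, hs0, hs⟩ : ∃ s : F, s ≠ 0 ∧ σ s = j ε * s := by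
    rcases mul_self_eq_one_iff.1 hε with h1 | h1
    · exact ⟨1, one_ne_zero, by rw [map_one, h1, map_one, one_mul]⟩
    · obtain ⟨k, hk0, hk⟩ := exists_skew (F := F) (q := q)
      exact ⟨k, hk0, by rw [h1, map_neg, map_one, neg_one_mul]; linear_combination hk⟩
  have hfix : (s⁻¹ • C).map σ = s⁻¹ • C := by
    rw [smap_smul, map_inv₀, hs]
    conv_rhs => rw [hCε]
    rw [smul_smul, mul_inv, inv_eq_of_mul_eq_one_right hεε, mul_comm]
  obtain ⟨N, hN⟩ := exists_jM j hj hfix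
  have hCu : (s⁻¹ • C).det ≠ 0 := by
    rw [Matrix.det_smul, hC, Matrix.det_mul, Matrix.det_transpose,
      show ((h : Mat).map σ).det = σ (h : Mat).det from ((σ : F →+* F).map_det _).symm]
    have hd := ((Matrix.isUnit_iff_isUnit_det (h : Mat)).1 h.isUnit).ne_zero
    exact mul_ne_zero (pow_ne_zero _ (inv_ne_zero hs0)) (mul_ne_zero hd ((map_ne_zero σ).2 hd))
  obtain ⟨N', hN'⟩ := exists_jGL j (M := Matrix.GeneralLinearGroup.mkOfDetNeZero _ hCu) hN
  have hN'' : (jM (N' : Matrix (Fin n) (Fin n) F₀)) = s⁻¹ • C := hN'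
  refine ⟨N', ⟨h, Units.mk0 μ hμ0, Units.mk0 s hs0, hh', ?_⟩, ?_⟩
  · rw [hN'', Units.val_mk0, smul_smul, mul_inv_cancel₀ hs0, one_smul]
  · apply Matrix.map_injective j.injective
    show (jM (N' : Matrix (Fin n) (Fin n) F₀)ᵀ) = jM (ε • (N' : Matrix (Fin n) (Fin n) F₀))
    rw [jmap_transpose, jmap_smul, hN'', Matrix.transpose_smul]
    have hCT : Cᵀ = C.map σ := by rw [hC, hCs, Matrix.transpose_mul, Matrix.transpose_transpose]
    conv_rhs => rw [hCε]
    rw [hCT, smul_smul, smul_smul, mul_right_comm, hεε, one_mul]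

omit hj in
theorem desc_skew_iff {B : GUn} {M : GLn₀} {h : GLn} {s : Fˣ}
    (hC : (h : Mat)ᵀ * (h : Mat).map σ = (s : F) • (jM (M : Matrix (Fin n) (Fin n) F₀)))
    (hσ : (jM (M : Matrix (Fin n) (Fin n) F₀)).map σ = jM (M : Matrix (Fin n) (Fin n) F₀)) :
    (s : F) • (jM (M : Matrix (Fin n) (Fin n) F₀))ᵀ = σ s • jM (M : Matrix (Fin n) (Fin n) F₀) := by
  have h1 : ((h : Mat)ᵀ * (h : Mat).map σ)ᵀ = ((h : Mat)ᵀ * (h : Mat).map σ).map σ := by
    rw [Matrix.transpose_mul, Matrix.transpose_transpose, Matrix.map_mul, smap_smap, Matrix.transpose_map]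
  rw [hC, Matrix.transpose_smul, smap_smul, hσ] at h1
  exact h1

include p hn

/-- Every symmetric or alternating form over the fixed field occurs. -/
theorem exists_of_form (M : GLn₀) {ε : F₀} (hε : ε * ε = 1)
    (hM : (M : Matrix (Fin n) (Fin n) F₀)ᵀ = ε • (M : Matrix (Fin n) (Fin n) F₀)) :
    ∃ B : GUn, Desc j B M ∧ Cfsg.IsGraphAutClassPSU (gamU B) ∧ orderOf (gamU B) = 2 := by
  have hjε : σ (j ε) = j ε := (hj _).2 ⟨_, rfl⟩
  have hεε : j ε * j ε = 1 := by rw [← map_mul, hε, map_one]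
  have hε0 : j ε ≠ 0 := left_ne_zero_of_mul_eq_one hεε
  obtain ⟨s, hs0, hs⟩ : ∃ s : F, s ≠ 0 ∧ σ s = j ε * s := by
    rcases mul_self_eq_one_iff.1 hε with h1 | h1
    · exact ⟨1, one_ne_zero, by rw [map_one, h1, map_one, one_mul]⟩
    · obtain ⟨k, hk0, hk⟩ := exists_skew (F := F) (q := q)
      exact ⟨k, hk0, by rw [h1, map_neg, map_one, neg_one_mul]; linear_combination hk⟩
  set J := jM (M : Matrix (Fin n) (Fin n) F₀) with hJ
  have hJu : (s • J).det ≠ 0 := by
    rw [Matrix.det_smul, hJ, ← RingHom.mapMatrix_apply, ← RingHom.map_det]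
    exact mul_ne_zero (pow_ne_zero _ hs0)
      ((map_ne_zero j).2 ((Matrix.isUnit_iff_isUnit_det _).1 M.isUnit).ne_zero)
  have hJσ : (s • J).map σ = j ε • (s • J) := by rw [smap_smul, hs, hJ, smap_j j hj, mul_smul]
  have hJT : ((s • J).map σ)ᵀ = s • J := by
    rw [hJσ, Matrix.transpose_smul, Matrix.transpose_smul, hJ, ← jmap_transpose, hM, jmap_smul, smul_smul, smul_smul]
    congr 1
    linear_combination s * hεε
  obtain ⟨x, hx⟩ := AutPSL.exists_hermitian_congr σ qb_qb qb_ne_refl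
    (Matrix.GeneralLinearGroup.mkOfDetNeZero _ hJu) hJT
  let h : GLn := ⟨(x : Mat)ᵀ, ((x⁻¹ : GLn) : Mat)ᵀ, by rw [← Matrix.transpose_mul, Units.inv_mul, Matrix.transpose_one],
    by rw [← Matrix.transpose_mul, Units.mul_inv, Matrix.transpose_one]⟩
  have hC : (h : Mat)ᵀ * (h : Mat).map σ = s • J := by
    show ((x : Mat)ᵀ)ᵀ * ((x : Mat)ᵀ).map σ = _
    rw [Matrix.transpose_transpose]
    exact hx.symm
  have hC2 : ((h : Mat).map σ)ᵀ * (h : Mat) = j ε • (s • J) := by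
    rw [← hJσ, ← hC, Matrix.map_mul, smap_smap]
    rfl
  obtain ⟨μ, hμ⟩ := exists_norm (F := F) (q := q) hjε
  have hμ0 : μ ≠ 0 := fun h => hε0 (by rw [← hμ, h, zero_mul])
  let g' : GLn := h * (glMap σ h)⁻¹
  have hg1 : (g' : Mat) * (h : Mat).map σ = h := by
    rw [← glMap_coe, ← Units.val_mul, inv_mul_cancel_right]
  have hg2 : (g' : Mat) * (g' : Mat).map σ = 1 := by
    rw [← glMap_coe, ← Units.val_mul]
    have hgg : glMap σ (glMap σ h) = h := Units.ext (smap_smap _)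
    show ((h * (glMap σ h)⁻¹ * glMap σ (h * (glMap σ h)⁻¹) : GLn) : Mat) = 1
    rw [map_mul, map_inv, hgg, mul_assoc, inv_mul_cancel_left, mul_inv_cancel, Units.val_one]
  have e1 : (g' : Mat).map σ * (h : Mat) = (h : Mat).map σ := by
    have := congrArg (fun X : Mat => X.map σ) hg1
    rw [Matrix.map_mul, smap_smap] at this
    exact this
  have hg3 : (g' : Mat)ᵀ * (g' : Mat).map σ = j ε • 1 := by
    have hu : IsUnit ((h : Mat).map σ)ᵀ := (Matrix.isUnit_transpose _).2 (glMap σ h).isUnit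
    refine hu.mul_left_cancel (h.isUnit.mul_right_cancel ?_)
    rw [← Matrix.mul_assoc ((h : Mat).map σ)ᵀ, ← Matrix.transpose_mul, hg1, Matrix.mul_assoc, e1, hC,
      Matrix.mul_smul, mul_one, Matrix.smul_mul, hC2, smul_smul, hεε, one_smul]
  let B0 : GLn := Matrix.GeneralLinearGroup.mkOfDetNeZero (μ⁻¹ • (g' : Mat)) (by
    rw [Matrix.det_smul]
    exact mul_ne_zero (pow_ne_zero _ (inv_ne_zero hμ0)) ((Matrix.isUnit_iff_isUnit_det _).1 g'.isUnit).ne_zero)
  have hμ' : μ⁻¹ * σ μ⁻¹ = j ε := by rw [map_inv₀, ← mul_inv, hμ, inv_eq_of_mul_eq_one_right hεε]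
  have hB0 : B0 ∈ GUn := mem_GU_iff_mat.2 (by
    show (μ⁻¹ • (g' : Mat))ᵀ * (μ⁻¹ • (g' : Mat)).map σ = 1
    rw [Matrix.transpose_smul, smap_smul, Matrix.smul_mul, Matrix.mul_smul, smul_smul, hμ', hg3, smul_smul, hεε,
      one_smul])
  refine ⟨⟨B0, hB0⟩, ⟨h, Units.mk0 μ hμ0, Units.mk0 s hs0, ?_, hC⟩, ?_, ?_⟩
  · show (μ • (μ⁻¹ • (g' : Mat))) * _ = _
    rw [smul_smul, mul_inv_cancel₀ hμ0, one_smul, hg1]
  · exact ⟨hn, descend (cj ⟨B0, hB0⟩), descend (fld σ), σ, by rw [orderOf_qb]; decide,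
      (isInnerDiagonal_iff _).2 ⟨_, rfl⟩, (isFieldOf_iff _ _).2 rfl, rfl⟩
  · have hN : Units.mk0 (j ε) hε0 ∈ normOne (F := F) (q := q) := mem_normOne.2 (Units.ext (by
      rw [Units.val_pow_eq_pow_val, Units.val_mk0, Units.val_one, pow_succ', ← qb_apply (q := q) (j ε), hjε, hεε]))
    refine orderOf_eq_prime ?_ fun h1 => ?_
    · rw [pow_two, gamU_sq p hn]
      refine ⟨⟨_, hN⟩, ?_⟩
      show (μ⁻¹ • (g' : Mat)) * (μ⁻¹ • (g' : Mat)).map σ = j ε • 1
      rw [smap_smul, Matrix.smul_mul, Matrix.mul_smul, smul_smul, hμ', hg2]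
    · exact qb_ne_refl (stdA_eq_one p hn (g := ⟨B0, hB0⟩) (τ := σ) (by rw [stdA_eq_mul]; exact h1)).1

end Cfsg.Agent.AutPSU
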