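import Cfsg.Agent.Lib.AutPSU.GraphMain
import Cfsg.Agent.Lib.AutPSL.GraphOdd
import Cfsg.Agent.Lib.AutPSL.GraphTwoEven

/-!
# Involutory graph automorphisms of `PSU_n` over a given field with `q` elements
-/

set_option autoImplicit false
set_option linter.unusedSectionVars false

namespace Cfsg.Agent.AutPSU

open Matrix
open Cfsg.Agent.AutPSL (uMap)
open Cfsg.Agent.AutPSp (commSub)

universe u v

theorem exists_prime_pow {F : Type u} [Field F] [Fintype F] {q : ℕ} (hF : Fintype.card F = q ^ 2) :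
    ∃ p f : ℕ, p.Prime ∧ CharP F p ∧ q = p ^ f ∧ 1 ≤ f := by
  obtain ⟨p, hp⟩ := CharP.exists F
  obtain ⟨k, hpp, hk⟩ := FiniteField.card F p
  have hd : q ∣ p ^ (k : ℕ) := ⟨q, by rw [← hk, hF, pow_two]⟩
  obtain ⟨i, -, hi⟩ := (Nat.dvd_prime_pow hpp).1 hd
  refine ⟨p, i, hpp, hp, hi, Nat.one_le_iff_ne_zero.2 fun h0 => ?_⟩
  have := Fintype.one_lt_card (α := F)
  rw [hF, hi, h0, pow_zero, one_pow] at this
  exact lt_irrefl _ this

/-- The field with `q` elements inside the one with `q²`. -/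
theorem exists_embedding {F : Type u} [Field F] [Fintype F] {q : ℕ} [hQ : QField F q] (F₀ : Type v) [Field F₀]
    [Fintype F₀] (hF₀ : Fintype.card F₀ = q) :
    ∃ j : F₀ →+* F, ∀ a : F, qb (F := F) q a = a ↔ a ∈ j.range := by
  classical
  obtain ⟨p, f, hp, hc, hq, hf⟩ := exists_prime_pow (F := F) (q := q)
    (by rw [← Nat.card_eq_fintype_card, hQ.card])
  haveI := Fact.mk hp
  have hF : Fintype.card F = p ^ (2 * f) := by
    rw [← Nat.card_eq_fintype_card, hQ.card, hq, ← pow_mul, mul_comm]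
  obtain ⟨-, hK⟩ := AutPSL.card_fixedField hF (qb (F := F) q) orderOf_qb (by norm_num)
  rw [Nat.mul_div_cancel_left _ (by norm_num : 0 < 2), ← hq] at hK
  haveI : Fintype (((qb (F := F) q : F ≃+* F) : F →+* F).eqLocusField (RingHom.id F)) := Fintype.ofFinite _
  let e : F₀ ≃+* ((qb (F := F) q : F ≃+* F) : F →+* F).eqLocusField (RingHom.id F) :=
    FiniteField.ringEquivOfCardEq (by rw [hF₀, ← Nat.card_eq_fintype_card, hK])
  refine ⟨(Subfield.subtype _).comp e.toRingHom, fun a => ⟨fun h => ⟨e.symm ⟨a, h⟩, ?_⟩, ?_⟩⟩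
  · simp
  · rintro ⟨x, rfl⟩
    exact (e x).2

theorem two_ne_zero_of_odd {F₀ : Type v} [Field F₀] [Fintype F₀] {q : ℕ} (hF₀ : Fintype.card F₀ = q) (hodd : Odd q) :
    (2 : F₀) ≠ 0 := Ring.two_ne_zero fun h => by
  have := FiniteField.even_card_of_char_two h
  rw [Nat.odd_iff] at hodd
  omega

variable {F : Type u} [Field F] [Fintype F] {q : ℕ} [hQ : QField F q] {n m : ℕ} [Nonempty (Fin n)]
variable {F₀ : Type v} [Field F₀] [Fintype F₀] (j : F₀ →+* F)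
variable (hj : ∀ a : F, qb (F := F) q a = a ↔ a ∈ j.range)
variable (p : ℕ) [Fact p.Prime] [CharP F p] (hn : 3 ≤ n)

include hj p hn

/-- Every involutory graph automorphism has a form. -/
theorem exists_form {γ : MulAut (Cfsg.PSU n F q)} (hγ : Cfsg.IsGraphAutClassPSU γ) (h2 : orderOf γ = 2) :
    ∃ (B : Cfsg.GU n F q) (M : GL (Fin n) F₀), γ = gamU B ∧ Desc j B M ∧ (M.1ᵀ = M.1 ∨ M.1ᵀ = -M.1) := by
  obtain ⟨B, rfl, hs | hs⟩ := exists_gamU_rep p hn hγ h2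
  · obtain ⟨M, hM, hMT⟩ := exists_desc j hj B (ε := 1) (one_mul 1) (by rw [map_one, one_smul]; exact hs)
    exact ⟨B, M, rfl, hM, Or.inl (by rw [hMT, one_smul])⟩
  · obtain ⟨M, hM, hMT⟩ := exists_desc j hj B (ε := -1) (by ring) (by rw [map_neg, map_one, neg_smul, one_smul]; exact hs)
    exact ⟨B, M, rfl, hM, Or.inr (by rw [hMT, neg_smul, one_smul])⟩

/-- Every form has an involutory graph automorphism. -/
theorem exists_graph (M : GL (Fin n) F₀) (hM : M.1ᵀ = M.1 ∨ M.1ᵀ = -M.1) :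
    ∃ B : Cfsg.GU n F q, Desc j B M ∧ Cfsg.IsGraphAutClassPSU (gamU B) ∧ orderOf (gamU B) = 2 := by
  rcases hM with h | h
  · exact exists_of_form p hn j hj M (ε := 1) (one_mul 1) (by rw [one_smul]; exact h)
  · exact exists_of_form p hn j hj M (ε := -1) (by ring) (by rw [neg_smul, one_smul]; exact h)

theorem centralizer_model {B : Cfsg.GU n F q} {M : GL (Fin n) F₀} (hD : Desc j B M) {G : Type v} [Group G]
    (e : Nonempty (Cfsg.projQuot (AutPSL.simB M.1) ≃* G)) :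
    Nonempty (↥(Cfsg.inndiagPSU n F q ⊓ Subgroup.centralizer {gamU B}) ≃* G) := by
  obtain ⟨e₁⟩ := centralizer_gamU j hj p hn hD
  obtain ⟨e₂⟩ := e
  exact ⟨e₁.trans e₂⟩

omit hj p hn in
theorem two_zero_neg (h2 : (2 : F₀) = 0) (M : GL (Fin n) F₀) : -M.1 = M.1 := by
  ext a b
  rw [Matrix.neg_apply, neg_eq_iff_add_eq_zero, ← two_mul, h2, zero_mul]

/-- In odd dimension there is one class of forms. -/
theorem odd_dim_classes (hnm : n = 2 * m + 1) {γ γ' : MulAut (Cfsg.PSU n F q)} (hγ : Cfsg.IsGraphAutClassPSU γ)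
    (hγ2 : orderOf γ = 2) (hγ' : Cfsg.IsGraphAutClassPSU γ') (hγ'2 : orderOf γ' = 2) :
    Nonempty (↥(Cfsg.inndiagPSU n F q ⊓ Subgroup.centralizer {γ}) ≃* Cfsg.PGO F₀ (Cfsg.quadFormOdd m F₀)) ∧
      Cfsg.IsConjUnder (Cfsg.inndiagPSU n F q) γ γ' := by
  obtain ⟨B, M, rfl, hD, hs⟩ := exists_form j hj p hn hγ hγ2
  obtain ⟨B', M', rfl, hD', hs'⟩ := exists_form j hj p hn hγ' hγ'2
  by_cases h2 : (2 : F₀) = 0
  · haveI : CharP F₀ 2 := CharTwo.of_one_ne_zero_of_two_eq_zero one_ne_zero h2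
    have hM : M.1ᵀ = M.1 := hs.elim id fun h => h.trans (two_zero_neg h2 M)
    have hM' : M'.1ᵀ = M'.1 := hs'.elim id fun h => h.trans (two_zero_neg h2 M')
    have h1 := AutPSL.hasModel_fTwo hnm M hM
    obtain ⟨e₂⟩ := h1.projQuot_equiv
    obtain ⟨e₃⟩ := AutPSL.fTwo_pgsp (F := F₀) (m := m) (by omega)
    obtain ⟨e₄⟩ := AutPSL.pgoOdd_pgsp (F := F₀) (m := m) (by omega)
    exact ⟨centralizer_model j hj p hn hD ⟨e₂.trans (e₃.trans e₄.symm)⟩,
      (conj_iff_congr j hj p hn hD hD').2 (h1.congr (AutPSL.hasModel_fTwo hnm M' hM'))⟩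
  · have hM : M.1ᵀ = M.1 := hs.resolve_right (AutPSL.symm_of_odd h2 ⟨m, hnm⟩ M)
    have hM' : M'.1ᵀ = M'.1 := hs'.resolve_right (AutPSL.symm_of_odd h2 ⟨m, hnm⟩ M')
    have h1 := AutPSL.hasModel_qOdd h2 hnm M hM
    have e := h1.pgo_equiv _ h2
    rw [FormsLib.coe_qOdd] at e
    exact ⟨centralizer_model j hj p hn hD e,
      (conj_iff_congr j hj p hn hD hD').2 (h1.congr (AutPSL.hasModel_qOdd h2 hnm M' hM'))⟩

omit hj p hn

local notation "N1" => normOne (F := F) (q := q)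
local notation "jU" => Units.map (RingHom.toMonoidHom j)

theorem normOne_of (y : Fˣ) (h : (y : F) * qb (F := F) q (y : F) = 1) : y ∈ normOne (F := F) (q := q) := by
  refine mem_normOne.2 (Units.ext ?_)
  rw [Units.val_pow_eq_pow_val, Units.val_one, pow_succ', ← qb_apply (q := q)]
  exact h

theorem index_N1 (k : ℕ) : (powMonoidHom k : N1 →* N1).range.index = Nat.gcd k (q + 1) := by
  rw [IsCyclic.index_powMonoidHom_range, card_normOne, Nat.gcd_comm]

include hj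

theorem jU_fixed (c : F₀ˣ) : qb (F := F) q (j (c : F₀)) = j (c : F₀) := (hj _).2 ⟨_, rfl⟩

theorem norm_one_of_mult {b : Fˣ} {c r : F₀ˣ} (hr : r ^ 2 = c) (hb : (b : F) * qb (F := F) q (b : F) * j c = 1) :
    b * jU r ∈ normOne (F := F) (q := q) := by
  refine normOne_of _ ?_
  have h1 : (r : F₀) * r = c := by rw [← pow_two, ← Units.val_pow_eq_pow_val, hr]
  rw [← h1, map_mul] at hb
  show ((b : F) * j (r : F₀)) * qb (F := F) q ((b : F) * j (r : F₀)) = 1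
  rw [map_mul, jU_fixed j hj]
  linear_combination hb

theorem norm_one_sq {b : Fˣ} {c : F₀ˣ} (hb : (b : F) * qb (F := F) q (b : F) * j c = 1) :
    b ^ 2 * jU c ∈ normOne (F := F) (q := q) := by
  refine normOne_of _ ?_
  show ((b ^ 2 : Fˣ) : F) * j (c : F₀) * qb (F := F) q (((b ^ 2 : Fˣ) : F) * j (c : F₀)) = 1
  rw [Units.val_pow_eq_pow_val, map_mul, map_pow, jU_fixed j hj]
  linear_combination ((b : F) * qb (F := F) q (b : F) * j c + 1) * hb

/-- A norm-one element comes from a multiplier. -/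
theorem exists_sq_mult (y : N1) :
    ∃ (b : Fˣ) (c : F₀ˣ), (b : F) * qb (F := F) q (b : F) * j c = 1 ∧ (y : Fˣ) = b ^ 2 * jU c := by
  obtain ⟨b, hb⟩ := AutPSL.exists_hilbert90 (qb (F := F) q) (by rw [orderOf_qb]; norm_num) (y : Fˣ) (by
    rw [orderOf_qb]
    apply Units.ext
    simpa [AutPSL.cyc, uMap] using coe_norm_eq_one y.2)
  have hs := (map_ne_zero (qb (F := F) q)).2 b.ne_zero
  have hfix : qb (F := F) q ((b : F) * qb (F := F) q (b : F))⁻¹ = ((b : F) * qb (F := F) q (b : F))⁻¹ := by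
    rw [map_inv₀, map_mul, qb_qb, mul_comm]
  obtain ⟨c, hc⟩ := (hj _).1 hfix
  have hc0 : c ≠ 0 := fun h0 => inv_ne_zero (mul_ne_zero b.ne_zero hs) (by rw [← hc, h0, map_zero])
  refine ⟨b, Units.mk0 c hc0, by rw [Units.val_mk0, hc, mul_inv_cancel₀ (mul_ne_zero b.ne_zero hs)], Units.ext ?_⟩
  have hy := congrArg Units.val hb
  rw [Units.val_mul, Units.val_inv_eq_inv_val] at hy
  rw [Units.val_mul, Units.val_pow_eq_pow_val]
  show ((y : Fˣ) : F) = (b : F) ^ 2 * j c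
  rw [hc, hy]
  show (b : F) * (qb (F := F) q (b : F))⁻¹ = _
  field_simp

include p hn

theorem split_generic (h : Odd n ∨ (2 : F₀) = 0) {B : Cfsg.GU n F q} {M : GL (Fin n) F₀} (hD : Desc j B M) :
    (commSub (descend.comp cj) (gamU B)).map (detHom (n := n) (F := F) (q := q)) =
      (powMonoidHom n : N1 →* N1).range := by
  ext x
  rw [mem_detImage j hj p hn hD]
  constructor
  · rintro ⟨k, b, c, hk, hb, hx⟩
    obtain ⟨r, hr, hrc⟩ := AutPSL.exists_sqrt_det h hk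
    refine ⟨⟨_, norm_one_of_mult j hj hrc hb⟩, Subtype.ext ?_⟩
    rw [hx, ← hr, map_pow, ← mul_pow]
    rfl
  · rintro ⟨y, rfl⟩
    refine ⟨1, (y : Fˣ), 1, ?_, ?_, ?_⟩
    · rw [Units.val_one, Units.val_one, Matrix.transpose_one, one_mul, mul_one, one_smul]
    · rw [Units.val_one, map_one, mul_one]
      exact coe_norm_eq_one y.2
    · rw [map_one, map_one, mul_one]
      rfl

theorem split_alt (hnm : n = 2 * m) {B : Cfsg.GU n F q} {M : GL (Fin n) F₀} (hD : Desc j B M)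
    (hM : AutPSL.HasModel M (Cfsg.sympForm m F₀)) :
    (commSub (descend.comp cj) (gamU B)).map (detHom (n := n) (F := F) (q := q)) =
      (powMonoidHom m : N1 →* N1).range := by
  have e : ∀ b : Fˣ, ∀ c : F₀ˣ, b ^ n * jU (c ^ m) = (b ^ 2 * jU c) ^ m := fun b c => by
    rw [mul_pow, map_pow, ← pow_mul, congrArg (b ^ ·) hnm]
  ext x
  rw [mem_detImage j hj p hn hD]
  constructor
  · rintro ⟨k, b, c, hk, hb, hx⟩
    refine ⟨⟨_, norm_one_sq j hj hb⟩, Subtype.ext ?_⟩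
    rw [hx, AutPSL.det_of_alt hM hk, e]
    rfl
  · rintro ⟨y, rfl⟩
    obtain ⟨b, c, hb, hy⟩ := exists_sq_mult j hj y
    obtain ⟨k, hk, hkd⟩ := AutPSL.exists_alt_mult hM c
    refine ⟨k, b, c, hk, hb, ?_⟩
    rw [hkd, e, ← hy]
    rfl

theorem split_symm (h2 : (2 : F₀) ≠ 0) (hm : 1 ≤ m) (hnm : n = 2 * m) {B : Cfsg.GU n F q} {M : GL (Fin n) F₀}
    (hD : Desc j B M) (hM : M.1ᵀ = M.1) :
    (commSub (descend.comp cj) (gamU B)).map (detHom (n := n) (F := F) (q := q)) =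
      (powMonoidHom (2 * m) : N1 →* N1).range.comap (powMonoidHom 2) := by
  have e : ∀ b : Fˣ, ∀ c : F₀ˣ, (b ^ 2 * jU c) ^ (2 * m) = (b ^ n) ^ 2 * jU (c ^ n) := fun b c => by
    rw [mul_pow, map_pow, ← pow_mul, ← pow_mul, congrArg (fun i => (jU c) ^ i) hnm]
    congr 2
    omega
  ext x
  rw [mem_detImage j hj p hn hD]
  constructor
  · rintro ⟨k, b, c, hk, hb, hx⟩
    refine ⟨⟨_, norm_one_sq j hj hb⟩, Subtype.ext ?_⟩
    show (b ^ 2 * jU c) ^ (2 * m) = (x : Fˣ) ^ 2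
    rw [hx, e, mul_pow _ (jU _), ← map_pow, AutPSL.simB_det_sq M hk]
  · rintro ⟨y, hy⟩
    have hy' : ((y : Fˣ)) ^ (2 * m) = (x : Fˣ) ^ 2 := congrArg Subtype.val hy
    obtain ⟨b, c, hb, hyb⟩ := exists_sq_mult j hj y
    rw [hyb, e] at hy'
    have h1 : ((x : Fˣ) * (b ^ n)⁻¹) ^ 2 = (jU (c ^ m)) ^ 2 := by
      rw [mul_pow, ← hy', inv_pow, mul_right_comm, mul_inv_cancel, one_mul, ← map_pow]
      congr 1
      rw [← pow_mul]
      congr 1
      omega
    have h1' : ((((x : Fˣ) * (b ^ n)⁻¹ : Fˣ)) : F) ^ 2 = (j ((c ^ m : F₀ˣ) : F₀)) ^ 2 := by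
      rw [← Units.val_pow_eq_pow_val, h1, Units.val_pow_eq_pow_val]
      rfl
    obtain ⟨d, hd, hdd⟩ : ∃ d : F₀ˣ, (x : Fˣ) = b ^ n * jU d ∧ d ^ 2 = c ^ n := by
      rcases eq_or_eq_neg_of_sq_eq_sq _ _ h1' with h | h
      · refine ⟨c ^ m, ?_, by rw [← pow_mul]; congr 1; omega⟩
        rw [show jU (c ^ m) = (x : Fˣ) * (b ^ n)⁻¹ from Units.ext h.symm, mul_comm, inv_mul_cancel_right]
      · refine ⟨-(c ^ m), ?_, by rw [neg_sq, ← pow_mul]; congr 1; omega⟩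
        rw [show jU (-(c ^ m)) = (x : Fˣ) * (b ^ n)⁻¹ from
          Units.ext (by rw [h, ← map_neg, ← Units.val_neg]; rfl), mul_comm, inv_mul_cancel_right]
    obtain ⟨k, hk, hkd⟩ := AutPSL.exists_simB_det h2 hm hnm M hM c d hdd
    exact ⟨k, b, c, hk, hb, by rw [hkd, hd]⟩

omit hj p hn in
theorem index_N1_sq (hodd : Odd q) (k : ℕ) :
    ((powMonoidHom (2 * k) : N1 →* N1).range.comap (powMonoidHom 2)).index = Nat.gcd (2 * k) (q + 1) / 2 := by
  have h : 2 ∣ Nat.card N1 := by rw [card_normOne]; exact even_iff_two_dvd.1 hodd.add_one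
  rw [AutPSL.index_comap_sq_cyclic h, card_normOne]

end Cfsg.Agent.AutPSU
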