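import Cfsg.Agent.Lib.AutPSU.GraphDesc

/-!
# Conjugacy and centralisers of graph automorphisms of `PSU_n`
-/

set_option autoImplicit false
set_option linter.unusedSectionVars false

namespace Cfsg.Agent.AutPSU

open Matrix
open Cfsg.Agent.AutPSL (cyc glMap glMap_coe uMap)
open Cfsg.Agent.AutPSp (commSub mem_commSub splitClassCount_eq_index index_ker_sup)

universe u v

variable {F : Type u} [Field F] [Finite F] {q : ℕ} [hQ : QField F q] {n : ℕ}

local notation "σ" => qb (F := F) q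
local notation "Mat" => Matrix (Fin n) (Fin n) F
local notation "GLn" => GL (Fin n) F
local notation "PSUn" => Cfsg.PSU n F q
local notation "GUn" => Cfsg.GU n F q
local notation "N1" => normOne (F := F) (q := q)

variable {F₀ : Type v} [Field F₀] (j : F₀ →+* F)

local notation "GLn₀" => GL (Fin n) F₀
local notation "jM" X => Matrix.map (X : Matrix (Fin n) (Fin n) F₀) j

theorem jmap_mul (X Y : Matrix (Fin n) (Fin n) F₀) : (jM (X * Y)) = (jM X) * jM Y := Matrix.map_mul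

theorem det_jM (X : Matrix (Fin n) (Fin n) F₀) : (jM X).det = j X.det := by
  rw [← RingHom.mapMatrix_apply, ← RingHom.map_det]

theorem exists_entry [Nonempty (Fin n)] (M : GLn₀) : ∃ a b, (M : Matrix (Fin n) (Fin n) F₀) a b ≠ 0 := by
  by_contra hne
  push_neg at hne
  exact M.ne_zero (Matrix.ext hne)

/-- Comparing two multiples of a form. -/
theorem exists_ratio [Nonempty (Fin n)] {X : Matrix (Fin n) (Fin n) F₀} {M : GLn₀} {r : F}
    (h : (jM X) = r • jM (M : Matrix (Fin n) (Fin n) F₀)) :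
    ∃ c : F₀, j c = r ∧ X = c • (M : Matrix (Fin n) (Fin n) F₀) := by
  obtain ⟨a, b, hab⟩ := exists_entry M
  have h1 := congrFun (congrFun h a) b
  simp only [Matrix.map_apply, Matrix.smul_apply, smul_eq_mul] at h1
  have e : j (X a b / (M : Matrix (Fin n) (Fin n) F₀) a b) = r := by
    rw [map_div₀, h1, mul_div_cancel_right₀ _ ((map_ne_zero j).2 hab)]
  refine ⟨_, e, Matrix.map_injective j.injective ?_⟩
  show (jM X) = jM ((X a b / (M : Matrix (Fin n) (Fin n) F₀) a b) • (M : Matrix (Fin n) (Fin n) F₀))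
  rw [jmap_smul, e, h]

variable (hj : ∀ a : F, qb (F := F) q a = a ↔ a ∈ j.range)

theorem sigma_ne (b : Fˣ) : σ (b : F) ≠ 0 := (map_ne_zero σ).2 b.ne_zero

include hj

/-- Norms of the extension. -/
theorem exists_norm_unit (c : F₀ˣ) : ∃ b : Fˣ, (b : F) * σ (b : F) * j c = 1 := by
  have hfix : σ (j (c : F₀))⁻¹ = (j (c : F₀))⁻¹ := by rw [map_inv₀, (hj _).2 ⟨_, rfl⟩]
  obtain ⟨b, hb⟩ := exists_norm (F := F) (q := q) hfix
  have hc : j (c : F₀) ≠ 0 := (map_ne_zero j).2 c.ne_zero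
  have hb0 : b ≠ 0 := fun h => inv_ne_zero hc (by rw [← hb, h, zero_mul])
  exact ⟨Units.mk0 b hb0, by rw [Units.val_mk0, hb, inv_mul_cancel₀ hc]⟩

variable [Nonempty (Fin n)]

/-- An intertwiner is defined over the fixed field up to a scalar. -/
theorem intertwine {B B' u : GUn} {M M' : GLn₀} {h h' : GLn} {μ s μ' s' : Fˣ}
    (hB : ((μ : F) • ((B : GLn) : Mat)) * (h : Mat).map σ = h)
    (hM : (h : Mat)ᵀ * (h : Mat).map σ = (s : F) • (jM (M : Matrix (Fin n) (Fin n) F₀)))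
    (hB' : ((μ' : F) • ((B' : GLn) : Mat)) * (h' : Mat).map σ = h')
    (hM' : (h' : Mat)ᵀ * (h' : Mat).map σ = (s' : F) • (jM (M' : Matrix (Fin n) (Fin n) F₀))) {c : F}
    (hu : ((u : GLn) : Mat) * ((B : GLn) : Mat) = c • (((B' : GLn) : Mat) * ((u : GLn) : Mat).map σ)) :
    ∃ (k : GLn₀) (b : Fˣ) (c₀ : F₀ˣ),
      ((u : GLn) : Mat) * (h : Mat) = (b : F) • ((h' : Mat) * jM (k : Matrix (Fin n) (Fin n) F₀)) ∧
      (k : Matrix (Fin n) (Fin n) F₀)ᵀ * (M' : Matrix (Fin n) (Fin n) F₀) * (k : Matrix (Fin n) (Fin n) F₀) =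
        (c₀ : F₀) • (M : Matrix (Fin n) (Fin n) F₀) ∧
      (s' : F) * ((b : F) * σ (b : F)) * j c₀ = s := by
  set U := ((u : GLn) : Mat)
  set Bm := ((B : GLn) : Mat)
  set Bm' := ((B' : GLn) : Mat)
  set X := ((h'⁻¹ : GLn) : Mat) * U * (h : Mat) with hX
  have hUX : U * (h : Mat) = (h' : Mat) * X := by
    rw [hX, ← Matrix.mul_assoc, ← Matrix.mul_assoc, Units.mul_inv, one_mul]
  set a := (μ : F) * c / (μ' : F) with ha
  have hax : X = a • X.map σ := by
    refine h'.isUnit.mul_left_cancel ?_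
    have h1 : U * (h : Mat) = ((μ : F) * c) • (Bm' * (U * (h : Mat)).map σ) := by
      conv_lhs => rw [← hB]
      rw [Matrix.smul_mul, Matrix.mul_smul, ← Matrix.mul_assoc, hu, Matrix.smul_mul, smul_smul, Matrix.mul_assoc,
        ← Matrix.map_mul]
    rw [hUX, Matrix.map_mul, ← Matrix.mul_assoc Bm'] at h1
    have h2 : Bm' * (h' : Mat).map σ = (μ' : F)⁻¹ • (h' : Mat) := by
      conv_rhs => rw [← hB']
      rw [Matrix.smul_mul, smul_smul, inv_mul_cancel₀ μ'.ne_zero, one_smul]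
    rw [h2, Matrix.smul_mul, smul_smul] at h1
    rw [h1, Matrix.mul_smul, ha, div_eq_mul_inv]
  have hXu : IsUnit X := ((h'⁻¹).isUnit.mul (u : GLn).isUnit).mul h.isUnit
  have haa : a * σ a = 1 := by
    have h1 : X = (a * σ a) • X := by
      conv_lhs => rw [hax, hax, smap_smul, smap_smap]
      rw [smul_smul]
    have h2 : (1 - a * σ a) • X = 0 := by rw [sub_smul, one_smul, ← h1, sub_self]
    rcases smul_eq_zero.1 h2 with h3 | h3
    · exact (sub_eq_zero.1 h3).symm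
    · exact absurd h3 hXu.ne_zero
  have ha0 : a ≠ 0 := left_ne_zero_of_mul_eq_one haa
  obtain ⟨b₀, hb₀⟩ := AutPSL.exists_hilbert90 σ (by rw [orderOf_qb]; norm_num) (Units.mk0 a ha0) (by
    rw [orderOf_qb]
    apply Units.ext
    simpa [AutPSL.cyc, uMap] using haa)
  have hab : a = (b₀ : F) * (σ (b₀ : F))⁻¹ := by
    have := congrArg Units.val hb₀
    rw [Units.val_mk0, Units.val_mul, Units.val_inv_eq_inv_val] at this
    exact this
  have hfix : ((b₀ : F)⁻¹ • X).map σ = (b₀ : F)⁻¹ • X := by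
    rw [smap_smul, map_inv₀]
    conv_rhs => rw [hax, hab, smul_smul, ← mul_assoc, inv_mul_cancel₀ b₀.ne_zero, one_mul]
  obtain ⟨N, hN⟩ := exists_jM j hj hfix
  have hdet : ((b₀ : F)⁻¹ • X).det ≠ 0 := by
    rw [Matrix.det_smul]
    exact mul_ne_zero (pow_ne_zero _ (inv_ne_zero b₀.ne_zero)) ((Matrix.isUnit_iff_isUnit_det X).1 hXu).ne_zero
  obtain ⟨k, hk⟩ := exists_jGL j (M := Matrix.GeneralLinearGroup.mkOfDetNeZero _ hdet) hN
  have hk' : (jM (k : Matrix (Fin n) (Fin n) F₀)) = (b₀ : F)⁻¹ • X := hk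
  have hUh : U * (h : Mat) = (b₀ : F) • ((h' : Mat) * jM (k : Matrix (Fin n) (Fin n) F₀)) := by
    rw [hk', Matrix.mul_smul, smul_smul, mul_inv_cancel₀ b₀.ne_zero, one_smul, hUX]
  have key : (s : F) • (jM (M : Matrix (Fin n) (Fin n) F₀)) = ((s' : F) * ((b₀ : F) * σ (b₀ : F))) •
      (jM ((k : Matrix (Fin n) (Fin n) F₀)ᵀ * (M' : Matrix (Fin n) (Fin n) F₀) * (k : Matrix (Fin n) (Fin n) F₀))) := by
    have h1 : (h : Mat)ᵀ * (h : Mat).map σ = (U * (h : Mat))ᵀ * (U * (h : Mat)).map σ := by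
      rw [Matrix.transpose_mul, Matrix.map_mul, Matrix.mul_assoc, ← Matrix.mul_assoc Uᵀ, unit_eq u, one_mul]
    rw [← hM, h1, hUh, Matrix.transpose_smul, smap_smul, Matrix.smul_mul, Matrix.mul_smul, smul_smul,
      Matrix.transpose_mul, Matrix.map_mul, smap_j j hj, Matrix.mul_assoc, ← Matrix.mul_assoc (h' : Mat)ᵀ, hM',
      Matrix.smul_mul, Matrix.mul_smul, smul_smul, jmap_mul, jmap_mul, jmap_transpose, Matrix.mul_assoc]
    congr 1
    ring
  have hr : (s' : F) * ((b₀ : F) * σ (b₀ : F)) ≠ 0 :=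
    mul_ne_zero s'.ne_zero (mul_ne_zero b₀.ne_zero (sigma_ne b₀))
  obtain ⟨c₀, hc₀, hX'⟩ := exists_ratio j (r := ((s' : F) * ((b₀ : F) * σ (b₀ : F)))⁻¹ * (s : F))
    (X := (k : Matrix (Fin n) (Fin n) F₀)ᵀ * (M' : Matrix (Fin n) (Fin n) F₀) * (k : Matrix (Fin n) (Fin n) F₀))
    (M := M) (by rw [mul_smul, key, smul_smul, inv_mul_cancel₀ hr, one_smul])
  have hc₀0 : c₀ ≠ 0 := fun h0 => mul_ne_zero (inv_ne_zero hr) s.ne_zero (by rw [← hc₀, h0, map_zero])
  refine ⟨k, b₀, Units.mk0 c₀ hc₀0, hUh, hX', ?_⟩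
  rw [Units.val_mk0, hc₀, ← mul_assoc, mul_inv_cancel₀ hr, one_mul]

/-- A congruence over the fixed field gives an intertwiner. -/
theorem intertwine_rev {B B' : GUn} {M M' : GLn₀} {h h' : GLn} {μ s μ' s' : Fˣ}
    (hB : ((μ : F) • ((B : GLn) : Mat)) * (h : Mat).map σ = h)
    (hM : (h : Mat)ᵀ * (h : Mat).map σ = (s : F) • (jM (M : Matrix (Fin n) (Fin n) F₀)))
    (hB' : ((μ' : F) • ((B' : GLn) : Mat)) * (h' : Mat).map σ = h')
    (hM' : (h' : Mat)ᵀ * (h' : Mat).map σ = (s' : F) • (jM (M' : Matrix (Fin n) (Fin n) F₀)))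
    (k : GLn₀) (b : Fˣ) (c₀ : F₀ˣ)
    (hk : (k : Matrix (Fin n) (Fin n) F₀)ᵀ * (M' : Matrix (Fin n) (Fin n) F₀) * (k : Matrix (Fin n) (Fin n) F₀) =
      (c₀ : F₀) • (M : Matrix (Fin n) (Fin n) F₀))
    (hb : (s' : F) * ((b : F) * σ (b : F)) * j c₀ = s) :
    ∃ (u : GUn) (c : F),
      ((u : GLn) : Mat) * (h : Mat) = (b : F) • ((h' : Mat) * jM (k : Matrix (Fin n) (Fin n) F₀)) ∧
      ((u : GLn) : Mat) * ((B : GLn) : Mat) = c • (((B' : GLn) : Mat) * ((u : GLn) : Mat).map σ) := by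
  set J := jM (k : Matrix (Fin n) (Fin n) F₀) with hJ
  let U : GLn := Matrix.GeneralLinearGroup.mkOfDetNeZero
    ((b : F) • ((h' : Mat) * J * ((h⁻¹ : GLn) : Mat))) (by
      rw [Matrix.det_smul, Matrix.det_mul, Matrix.det_mul, hJ, det_jM]
      exact mul_ne_zero (pow_ne_zero _ b.ne_zero) (mul_ne_zero (mul_ne_zero
        ((Matrix.isUnit_iff_isUnit_det _).1 h'.isUnit).ne_zero
        ((map_ne_zero j).2 ((Matrix.isUnit_iff_isUnit_det _).1 k.isUnit).ne_zero))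
        ((Matrix.isUnit_iff_isUnit_det _).1 (h⁻¹).isUnit).ne_zero))
  have hUh : (U : Mat) * (h : Mat) = (b : F) • ((h' : Mat) * J) := by
    show ((b : F) • ((h' : Mat) * J * ((h⁻¹ : GLn) : Mat))) * (h : Mat) = _
    rw [Matrix.smul_mul, Matrix.mul_assoc _ _ (h : Mat), Units.inv_mul, mul_one]
  have hsU : IsUnit ((h : Mat).map σ) := (glMap σ h).isUnit
  have hUmem : U ∈ GUn := mem_GU_iff_mat.2 (by
    refine (Matrix.isUnit_transpose _).2 h.isUnit |>.mul_left_cancel (hsU.mul_right_cancel ?_)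
    rw [← Matrix.mul_assoc (h : Mat)ᵀ, ← Matrix.transpose_mul, Matrix.mul_assoc, ← Matrix.map_mul, hUh, mul_one, hM,
      Matrix.transpose_smul, smap_smul, Matrix.smul_mul, Matrix.mul_smul, smul_smul, Matrix.transpose_mul,
      Matrix.map_mul, hJ, smap_j j hj, Matrix.mul_assoc, ← Matrix.mul_assoc (h' : Mat)ᵀ, hM', Matrix.smul_mul,
      Matrix.mul_smul, smul_smul, ← jmap_transpose, ← jmap_mul, ← jmap_mul, ← Matrix.mul_assoc, hk, jmap_smul,
      smul_smul]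
    congr 1
    linear_combination hb)
  refine ⟨⟨U, hUmem⟩, (μ' : F) * (b : F) / ((μ : F) * σ (b : F)), hUh, ?_⟩
  show (U : Mat) * _ = _ • (_ * (U : Mat).map σ)
  refine hsU.mul_right_cancel ?_
  have h1 : (U : Mat).map σ * (h : Mat).map σ = σ (b : F) • ((h' : Mat).map σ * J) := by
    rw [← Matrix.map_mul, hUh, smap_smul, Matrix.map_mul, hJ, smap_j j hj]
  have h2 : ((B : GLn) : Mat) * (h : Mat).map σ = (μ : F)⁻¹ • (h : Mat) := by
    conv_rhs => rw [← hB]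
    rw [Matrix.smul_mul, smul_smul, inv_mul_cancel₀ μ.ne_zero, one_smul]
  have h3 : ((B' : GLn) : Mat) * (h' : Mat).map σ = (μ' : F)⁻¹ • (h' : Mat) := by
    conv_rhs => rw [← hB']
    rw [Matrix.smul_mul, smul_smul, inv_mul_cancel₀ μ'.ne_zero, one_smul]
  rw [Matrix.mul_assoc, h2, Matrix.mul_smul, hUh, smul_smul, Matrix.smul_mul, Matrix.mul_assoc, h1,
    Matrix.mul_smul, ← Matrix.mul_assoc, h3, Matrix.smul_mul, smul_smul, smul_smul]
  congr 1
  have := sigma_ne (q := q) b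
  field_simp

variable (p : ℕ) [Fact p.Prime] [CharP F p] (hn : 3 ≤ n)
include p hn

omit hj in
theorem rel_iff (h B B' : GUn) :
    gamU B' = gamU (h * B * (gF σ h)⁻¹) ↔
      ∃ c : F, ((h : GLn) : Mat) * ((B : GLn) : Mat) = c • (((B' : GLn) : Mat) * ((h : GLn) : Mat).map σ) := by
  rw [gamU_eq_iff p hn]
  have e0 : (((gF σ h : GUn) : GLn) : Mat) = ((h : GLn) : Mat).map σ := rfl
  constructor
  · rintro ⟨c, hc⟩
    refine ⟨((c : Fˣ) : F)⁻¹, ?_⟩
    rw [hc, Matrix.smul_mul, smul_smul, inv_mul_cancel₀ (c : Fˣ).ne_zero, one_smul, Subgroup.coe_mul,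
      Subgroup.coe_mul, Units.val_mul, Units.val_mul, ← e0, Subgroup.coe_inv, Units.inv_mul_cancel_right]
  · rintro ⟨c, hc⟩
    set T : GUn := h * B * (gF σ h)⁻¹ * B'⁻¹ with hT
    have hTv : ((T : GLn) : Mat) = c • 1 := by
      rw [hT, Subgroup.coe_mul, Subgroup.coe_mul, Subgroup.coe_mul, Units.val_mul, Units.val_mul, Units.val_mul, hc,
        Matrix.smul_mul, ← e0, Subgroup.coe_inv, Units.mul_inv_cancel_right, Matrix.smul_mul, Subgroup.coe_inv,
        Units.mul_inv]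
    have hc0 : c ≠ 0 := fun h0 => (T : GLn).ne_zero (by rw [hTv, h0, zero_smul])
    have hmem : Units.mk0 c hc0 ∈ normOne (F := F) (q := q) := by
      refine mem_normOne.2 ((mem_scalars_GU_iff (n := n) (by omega) _).1 ?_)
      have : Matrix.GeneralLinearGroup.scalar (Fin n) (Units.mk0 c hc0) = (T : GLn) := Units.ext (by
        simp [Matrix.GeneralLinearGroup.scalar, hTv, Matrix.smul_one_eq_diagonal])
      rw [this]
      exact T.2
    refine ⟨⟨_, hmem⟩⁻¹, ?_⟩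
    have h2 : h * B * (gF σ h)⁻¹ = T * B' := by rw [hT, inv_mul_cancel_right]
    rw [h2, Subgroup.coe_mul (x := T), Units.val_mul, hTv, Matrix.smul_mul, one_mul, Subgroup.coe_inv, smul_smul,
      Units.val_inv_eq_inv_val, Units.val_mk0, inv_mul_cancel₀ hc0, one_smul]

theorem commute_gamU_iff (h B : GUn) :
    Commute (descend (cj h)) (gamU B) ↔
      ∃ c : F, ((h : GLn) : Mat) * ((B : GLn) : Mat) = c • (((B : GLn) : Mat) * ((h : GLn) : Mat).map σ) := by
  rw [← rel_iff p hn h B B, commute_iff_eq, ← mul_inv_eq_iff_eq_mul, conj_gamU, eq_comm]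

/-- Conjugacy of graph automorphisms is congruence of the forms. -/
theorem conj_iff_congr {B B' : GUn} {M M' : GLn₀} (hD : Desc j B M) (hD' : Desc j B' M') :
    Cfsg.IsConjUnder (Cfsg.inndiagPSU n F q) (gamU B) (gamU B') ↔
      ∃ (k : GLn₀) (c₀ : F₀ˣ), (k : Matrix (Fin n) (Fin n) F₀)ᵀ * (M' : Matrix (Fin n) (Fin n) F₀) *
        (k : Matrix (Fin n) (Fin n) F₀) = (c₀ : F₀) • (M : Matrix (Fin n) (Fin n) F₀) := by
  obtain ⟨h, μ, s, hB, hM⟩ := hD
  obtain ⟨h', μ', s', hB', hM'⟩ := hD'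
  rw [Cfsg.IsConjUnder, inndiag_eq]
  constructor
  · rintro ⟨_, ⟨u, rfl⟩, e⟩
    rw [MonoidHom.comp_apply, conj_gamU, rel_iff p hn] at e
    obtain ⟨c, hc⟩ := e
    obtain ⟨k, -, c₀, -, hk, -⟩ := intertwine j hj hB hM hB' hM' hc
    exact ⟨k, c₀, hk⟩
  · rintro ⟨k, c₀, hk⟩
    have hs : σ ((s : F) / (s' : F)) = (s : F) / (s' : F) := by
      have d1 := desc_skew_iff (B := B) j hM (smap_j j hj _)
      have d2 := desc_skew_iff (B := B') j hM' (smap_j j hj _)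
      set K := jM (k : Matrix (Fin n) (Fin n) F₀)
      have e1 : Kᵀ * ((jM (M' : Matrix (Fin n) (Fin n) F₀))ᵀ * K) =
          j (c₀ : F₀) • (jM (M : Matrix (Fin n) (Fin n) F₀))ᵀ := by
        rw [← jmap_transpose, ← jmap_transpose, ← jmap_transpose, ← jmap_mul, ← jmap_mul, ← jmap_smul,
          ← Matrix.transpose_smul, ← hk, Matrix.transpose_mul, Matrix.transpose_mul, Matrix.transpose_transpose]
      have e1' : Kᵀ * ((jM (M' : Matrix (Fin n) (Fin n) F₀)) * K) =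
          j (c₀ : F₀) • jM (M : Matrix (Fin n) (Fin n) F₀) := by
        rw [← jmap_transpose, ← jmap_mul, ← jmap_mul, ← Matrix.mul_assoc, hk, jmap_smul]
      have e0 : (s' : F) • (j (c₀ : F₀) • (jM (M : Matrix (Fin n) (Fin n) F₀))ᵀ) =
          σ (s' : F) • (j (c₀ : F₀) • jM (M : Matrix (Fin n) (Fin n) F₀)) := by
        rw [← e1, ← e1', ← Matrix.mul_smul, ← Matrix.smul_mul, d2, Matrix.smul_mul, Matrix.mul_smul]
      have e2 := congrArg (fun X : Mat => (s : F) • X) e0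
      rw [smul_comm (s : F) (s' : F), smul_comm (s : F) (j (c₀ : F₀)) (jM (M : Matrix (Fin n) (Fin n) F₀))ᵀ, d1] at e2
      simp only [smul_smul] at e2
      obtain ⟨a, b, hab⟩ := exists_entry M
      have e3 := congrFun (congrFun e2 a) b
      simp only [Matrix.smul_apply, Matrix.map_apply, smul_eq_mul] at e3
      have hM0 : j ((M : Matrix (Fin n) (Fin n) F₀) a b) ≠ 0 := (map_ne_zero j).2 hab
      have e4 : (s : F) * σ (s' : F) * j (c₀ : F₀) = (s' : F) * j (c₀ : F₀) * σ (s : F) :=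
        mul_right_cancel₀ hM0 (by linear_combination -e3)
      have e5 : (s : F) * σ (s' : F) = (s' : F) * σ (s : F) :=
        mul_right_cancel₀ ((map_ne_zero j).2 c₀.ne_zero) (by linear_combination e4)
      rw [map_div₀, div_eq_div_iff (sigma_ne s') s'.ne_zero]
      linear_combination -e5
    obtain ⟨t, ht⟩ := (hj ((s : F) / (s' : F))).1 hs
    have ht0 : t ≠ 0 := fun h0 => div_ne_zero s.ne_zero s'.ne_zero (by rw [← ht, h0, map_zero])
    obtain ⟨b, hb⟩ := exists_norm_unit j hj ((Units.mk0 t ht0)⁻¹ * c₀)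
    obtain ⟨u, c, -, hu⟩ := intertwine_rev j hj hB hM hB' hM' k b c₀ hk (by
      rw [Units.val_mul, map_mul, Units.val_inv_eq_inv_val, map_inv₀, Units.val_mk0, ht] at hb
      have := s'.ne_zero
      have := s.ne_zero
      field_simp at hb
      linear_combination hb)
    exact ⟨descend (cj u), ⟨u, rfl⟩, ((conj_gamU u B).trans ((rel_iff p hn u B B').2 ⟨c, hu⟩).symm).symm⟩

theorem self_data {B u : GUn} {M : GLn₀} {h : GLn} {μ s : Fˣ}
    (hB : ((μ : F) • ((B : GLn) : Mat)) * (h : Mat).map σ = h)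
    (hM : (h : Mat)ᵀ * (h : Mat).map σ = (s : F) • (jM (M : Matrix (Fin n) (Fin n) F₀)))
    (hu : Commute (descend (cj u)) (gamU B)) :
    ∃ (k : GLn₀) (b : Fˣ) (c₀ : F₀ˣ),
      ((u : GLn) : Mat) * (h : Mat) = (b : F) • ((h : Mat) * jM (k : Matrix (Fin n) (Fin n) F₀)) ∧
      (k : Matrix (Fin n) (Fin n) F₀)ᵀ * (M : Matrix (Fin n) (Fin n) F₀) * (k : Matrix (Fin n) (Fin n) F₀) =
        (c₀ : F₀) • (M : Matrix (Fin n) (Fin n) F₀) ∧
      (b : F) * σ (b : F) * j c₀ = 1 := by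
  obtain ⟨c, hc⟩ := (commute_gamU_iff j hj p hn u B).1 hu
  obtain ⟨k, b, c₀, h1, h2, h3⟩ := intertwine j hj hB hM hB hM hc
  exact ⟨k, b, c₀, h1, h2, mul_left_cancel₀ s.ne_zero (by rw [mul_one, ← mul_assoc, h3])⟩

theorem self_rev {B : GUn} {M : GLn₀} {h : GLn} {μ s : Fˣ}
    (hB : ((μ : F) • ((B : GLn) : Mat)) * (h : Mat).map σ = h)
    (hM : (h : Mat)ᵀ * (h : Mat).map σ = (s : F) • (jM (M : Matrix (Fin n) (Fin n) F₀)))
    (k : GLn₀) (b : Fˣ) (c₀ : F₀ˣ)
    (hk : (k : Matrix (Fin n) (Fin n) F₀)ᵀ * (M : Matrix (Fin n) (Fin n) F₀) * (k : Matrix (Fin n) (Fin n) F₀) =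
      (c₀ : F₀) • (M : Matrix (Fin n) (Fin n) F₀))
    (hb : (b : F) * σ (b : F) * j c₀ = 1) :
    ∃ u : GUn, Commute (descend (cj u)) (gamU B) ∧
      ((u : GLn) : Mat) * (h : Mat) = (b : F) • ((h : Mat) * jM (k : Matrix (Fin n) (Fin n) F₀)) := by
  obtain ⟨u, c, h1, h2⟩ := intertwine_rev j hj hB hM hB hM k b c₀ hk (by rw [mul_assoc, hb, mul_one])
  exact ⟨u, (commute_gamU_iff j hj p hn u B).2 ⟨c, h2⟩, h1⟩

omit hj p hn in
theorem class_unique {h : GLn} {b b' : Fˣ} {k k' : GLn₀}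
    (e : (b : F) • ((h : Mat) * jM (k : Matrix (Fin n) (Fin n) F₀)) =
      (b' : F) • ((h : Mat) * jM (k' : Matrix (Fin n) (Fin n) F₀))) :
    k'⁻¹ * k ∈ Cfsg.Geo.scalars (Fin n) F₀ := by
  rw [← Matrix.mul_smul, ← Matrix.mul_smul] at e
  replace e := h.isUnit.mul_left_cancel e
  have e1 : (jM ((k'⁻¹ * k : GLn₀) : Matrix (Fin n) (Fin n) F₀)) =
      ((b' : F) / b) • jM ((1 : GLn₀) : Matrix (Fin n) (Fin n) F₀) := by
    have e2 : (jM (k : Matrix (Fin n) (Fin n) F₀)) = ((b' : F) / b) • jM (k' : Matrix (Fin n) (Fin n) F₀) := by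
      rw [div_eq_inv_mul, mul_smul, ← e, smul_smul, inv_mul_cancel₀ b.ne_zero, one_smul]
    rw [Units.val_mul, jmap_mul, e2, Matrix.mul_smul, ← jmap_mul, Units.inv_mul, Units.val_one]
  obtain ⟨c, hc, hX⟩ := exists_ratio j e1
  have hc0 : c ≠ 0 := fun h0 => div_ne_zero b'.ne_zero b.ne_zero (by rw [← hc, h0, map_zero])
  exact (Cfsg.Geo.mem_scalars_iff _).2 ⟨Units.mk0 c hc0, hX⟩

/-- The centraliser is the projective similitude group over the fixed field. -/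
theorem centralizer_gamU {B : GUn} {M : GLn₀} (hD : Desc j B M) :
    Nonempty (↥(Cfsg.inndiagPSU n F q ⊓ Subgroup.centralizer {gamU B}) ≃*
      Cfsg.projQuot (AutPSL.simB (M : Matrix (Fin n) (Fin n) F₀))) := by
  classical
  obtain ⟨h, μ, s, hB, hM⟩ := hD
  have hdata : ∀ y : ↥(Cfsg.inndiagPSU n F q ⊓ Subgroup.centralizer {gamU B}),
      ∃ (u : GUn) (k : GLn₀) (b : Fˣ) (c₀ : F₀ˣ), descend (cj u) = y.1 ∧
        ((u : GLn) : Mat) * (h : Mat) = (b : F) • ((h : Mat) * jM (k : Matrix (Fin n) (Fin n) F₀)) ∧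
        (k : Matrix (Fin n) (Fin n) F₀)ᵀ * (M : Matrix (Fin n) (Fin n) F₀) * (k : Matrix (Fin n) (Fin n) F₀) =
          (c₀ : F₀) • (M : Matrix (Fin n) (Fin n) F₀) := by
    rintro ⟨y, hy, hc⟩
    rw [inndiag_eq] at hy
    obtain ⟨u, rfl⟩ := hy
    obtain ⟨k, b, c₀, h1, h2, -⟩ := self_data j hj p hn hB hM (Subgroup.mem_centralizer_singleton_iff.1 hc)
    exact ⟨u, k, b, c₀, rfl, h1, h2⟩
  choose fu fk fb fc hfu hfb hfk using hdata
  let S := AutPSL.simB (M : Matrix (Fin n) (Fin n) F₀)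
  have hmem : ∀ y, fk y ∈ S := fun y => (AutPSL.mem_simB _ _).2 ⟨fc y, hfk y⟩
  have huniq : ∀ y (u : GUn) (k : GLn₀) (b : Fˣ) (hk : k ∈ S), descend (cj u) = y.1 →
      ((u : GLn) : Mat) * (h : Mat) = (b : F) • ((h : Mat) * jM (k : Matrix (Fin n) (Fin n) F₀)) →
      (QuotientGroup.mk (⟨fk y, hmem y⟩ : S) : Cfsg.projQuot S) = QuotientGroup.mk ⟨k, hk⟩ := by
    intro y u k b hk hu hb
    obtain ⟨c, hc⟩ := (descend_cj_eq_one p hn ((fu y)⁻¹ * u)).1 (by
      rw [map_mul, map_mul, map_inv, map_inv, hfu, hu, inv_mul_cancel])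
    have e : u = fu y * scalU (by omega) c := by rw [← hc, mul_inv_cancel_left]
    refine QuotientGroup.eq.2 (Subgroup.mem_subgroupOf.2 ?_)
    show (fk y)⁻¹ * k ∈ _
    refine class_unique j (h := h) (b := b) (b' := (c : Fˣ) * fb y) ?_
    rw [← hb, e, Subgroup.coe_mul, Units.val_mul, scalU_coe, Matrix.mul_smul, mul_one, Matrix.smul_mul, hfb,
      smul_smul, Units.val_mul]
  let f : ↥(Cfsg.inndiagPSU n F q ⊓ Subgroup.centralizer {gamU B}) →* Cfsg.projQuot S :=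
    MonoidHom.mk' (fun y => QuotientGroup.mk ⟨fk y, hmem y⟩) fun y y' => by
      rw [← QuotientGroup.mk_mul]
      refine huniq (y * y') (fu y * fu y') (fk y * fk y') (fb y * fb y') (mul_mem (hmem y) (hmem y'))
        (by rw [map_mul, map_mul, hfu, hfu]; rfl) ?_
      rw [Subgroup.coe_mul, Units.val_mul, Matrix.mul_assoc, hfb, Matrix.mul_smul, ← Matrix.mul_assoc, hfb,
        Matrix.smul_mul, smul_smul, Units.val_mul, Units.val_mul, jmap_mul, Matrix.mul_assoc, mul_comm]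
  refine ⟨MulEquiv.ofBijective f ⟨(injective_iff_map_eq_one f).2 fun y hy => ?_, fun z => ?_⟩⟩
  · obtain ⟨d, hd⟩ := (Cfsg.Geo.mem_scalars_iff _).1
      (Subgroup.mem_subgroupOf.1 ((QuotientGroup.eq_one_iff _).1 hy))
    have e : ((fu y : GLn) : Mat) = ((fb y : F) * j (d : F₀)) • 1 := by
      refine h.isUnit.mul_right_cancel ?_
      rw [hfb, hd, jmap_smul, Matrix.map_one _ (map_zero j) (map_one j), Matrix.mul_smul, mul_one, smul_smul,
        Matrix.smul_mul, one_mul]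
    refine Subtype.ext ?_
    have hs1 : (fu y : GLn) ∈ Cfsg.Geo.scalars (Fin n) F :=
      (Cfsg.Geo.mem_scalars_iff _).2 ⟨fb y * Units.map j.toMonoidHom d, by rw [e, Units.val_mul]; rfl⟩
    rw [← hfu, cj_scalar hs1, map_one]
    rfl
  · obtain ⟨⟨k, hk⟩, rfl⟩ := QuotientGroup.mk_surjective z
    obtain ⟨c₀, hc₀⟩ := (AutPSL.mem_simB _ _).1 hk
    obtain ⟨b, hb⟩ := exists_norm_unit j hj c₀
    obtain ⟨u, hu, huh⟩ := self_rev j hj p hn hB hM k b c₀ hc₀ hb
    exact ⟨⟨descend (cj u), inndiag_mem p u, Subgroup.mem_centralizer_singleton_iff.2 hu.eq⟩,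
      huniq _ u k b hk rfl huh⟩

/-- The determinants of the centralising unitary matrices. -/
theorem mem_detImage {B : GUn} {M : GLn₀} (hD : Desc j B M) (x : N1) :
    x ∈ (commSub (descend.comp cj) (gamU B)).map (detHom (n := n) (F := F) (q := q)) ↔
      ∃ (k : GLn₀) (b : Fˣ) (c₀ : F₀ˣ),
        (k : Matrix (Fin n) (Fin n) F₀)ᵀ * (M : Matrix (Fin n) (Fin n) F₀) * (k : Matrix (Fin n) (Fin n) F₀) =
          (c₀ : F₀) • (M : Matrix (Fin n) (Fin n) F₀) ∧
        (b : F) * σ (b : F) * j c₀ = 1 ∧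
        (x : Fˣ) = b ^ n * Units.map j.toMonoidHom (Matrix.GeneralLinearGroup.det k) := by
  obtain ⟨h, μ, s, hB, hM⟩ := hD
  have hdet : ∀ (u : GUn) (k : GLn₀) (b : Fˣ),
      ((u : GLn) : Mat) * (h : Mat) = (b : F) • ((h : Mat) * jM (k : Matrix (Fin n) (Fin n) F₀)) →
      Matrix.GeneralLinearGroup.det (u : GLn) = b ^ n * Units.map j.toMonoidHom (Matrix.GeneralLinearGroup.det k) := by
    intro u k b e
    have e1 := congrArg Matrix.det e
    rw [Matrix.det_mul, Matrix.det_smul, Matrix.det_mul, Fintype.card_fin, det_jM] at e1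
    refine Units.ext (mul_right_cancel₀ ((Matrix.isUnit_iff_isUnit_det _).1 h.isUnit).ne_zero ?_)
    rw [Units.val_mul, Units.val_pow_eq_pow_val]
    show ((u : GLn) : Mat).det * _ = (b : F) ^ n * j ((k : Matrix (Fin n) (Fin n) F₀).det) * _
    rw [e1]
    ring
  constructor
  · rintro ⟨u, hu, rfl⟩
    obtain ⟨k, b, c₀, h1, h2, h3⟩ := self_data j hj p hn hB hM (mem_commSub.1 hu)
    exact ⟨k, b, c₀, h2, h3, hdet u k b h1⟩
  · rintro ⟨k, b, c₀, h2, h3, h4⟩
    obtain ⟨u, hu, huh⟩ := self_rev j hj p hn hB hM k b c₀ h2 h3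
    exact ⟨u, mem_commSub.2 hu, Subtype.ext ((hdet u k b huh).trans h4.symm)⟩

omit hj in
theorem splitCount_gamU (B : GUn) :
    Cfsg.splitClassCount (Cfsg.inndiagPSU n F q) (Cfsg.Inn PSUn) (gamU B) =
      ((commSub (descend.comp cj) (gamU B)).map (detHom (n := n) (F := F) (q := q))).index := by
  have hinn : Cfsg.Inn PSUn = (detHom (n := n) (F := F) (q := q)).ker.map (descend.comp cj) := by
    apply le_antisymm
    · rintro _ ⟨a, rfl⟩
      obtain ⟨s, rfl⟩ := proj_surjective a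
      exact ⟨suToGU s, (mem_range_suToGU_iff _).1 ⟨s, rfl⟩,
        by rw [MonoidHom.comp_apply, cj_suToGU, descend_conj]⟩
    · rintro _ ⟨g, hg, rfl⟩
      obtain ⟨s, rfl⟩ := (mem_range_suToGU_iff g).2 hg
      exact ⟨proj n F q s, by rw [MonoidHom.comp_apply, cj_suToGU, descend_conj]⟩
  rw [inndiag_eq, hinn, splitClassCount_eq_index, index_ker_sup _ (detHom_surjective hn)]

end Cfsg.Agent.AutPSU
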