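import Cfsg.Agent.Lib.AutPSU.Main
import Cfsg.Agent.Lib.AutPSL.OutGroup

/-!
# Orders of `GU`, `PGU` and the structure of `Aut(PSU_n)`
-/

set_option autoImplicit false
set_option linter.style.haveILetI false
set_option linter.unusedSimpArgs false
set_option linter.unusedSectionVars false

namespace Cfsg.Agent.AutPSU

open Matrix

universe u

variable {F : Type u} [Field F] {q : ℕ} [hQ : QField F q] {n : ℕ}
include hQ

local notation "σ" => qb (F := F) q
local notation "V" => Fin n → F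
local notation "Mat" => Matrix (Fin n) (Fin n) F
local notation "GLn" => GL (Fin n) F
set_option quotPrecheck false in
local notation "SUn" => ↥(Cfsg.SU n F q)
local notation "PSUn" => Cfsg.PSU n F q
local notation "H" => Cfsg.hermForm n F q

/-! ### Semilinear products -/

/-- Entrywise application of a field automorphism to a unitary matrix. -/
def guMap (τ : F ≃+* F) (g : Cfsg.GU n F q) : Cfsg.GU n F q :=
  ⟨Matrix.GeneralLinearGroup.map (τ : F →+* F) (g : GLn), fun u v => by
    obtain ⟨u, rfl⟩ := vmap_surjective τ u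
    obtain ⟨v, rfl⟩ := vmap_surjective τ v
    show H (((g : GLn) : Mat).map τ *ᵥ vmap τ u) (((g : GLn) : Mat).map τ *ᵥ vmap τ v) = _
    rw [vmap_mulVec, vmap_mulVec, H_vmap, H_vmap, GU_H]⟩

theorem fld_mul_cj (τ : F ≃+* F) (g : Cfsg.GU n F q) :
    (fld τ * cj g : MulAut SUn) = cj (guMap τ g) * fld τ := by
  refine MulEquiv.ext fun s => Subtype.ext (Subtype.ext ?_)
  rw [MulAut.mul_apply, MulAut.mul_apply, fld_coe, cj_coe, cj_coe, fld_coe]
  have h1 : ∀ A : GLn, ((Matrix.GeneralLinearGroup.map (τ : F →+* F) A : GLn) : Mat) =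
      (A : Mat).map τ := fun A => rfl
  show _ = ((guMap τ g : Cfsg.GU n F q) : GLn).1 * _ *
    (((guMap τ g : Cfsg.GU n F q) : GLn)⁻¹ : GLn).1
  rw [show (((guMap τ g : Cfsg.GU n F q) : GLn)⁻¹ : GLn) =
      Matrix.GeneralLinearGroup.map (τ : F →+* F) (g : GLn)⁻¹ from (map_inv _ _).symm, h1,
    show ((guMap τ g : Cfsg.GU n F q) : GLn).1 = ((g : GLn) : Mat).map τ from rfl,
    Matrix.map_mul, Matrix.map_mul]

theorem stdA_mul (g h : Cfsg.GU n F q) (τ ρ : F ≃+* F) :
    stdA g τ * stdA h ρ = stdA (g * guMap τ h) (ρ.trans τ) := by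
  rw [stdA, stdA, stdA, ← map_mul]
  congr 1
  rw [mul_assoc, ← mul_assoc (fld τ), fld_mul_cj, map_mul, ← fld_mul]
  simp only [mul_assoc]

theorem descend_cj_eq (g : Cfsg.GU n F q) : descend (cj g) = stdA g (RingEquiv.refl F) := by
  rw [stdA, fld_one, mul_one]

theorem cj_scalar {g : Cfsg.GU n F q} (hg : (g : GLn) ∈ Cfsg.Geo.scalars (Fin n) F) : cj g = 1 := by
  obtain ⟨c, hc⟩ := (Cfsg.Geo.mem_scalars_iff _).1 hg
  refine MulEquiv.ext fun s => Subtype.ext (Subtype.ext ?_)
  have h1 : ((g : GLn) : Mat) * ((s : Matrix.SpecialLinearGroup (Fin n) F) : Mat) =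
      ((s : Matrix.SpecialLinearGroup (Fin n) F) : Mat) * ((g : GLn) : Mat) := by
    rw [hc, Matrix.smul_mul, one_mul, Matrix.mul_smul, mul_one]
  rw [cj_coe, h1, Matrix.mul_assoc, ← Units.val_mul, mul_inv_cancel, Units.val_one, mul_one]
  rfl

/-- `PGU` acting on `PSU`. -/
noncomputable def pgHom : Cfsg.PGU n F q →* MulAut PSUn :=
  QuotientGroup.lift _ (descend.comp cj) fun g hg => by
    rw [MonoidHom.mem_ker, MonoidHom.comp_apply, cj_scalar hg, map_one]

theorem pgHom_mk (g : Cfsg.GU n F q) :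
    pgHom (QuotientGroup.mk g : Cfsg.PGU n F q) = descend (cj g) := rfl

theorem stdA_eq_pgHom (g : Cfsg.GU n F q) (τ : F ≃+* F) :
    stdA g τ = pgHom (QuotientGroup.mk g : Cfsg.PGU n F q) * descend (fld τ) := map_mul descend _ _

/-! ### Orders -/

theorem mem_scalars_GU_iff (hn : 1 ≤ n) (c : Fˣ) :
    Matrix.GeneralLinearGroup.scalar (Fin n) c ∈ Cfsg.GU n F q ↔ c ^ (q + 1) = 1 := by
  have hv : ∀ v : V, ((Matrix.GeneralLinearGroup.scalar (Fin n) c : GLn) : Mat) *ᵥ v =
      (c : F) • v := fun v => by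
    simp [Matrix.GeneralLinearGroup.scalar, Matrix.smul_one_eq_diagonal,
      Matrix.diagonal_const_mulVec]
  have hc : c ^ (q + 1) = 1 ↔ (c : F) * σ (c : F) = 1 := by
    rw [qb_apply, ← pow_succ', Units.ext_iff]
    simp
  rw [hc]
  constructor
  · intro h
    obtain ⟨w, hw⟩ := exists_H_eq_one (q := q) (x := (Pi.single ⟨0, hn⟩ 1 : V)) (by simp)
    have e1 := h w (Pi.single ⟨0, hn⟩ 1 : V)
    change H (((Matrix.GeneralLinearGroup.scalar (Fin n) c : GLn) : Mat) *ᵥ w)
      (((Matrix.GeneralLinearGroup.scalar (Fin n) c : GLn) : Mat) *ᵥ Pi.single ⟨0, hn⟩ 1) = _ at e1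
    rw [hv, hv, H_smul_left, H_smul_right, hw, mul_one] at e1
    exact e1
  · intro h u v
    show H (((Matrix.GeneralLinearGroup.scalar (Fin n) c : GLn) : Mat) *ᵥ u)
      (((Matrix.GeneralLinearGroup.scalar (Fin n) c : GLn) : Mat) *ᵥ v) = _
    rw [hv, hv, H_smul_left, H_smul_right, ← mul_assoc, h, one_mul]

/-- The determinant of a unitary matrix has norm one. -/
theorem det_GU_norm (g : Cfsg.GU n F q) :
    (Matrix.GeneralLinearGroup.det (g : GLn)) ^ (q + 1) = 1 := by
  classical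
  have h1 : ((g : GLn) : Mat)ᵀ * ((g : GLn) : Mat).map σ = 1 := by
    ext i j
    have e := GU_H g (Pi.single i 1) (Pi.single j 1)
    rw [Matrix.mul_apply]
    simp only [Matrix.mulVec_single_one, Matrix.transpose_apply, H_eq, Matrix.map_apply] at e ⊢
    refine e.trans ?_
    rw [Finset.sum_eq_single i (by intro b _ hb; simp [hb]) (by simp)]
    by_cases h : i = j
    · subst h; simp
    · simp [h, Pi.single_eq_of_ne h]
  have h2 := congrArg Matrix.det h1
  rw [Matrix.det_mul, Matrix.det_transpose, Matrix.det_one] at h2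
  rw [show (((g : GLn) : Mat).map σ).det = σ ((g : GLn) : Mat).det from
    ((σ : F →+* F).map_det _).symm] at h2
  rw [qb_apply, ← pow_succ'] at h2
  exact Units.ext (by simpa [Matrix.GeneralLinearGroup.val_det_apply] using h2)

/-- The norm-one elements. -/
def normOne : Subgroup Fˣ := (powMonoidHom (q + 1) : Fˣ →* Fˣ).ker

theorem card_normOne : Nat.card (normOne (F := F) (q := q)) = q + 1 := by
  haveI := finite_field (F := F) (q := q)
  rw [normOne, IsCyclic.card_powMonoidHom_ker, Nat.card_units, hQ.card]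
  refine Nat.gcd_eq_right ?_
  exact Dvd.intro (q - 1) (by
    have := two_le_q (F := F) (q := q)
    obtain ⟨r, rfl⟩ : ∃ r, q = r + 1 := ⟨q - 1, by omega⟩
    simp only [Nat.add_sub_cancel]
    have : (r + 1) ^ 2 = (r + 1 + 1) * r + 1 := by ring
    omega)

theorem mem_normOne {c : Fˣ} : c ∈ normOne (F := F) (q := q) ↔ c ^ (q + 1) = 1 := Iff.rfl

theorem coe_norm_eq_one {c : Fˣ} (hc : c ∈ normOne (F := F) (q := q)) :
    (c : F) * σ (c : F) = 1 := by
  rw [qb_apply, ← pow_succ']
  rw [← Units.val_pow_eq_pow_val, mem_normOne.1 hc, Units.val_one]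

/-- The determinant as a map onto the norm-one elements. -/
noncomputable def detHom : Cfsg.GU n F q →* normOne (F := F) (q := q) where
  toFun g := ⟨Matrix.GeneralLinearGroup.det (g : GLn), det_GU_norm g⟩
  map_one' := Subtype.ext (by simp)
  map_mul' a b := Subtype.ext (by simp)

theorem mem_range_suToGU_iff (g : Cfsg.GU n F q) :
    g ∈ (suToGU (n := n) (F := F) (q := q)).range ↔ detHom g = 1 := by
  constructor
  · rintro ⟨s, rfl⟩
    refine Subtype.ext (Units.ext ?_)
    show ((suToGU s : Cfsg.GU n F q) : GLn).1.det = 1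
    rw [suToGU_coe]
    exact s.1.2
  · intro h
    have h1 : ((g : GLn) : Mat).det = 1 := congrArg Units.val (congrArg Subtype.val h)
    exact ⟨⟨⟨((g : GLn) : Mat), h1⟩, g.2⟩, Subtype.ext (Units.ext rfl)⟩

variable (p : ℕ) [Fact p.Prime] [CharP F p]

/-- An anisotropic vector. -/
theorem exists_aniso (hn : 3 ≤ n) : ∃ w : V, H w w ≠ 0 := by
  obtain ⟨e, f, hee, hff, hef⟩ := exists_hyperbolic_pair (F := F) (q := q) (n := n) (by omega)
  obtain ⟨t, ht⟩ := exists_trace (F := F) (q := q) (c := 1) (map_one _)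
  refine ⟨e + t • f, ?_⟩
  have hfe : H f e = 1 := by rw [← H_flip e f, hef, map_one]
  simp only [H_add_left, H_add_right, H_smul_left, H_smul_right, hee, hff, hef, hfe]
  intro h0
  exact one_ne_zero (α := F) (by linear_combination h0 - ht)

/-- Quasi-reflections as unitary matrices. -/
noncomputable def reflHom (w : V) (hw : H w w ≠ 0) :
    normOne (F := F) (q := q) →* Cfsg.GU n F q :=
  MonoidHom.mk' (fun c => (exists_GU_of_pres (q := q) (reflLin q w ((c : Fˣ) : F))
      (reflLin_pres hw (coe_norm_eq_one c.2))).choose) fun a b => by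
    apply Subtype.ext
    apply Units.ext
    refine Matrix.ext_iff_mulVec.2 fun v => ?_
    have hm : ∀ g h : Cfsg.GU n F q, ((g * h : Cfsg.GU n F q) : GLn).1 *ᵥ v =
        (g : GLn).1 *ᵥ ((h : GLn).1 *ᵥ v) := fun g h => by
      rw [Subgroup.coe_mul, Units.val_mul, Matrix.mulVec_mulVec]
    rw [hm,
      (exists_GU_of_pres (q := q) _ (reflLin_pres hw (coe_norm_eq_one (a * b).2))).choose_spec,
      (exists_GU_of_pres (q := q) _ (reflLin_pres hw (coe_norm_eq_one b.2))).choose_spec,
      (exists_GU_of_pres (q := q) _ (reflLin_pres hw (coe_norm_eq_one a.2))).choose_spec]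
    simp only [reflLin_apply, Subgroup.coe_mul, Units.val_mul, H_add_left, H_smul_left]
    match_scalars <;> field_simp <;> ring

theorem reflHom_apply (w : V) (hw : H w w ≠ 0) (c : normOne (F := F) (q := q)) (v : V) :
    ((reflHom w hw c : Cfsg.GU n F q) : GLn).1 *ᵥ v = reflLin q w ((c : Fˣ) : F) v :=
  (exists_GU_of_pres (q := q) _ (reflLin_pres hw (coe_norm_eq_one c.2))).choose_spec v

theorem detHom_reflHom (w : V) (hw : H w w ≠ 0) (c : normOne (F := F) (q := q)) :
    detHom (reflHom w hw c) = c := by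
  refine Subtype.ext (Units.ext ?_)
  show ((reflHom w hw c : Cfsg.GU n F q) : GLn).1.det = _
  rw [← reflLin_det hw ((c : Fˣ) : F), ← LinearMap.det_toMatrix']
  congr 1
  refine Matrix.ext_iff_mulVec.2 fun v => ?_
  rw [reflHom_apply, LinearMap.toMatrix'_mulVec]

theorem detHom_surjective (hn : 3 ≤ n) :
    Function.Surjective (detHom (n := n) (F := F) (q := q)) := fun c => by
  obtain ⟨w, hw⟩ := exists_aniso (F := F) (q := q) hn
  exact ⟨reflHom w hw c, detHom_reflHom w hw c⟩

theorem card_GU (hn : 3 ≤ n) :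
    Nat.card (Cfsg.GU n F q) = (q + 1) * Nat.card SUn := by
  rw [Subgroup.card_eq_card_quotient_mul_card_subgroup (detHom (n := n) (F := F) (q := q)).ker,
    Nat.card_congr (QuotientGroup.quotientKerEquivOfSurjective _ (detHom_surjective hn)).toEquiv,
    card_normOne]
  congr 1
  rw [show (detHom (n := n) (F := F) (q := q)).ker = (suToGU (n := n) (F := F) (q := q)).range
    from Subgroup.ext fun g => (mem_range_suToGU_iff g).symm]
  exact (Nat.card_congr (MonoidHom.ofInjective (f := suToGU (n := n) (F := F) (q := q))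
    (fun a b h => su_ext fun v => congrArg (fun g : Cfsg.GU n F q => ((g : GLn) : Mat) *ᵥ v) h)
      ).toEquiv).symm

theorem card_center_SU (hn : 2 ≤ n) :
    Nat.card (Subgroup.center SUn) = Nat.gcd n (q + 1) := by
  haveI := finite_field (F := F) (q := q)
  haveI : Nonempty (Fin n) := ⟨⟨0, by omega⟩⟩
  have hg : Nat.gcd n (q + 1) ∣ q ^ 2 - 1 := by
    refine (Nat.gcd_dvd_right n (q + 1)).trans (Dvd.intro (q - 1) ?_)
    have := two_le_q (F := F) (q := q)
    obtain ⟨r, rfl⟩ : ∃ r, q = r + 1 := ⟨q - 1, by omega⟩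
    simp only [Nat.add_sub_cancel]
    have : (r + 1) ^ 2 = (r + 1 + 1) * r + 1 := by ring
    omega
  have hker : Nat.card (powMonoidHom (Nat.gcd n (q + 1)) : Fˣ →* Fˣ).ker = Nat.gcd n (q + 1) := by
    rw [IsCyclic.card_powMonoidHom_ker, Nat.card_units, hQ.card]
    exact Nat.gcd_eq_right hg
  rw [← hker]
  symm
  have hmem : ∀ c : (powMonoidHom (Nat.gcd n (q + 1)) : Fˣ →* Fˣ).ker,
      (c : Fˣ) ^ n = 1 ∧ (c : Fˣ) ^ (q + 1) = 1 := fun c =>
    ⟨orderOf_dvd_iff_pow_eq_one.1 ((orderOf_dvd_of_pow_eq_one c.2).trans (Nat.gcd_dvd_left _ _)),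
      orderOf_dvd_iff_pow_eq_one.1
        ((orderOf_dvd_of_pow_eq_one c.2).trans (Nat.gcd_dvd_right _ _))⟩
  let mk : (powMonoidHom (Nat.gcd n (q + 1)) : Fˣ →* Fˣ).ker → SUn := fun c =>
    ⟨⟨((Matrix.GeneralLinearGroup.scalar (Fin n) (c : Fˣ) : GLn) : Mat), by
      simp [Matrix.GeneralLinearGroup.scalar]
      rw [← Units.val_pow_eq_pow_val, (hmem c).1, Units.val_one]⟩,
      (mem_scalars_GU_iff (by omega) _).2 (hmem c).2⟩
  have hmk : ∀ c v, app (mk c) v = ((c : Fˣ) : F) • v := fun c v => by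
    show ((Matrix.GeneralLinearGroup.scalar (Fin n) (c : Fˣ) : GLn) : Mat) *ᵥ v = _
    simp [Matrix.GeneralLinearGroup.scalar, Matrix.smul_one_eq_diagonal,
      Matrix.diagonal_const_mulVec]
  refine Nat.card_congr (Equiv.ofBijective
    (fun c => (⟨mk c, mem_center_of_scalar (hmk c)⟩ : Subgroup.center SUn)) ⟨?_, ?_⟩)
  · intro a b hab
    obtain ⟨x, hx, -⟩ := exists_isotropic (F := F) (q := q) hn
    have e := congrArg (fun z : Subgroup.center SUn => app (z : SUn) x) hab
    simp only [hmk] at e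
    exact Subtype.ext (Units.ext (smul_left_injective F hx e))
  · rintro ⟨z, hz⟩
    obtain ⟨c, hc⟩ := scalar_of_mem_center hn hz
    obtain ⟨x, hx, -⟩ := exists_isotropic (F := F) (q := q) hn
    have hc0 : c ≠ 0 := fun h0 => hx (app_injective z (by rw [hc, app_zero, h0, zero_smul]))
    have hM : ((z : Matrix.SpecialLinearGroup (Fin n) F) : Mat) =
        ((Matrix.GeneralLinearGroup.scalar (Fin n) (Units.mk0 c hc0) : GLn) : Mat) :=
      Matrix.ext_iff_mulVec.2 fun v => by
        rw [show ((z : Matrix.SpecialLinearGroup (Fin n) F) : Mat) *ᵥ v = c • v from hc v]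
        simp [Matrix.GeneralLinearGroup.scalar, Matrix.smul_one_eq_diagonal,
          Matrix.diagonal_const_mulVec]
    have hdet : (Units.mk0 c hc0) ^ n = 1 := by
      have := (z : Matrix.SpecialLinearGroup (Fin n) F).2
      rw [hM] at this
      apply Units.ext
      simpa [Matrix.GeneralLinearGroup.scalar] using this
    have hnorm : (Units.mk0 c hc0) ^ (q + 1) = 1 := by
      refine (mem_scalars_GU_iff (n := n) (q := q) (by omega) _).1 fun u v => ?_
      show H (((Matrix.GeneralLinearGroup.scalar (Fin n) (Units.mk0 c hc0) : GLn) : Mat) *ᵥ u)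
        (((Matrix.GeneralLinearGroup.scalar (Fin n) (Units.mk0 c hc0) : GLn) : Mat) *ᵥ v) = _
      rw [← hM]
      exact z.2 u v
    refine ⟨⟨Units.mk0 c hc0, ?_⟩, Subtype.ext (su_ext fun v => ?_)⟩
    · rw [MonoidHom.mem_ker, powMonoidHom_apply]
      exact pow_gcd_eq_one.2 ⟨hdet, hnorm⟩
    · show app (mk _) v = app z v
      rw [hmk, hc]
      rfl

theorem card_PGU_eq (hn : 3 ≤ n) :
    Nat.card (Cfsg.PGU n F q) = Nat.gcd n (q + 1) * Nat.card PSUn := by
  haveI := finite_field (F := F) (q := q)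
  haveI : Nonempty (Fin n) := ⟨⟨0, by omega⟩⟩
  have h1 := card_GU (F := F) (q := q) hn
  rw [Subgroup.card_eq_card_quotient_mul_card_subgroup
    ((Cfsg.Geo.scalars (Fin n) F).subgroupOf (Cfsg.GU n F q)),
    Subgroup.card_eq_card_quotient_mul_card_subgroup (Subgroup.center SUn),
    card_center_SU (by omega)] at h1
  have hc : Nat.card ((Cfsg.Geo.scalars (Fin n) F).subgroupOf (Cfsg.GU n F q)) = q + 1 := by
    rw [← card_normOne (F := F) (q := q)]
    symm
    refine Nat.card_congr (Equiv.ofBijective (fun c : normOne (F := F) (q := q) =>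
      (⟨⟨Matrix.GeneralLinearGroup.scalar (Fin n) (c : Fˣ),
        (mem_scalars_GU_iff (by omega) _).2 c.2⟩,
        (Cfsg.Geo.mem_scalars_iff _).2 ⟨(c : Fˣ), by
          simp [Matrix.GeneralLinearGroup.scalar, Matrix.smul_one_eq_diagonal]⟩⟩ :
        (Cfsg.Geo.scalars (Fin n) F).subgroupOf (Cfsg.GU n F q))) ⟨?_, ?_⟩)
    · intro a b hab
      apply Subtype.ext
      apply Units.ext
      have := congrFun (congrFun (congrArg (fun g => ((g.1 : Cfsg.GU n F q) : GLn).1) hab)
        ⟨0, by omega⟩) ⟨0, by omega⟩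
      simpa [Matrix.GeneralLinearGroup.scalar] using this
    · rintro ⟨g, hg⟩
      obtain ⟨c, hc⟩ := (Cfsg.Geo.mem_scalars_iff _).1 (Subgroup.mem_subgroupOf.1 hg)
      have hgc : (g : GLn) = Matrix.GeneralLinearGroup.scalar (Fin n) c := Units.ext (by
        simp [Matrix.GeneralLinearGroup.scalar, hc, Matrix.smul_one_eq_diagonal])
      exact ⟨⟨c, (mem_scalars_GU_iff (by omega) c).1 (hgc ▸ g.2)⟩,
        Subtype.ext (Subtype.ext hgc.symm)⟩
  rw [hc, mul_comm (q + 1)] at h1
  have h2 := Nat.eq_of_mul_eq_mul_right (by omega) h1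
  rw [h2, mul_comm]

/-! ### The automorphism group -/

include p in
theorem param_injective (hn : 3 ≤ n) : Function.Injective
    (fun x : Cfsg.PGU n F q × (F ≃+* F) => pgHom x.1 * descend (fld x.2)) := by
  rintro ⟨a, τ⟩ ⟨b, ρ⟩ h
  obtain ⟨a, rfl⟩ := QuotientGroup.mk_surjective a
  obtain ⟨b, rfl⟩ := QuotientGroup.mk_surjective b
  simp only [← stdA_eq_pgHom] at h
  have hinv : stdA (guMap ρ.symm b⁻¹) ρ.symm * stdA b ρ = 1 := by
    rw [stdA_mul]
    have : guMap ρ.symm b⁻¹ * guMap ρ.symm b = 1 := by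
      apply Subtype.ext
      show Matrix.GeneralLinearGroup.map _ (b⁻¹ : Cfsg.GU n F q).1 *
        Matrix.GeneralLinearGroup.map _ (b : GLn) = 1
      rw [← map_mul, ← Subgroup.coe_mul, inv_mul_cancel]
      exact map_one _
    rw [this, show ρ.trans ρ.symm = RingEquiv.refl F from RingEquiv.ext fun x => by simp,
      ← descend_cj_eq, map_one, map_one]
  have h1 : stdA (guMap ρ.symm b⁻¹ * guMap ρ.symm a) (τ.trans ρ.symm) = 1 := by
    rw [← stdA_mul, h, hinv]
  obtain ⟨h2, h3⟩ := stdA_eq_one p hn h1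
  have hτ : τ = ρ := RingEquiv.ext fun x => by
    have := congrArg ρ (RingEquiv.congr_fun h2 x)
    simpa using this
  refine Prod.ext ?_ hτ
  refine ((QuotientGroup.eq).2 ?_).symm
  rw [Subgroup.mem_subgroupOf]
  obtain ⟨c, hc⟩ := (Cfsg.Geo.mem_scalars_iff _).1 h3
  refine (Cfsg.Geo.mem_scalars_iff _).2 ⟨Units.map (ρ : F →* F) c, ?_⟩
  have h4 : ((guMap ρ.symm b⁻¹ * guMap ρ.symm a : Cfsg.GU n F q) : GLn).1 =
      (((b⁻¹ * a : Cfsg.GU n F q) : GLn) : Mat).map ρ.symm := by
    show _ = (((b⁻¹ : Cfsg.GU n F q) : GLn).1 * (a : GLn).1).map ρ.symm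
    rw [Matrix.map_mul]
    rfl
  rw [h4] at hc
  ext i j
  have := congrArg ρ (congrFun (congrFun hc i) j)
  simpa [Matrix.one_apply, apply_ite ρ] using this

include p in
theorem center_trivial (hn : 3 ≤ n) (x : PSUn) (h : MulAut.conj x = 1) : x = 1 := by
  obtain ⟨s, rfl⟩ := proj_surjective x
  rw [← descend_conj, ← cj_suToGU, descend_cj_eq] at h
  obtain ⟨c, hc⟩ := (Cfsg.Geo.mem_scalars_iff _).1 (stdA_eq_one p hn h).2
  rw [proj_eq_one_iff]
  refine mem_center_of_scalar (c := (c : F)) fun v => ?_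
  show ((suToGU s : Cfsg.GU n F q) : GLn).1 *ᵥ v = _
  rw [hc, Matrix.smul_mulVec, Matrix.one_mulVec]

include p in
theorem card_aut (hn : 3 ≤ n) (h32 : ¬ (n = 3 ∧ q = 2)) :
    Nat.card (MulAut PSUn) = Nat.card (Cfsg.PGU n F q) * Nat.card (F ≃+* F) := by
  haveI := finite_field (F := F) (q := q)
  haveI := Fintype.ofFinite F
  rw [← Nat.card_prod]
  symm
  refine Nat.card_congr (Equiv.ofBijective
    (fun x => pgHom x.1 * descend (fld x.2)) ⟨param_injective p hn, fun φ => ?_⟩)
  obtain ⟨g, τ, rfl⟩ := exists_normal_form p hn h32 φ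
  exact ⟨(QuotientGroup.mk g, τ), (stdA_eq_pgHom g τ).symm⟩

/-! ### Predicates of the statements -/

theorem isInduced_iff (g : Cfsg.GU n F q) (τ : F ≃+* F) (β : MulAut PSUn) :
    Cfsg.IsInducedBySemilinearPSU (g : GLn) τ β ↔ β = stdA g τ := by
  constructor
  · intro h
    refine MulEquiv.ext fun x => ?_
    obtain ⟨s, rfl⟩ := proj_surjective x
    exact h s (cj g (fld τ s)) rfl
  · rintro rfl s s' hs'
    show stdA g τ (proj n F q s) = proj n F q s'
    rw [stdA_proj, show cj g (fld τ s) = s' from Subtype.ext (Subtype.ext hs'.symm)]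

theorem gammaPSU_eq (h : ∀ φ : MulAut PSUn, ∃ (g : Cfsg.GU n F q) (τ : F ≃+* F), φ = stdA g τ) :
    Cfsg.gammaPSU n F q = ⊤ := by
  refine (Subgroup.eq_top_iff' _).2 fun φ => ?_
  obtain ⟨g, τ, rfl⟩ := h φ
  exact Subgroup.subset_closure ⟨g, τ, g.2, (isInduced_iff g τ _).2 rfl⟩

theorem isFieldOf_iff (τ : F ≃+* F) (β : MulAut PSUn) :
    Cfsg.IsFieldAutPSUOf τ β ↔ β = descend (fld τ) := by
  constructor
  · intro h
    refine MulEquiv.ext fun x => ?_
    obtain ⟨s, rfl⟩ := proj_surjective x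
    exact h s (fld τ s) rfl
  · rintro rfl s s' hs'
    show descend (fld τ) (proj n F q s) = proj n F q s'
    rw [descend_proj, show fld τ s = s' from Subtype.ext (Subtype.ext hs'.symm)]

theorem isInnerDiagonal_iff (β : MulAut PSUn) :
    Cfsg.IsInnerDiagonalAutPSU β ↔
      β ∈ (descend.comp (cj (n := n) (F := F) (q := q))).range := by
  constructor
  · rintro ⟨g, hg, h⟩
    refine ⟨⟨g, hg⟩, ?_⟩
    refine MulEquiv.ext fun x => ?_
    obtain ⟨s, rfl⟩ := proj_surjective x
    exact (h s (cj ⟨g, hg⟩ s) rfl).symm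
  · rintro ⟨g, rfl⟩
    refine ⟨g, g.2, fun s s' hs' => ?_⟩
    show descend (cj g) (proj n F q s) = proj n F q s'
    rw [descend_proj, show cj g s = s' from Subtype.ext (Subtype.ext hs'.symm)]

theorem inndiag_eq :
    Cfsg.inndiagPSU n F q = (descend.comp (cj (n := n) (F := F) (q := q))).range := by
  have : {β : MulAut PSUn | Cfsg.IsInnerDiagonalAutPSU β} =
      ((descend.comp (cj (n := n) (F := F) (q := q))).range : Set (MulAut PSUn)) :=
    Set.ext fun β => isInnerDiagonal_iff β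
  show Subgroup.closure _ = _
  rw [this, Subgroup.closure_eq]

/-! ### The outer automorphism group -/

section Structure

variable [Fintype F] (f : ℕ) (hn : 3 ≤ n) (h32 : ¬ (n = 3 ∧ q = 2))
  (hF : Fintype.card F = p ^ (2 * f))

/-- The field part of an automorphism. -/
noncomputable def fieldPart (φ : MulAut PSUn) : F ≃+* F :=
  (exists_normal_form p hn h32 φ).choose_spec.choose

theorem fieldPart_spec (φ : MulAut PSUn) :
    ∃ g : Cfsg.GU n F q, φ = stdA g (fieldPart p hn h32 φ) :=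
  ⟨_, (exists_normal_form p hn h32 φ).choose_spec.choose_spec⟩

theorem fieldPart_eq {φ : MulAut PSUn} {g : Cfsg.GU n F q} {τ : F ≃+* F} (h : φ = stdA g τ) :
    fieldPart p hn h32 φ = τ := by
  obtain ⟨g', hg'⟩ := fieldPart_spec p hn h32 φ
  have e := param_injective p hn (a₁ := (QuotientGroup.mk g', fieldPart p hn h32 φ))
    (a₂ := (QuotientGroup.mk g, τ)) (by simp only [← stdA_eq_pgHom]; rw [← hg', ← h])
  exact congrArg Prod.snd e

/-- The class of an automorphism in `ZMod (2 f)`. -/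
noncomputable def autClass : MulAut PSUn →* Multiplicative (ZMod (2 * f)) :=
  MonoidHom.mk' (fun φ => AutPSL.fieldIso p (2 * f) hF (fieldPart p hn h32 φ)) (by
    intro φ ψ
    obtain ⟨g, hg⟩ := fieldPart_spec p hn h32 φ
    obtain ⟨g', hg'⟩ := fieldPart_spec p hn h32 ψ
    rw [fieldPart_eq p hn h32 (φ := φ * ψ) (g := g * guMap (fieldPart p hn h32 φ) g')
      (τ := (fieldPart p hn h32 ψ).trans (fieldPart p hn h32 φ))
      (by conv_lhs => rw [hg, hg', stdA_mul]), ← map_mul]
    rfl)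

theorem autClass_eq_one_iff (φ : MulAut PSUn) :
    autClass p f hn h32 hF φ = 1 ↔ ∃ g : Cfsg.GU n F q, φ = descend (cj g) := by
  show AutPSL.fieldIso p (2 * f) hF (fieldPart p hn h32 φ) = 1 ↔ _
  rw [MulEquiv.map_eq_one_iff]
  constructor
  · intro h
    obtain ⟨g, hg⟩ := fieldPart_spec p hn h32 φ
    rw [h] at hg
    exact ⟨g, hg.trans (descend_cj_eq g).symm⟩
  · rintro ⟨g, rfl⟩
    exact fieldPart_eq p hn h32 (descend_cj_eq g)

theorem inn_le_ker_autClass : Cfsg.Inn PSUn ≤ (autClass p f hn h32 hF).ker := by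
  rintro _ ⟨x, rfl⟩
  obtain ⟨s, rfl⟩ := proj_surjective x
  rw [MonoidHom.mem_ker, autClass_eq_one_iff]
  exact ⟨suToGU s, by rw [cj_suToGU, descend_conj]⟩

/-- The map `Out(PSU_n) → ZMod (2 f)`. -/
noncomputable def outClass : Cfsg.Out PSUn →* Multiplicative (ZMod (2 * f)) :=
  QuotientGroup.lift _ (autClass p f hn h32 hF) (inn_le_ker_autClass p f hn h32 hF)

theorem outClass_surjective : Function.Surjective (outClass p f hn h32 hF) := fun z =>
  ⟨QuotientGroup.mk (stdA 1 ((AutPSL.fieldIso p (2 * f) hF).symm z)), by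
    show AutPSL.fieldIso p (2 * f) hF (fieldPart p hn h32 _) = z
    rw [fieldPart_eq p hn h32 rfl, MulEquiv.apply_symm_apply]⟩

theorem outClass_ker_facts :
    IsCyclic (outClass p f hn h32 hF).ker ∧
      Nat.card (outClass p f hn h32 hF).ker = Nat.gcd n (q + 1) := by
  classical
  haveI := finite_field (F := F) (q := q)
  obtain ⟨w, hw⟩ := exists_aniso (F := F) (q := q) hn
  let D : normOne (F := F) (q := q) →* Cfsg.Out PSUn :=
    (QuotientGroup.mk' _).comp ((descend.comp cj).comp (reflHom w hw))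
  have hker : (outClass p f hn h32 hF).ker = D.range := by
    ext x
    obtain ⟨φ, rfl⟩ := QuotientGroup.mk_surjective x
    rw [MonoidHom.mem_ker]
    show autClass p f hn h32 hF φ = 1 ↔ _
    rw [autClass_eq_one_iff]
    constructor
    · rintro ⟨g, rfl⟩
      have hg : (reflHom w hw (detHom g))⁻¹ * g ∈ (suToGU (n := n) (F := F) (q := q)).range := by
        rw [mem_range_suToGU_iff, map_mul, map_inv, detHom_reflHom, inv_mul_cancel]
      obtain ⟨s, hs⟩ := hg
      refine ⟨detHom g, QuotientGroup.eq.2 ⟨proj n F q s, ?_⟩⟩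
      rw [← descend_conj, ← cj_suToGU, hs, map_mul, map_inv, map_mul, map_inv]
      rfl
    · rintro ⟨c, hc⟩
      obtain ⟨y, hy⟩ := QuotientGroup.eq.1 hc
      obtain ⟨s, rfl⟩ := proj_surjective y
      rw [← descend_conj, ← cj_suToGU] at hy
      refine ⟨reflHom w hw c * suToGU s, ?_⟩
      rw [map_mul, map_mul, hy]
      exact (mul_inv_cancel_left _ _).symm
  refine ⟨?_, ?_⟩
  · rw [hker]
    exact isCyclic_of_surjective D.rangeRestrict (MonoidHom.rangeRestrict_surjective _)
  · have hinn : Nat.card (Cfsg.Inn PSUn) = Nat.card PSUn := by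
      refine (Nat.card_congr (MonoidHom.ofInjective (f := (MulAut.conj : PSUn →* MulAut PSUn))
        ?_).toEquiv).symm
      rw [injective_iff_map_eq_one]
      exact center_trivial p hn
    have h1 := Subgroup.card_eq_card_quotient_mul_card_subgroup (Cfsg.Inn PSUn)
    have h2 := Subgroup.card_eq_card_quotient_mul_card_subgroup (outClass p f hn h32 hF).ker
    rw [Nat.card_congr (QuotientGroup.quotientKerEquivOfSurjective _
      (outClass_surjective p f hn h32 hF)).toEquiv, Nat.card_congr Multiplicative.toAdd,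
      Nat.card_zmod] at h2
    rw [hinn, h2, card_aut p hn h32, card_PGU_eq hn, AutPSL.card_ringAut p (2 * f) hF] at h1
    haveI : Finite PSUn := inferInstance
    have hpos : 0 < Nat.card PSUn := Nat.card_pos
    have hf : 0 < 2 * f := by
      rcases Nat.eq_zero_or_pos (2 * f) with h0 | h0
      · have := Fintype.one_lt_card (α := F)
        rw [hF, h0, pow_zero] at this
        omega
      · exact h0
    have h3 : Nat.gcd n (q + 1) * (2 * f) * Nat.card PSUn =
        Nat.card (outClass p f hn h32 hF).ker * (2 * f) * Nat.card PSUn := by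
      linear_combination h1
    exact (Nat.eq_of_mul_eq_mul_right hf (Nat.eq_of_mul_eq_mul_right hpos h3)).symm

end Structure

end Cfsg.Agent.AutPSU
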