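import Cfsg.Agent.Lib.AutPSU.Rigid
import Cfsg.Agent.Lib.Forms.UnitaryFin
import Cfsg.Agent.Lib.AutPSL.Normal
import Cfsg.Agent.Lib.AutPSL.Counts

/-!
# The automorphism group of `PSU_n`

Every automorphism is induced by a semilinear isometry, uniquely up to scalars.  Also the orders
`|GU|`, `|PGU|` and the identification of the subgroups of the automorphism group.
-/

set_option autoImplicit false
set_option linter.style.haveILetI false
set_option linter.unusedSimpArgs false
set_option linter.unusedSectionVars false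

namespace Cfsg.Agent.AutPSU

open Matrix

universe u

variable {F : Type u} [Field F] {q : ℕ} [hQ : QField F q] {n : ℕ}
include hQ

local notation "σ" => qb (F := F) q
local notation "V" => Fin n → F
local notation "Mat" => Matrix (Fin n) (Fin n) F
local notation "GLn" => GL (Fin n) F
set_option quotPrecheck false in
local notation "SUn" => ↥(Cfsg.SU n F q)
local notation "PSUn" => Cfsg.PSU n F q
local notation "H" => Cfsg.hermForm n F q

variable {e f : Fin n → F}

/-! ### Isometries -/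

/-- A linear isometry is a unitary matrix. -/
theorem exists_GU_of_pres (L : V →ₗ[F] V) (hL : ∀ u v : V, H (L u) (L v) = H u v) :
    ∃ g : Cfsg.GU n F q, ∀ v : V, ((g : GLn) : Mat) *ᵥ v = L v := by
  have hinj : Function.Injective (LinearMap.toMatrix' L).mulVec := by
    intro u v huv
    simp only [LinearMap.toMatrix'_mulVec] at huv
    rw [← sub_eq_zero]
    refine eq_zero_of_orth (q := q) fun x => ?_
    rw [← hL x, map_sub, huv, sub_self, H_zero_right]
  obtain ⟨g, hg⟩ := Matrix.mulVec_injective_iff_isUnit.1 hinj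
  refine ⟨⟨g, fun u v => ?_⟩, fun v => ?_⟩
  · show H ((g : Mat) *ᵥ u) ((g : Mat) *ᵥ v) = _
    rw [hg, LinearMap.toMatrix'_mulVec, LinearMap.toMatrix'_mulVec, hL]
  · show (g : Mat) *ᵥ v = _
    rw [hg, LinearMap.toMatrix'_mulVec]

/-- An element of `SU` as a unitary matrix. -/
def suToGU : SUn →* Cfsg.GU n F q where
  toFun s := ⟨Matrix.SpecialLinearGroup.toGL (s : Matrix.SpecialLinearGroup (Fin n) F), s.2⟩
  map_one' := Subtype.ext (map_one _)
  map_mul' a b := Subtype.ext (map_mul _ _ _)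

theorem suToGU_coe (s : SUn) :
    ((suToGU s : Cfsg.GU n F q) : GLn).1 =
      ((s : Matrix.SpecialLinearGroup (Fin n) F) : Mat) := rfl

theorem cj_suToGU (s : SUn) : cj (suToGU s) = MulAut.conj s := by
  refine MulEquiv.ext fun t => Subtype.ext (Subtype.ext ?_)
  rw [cj_coe, MulAut.conj_apply]
  have : (((suToGU s : Cfsg.GU n F q) : GLn)⁻¹ : GLn) = (suToGU s⁻¹ : Cfsg.GU n F q) := by
    rw [map_inv]; rfl
  rw [this, suToGU_coe, suToGU_coe]
  rfl

theorem stdA_qE (g : Cfsg.GU n F q) (τ : F ≃+* F) {x a : V} {t : F} (h : IsQ q x a t) :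
    ∃ h' : IsQ q (((g : GLn) : Mat) *ᵥ vmap τ x) (((g : GLn) : Mat) *ᵥ vmap τ a) (τ t),
      stdA g τ (proj n F q (qE x a t h)) =
        proj n F q (qE (((g : GLn) : Mat) *ᵥ vmap τ x) (((g : GLn) : Mat) *ᵥ vmap τ a) (τ t) h') := by
  have h' : IsQ q (((g : GLn) : Mat) *ᵥ vmap τ x) (((g : GLn) : Mat) *ᵥ vmap τ a) (τ t) :=
    ⟨by rw [GU_H, H_vmap, h.1, map_zero], by rw [GU_H, H_vmap, h.2.1, map_zero],
    by rw [GU_H, H_vmap, qb_comm, ← map_add, ← map_add, h.2.2, map_zero]⟩
  refine ⟨h', ?_⟩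
  rw [stdA_proj]
  congr 1
  apply su_ext
  intro v
  obtain ⟨v, rfl⟩ := gu_mulVec_surjective g v
  obtain ⟨v, rfl⟩ := vmap_surjective τ v
  show app _ (((g : GLn) : Mat) *ᵥ vmap τ v) = app _ (((g : GLn) : Mat) *ᵥ vmap τ v)
  have hsub : ∀ u w : V, vmap τ (u - w) = vmap τ u - vmap τ w := fun u w =>
    funext fun _ => map_sub τ _ _
  rw [cj_apply, fld_apply, qE_apply, qE_apply, GU_H, GU_H, H_vmap, H_vmap, vmap_add, hsub,
    vmap_add, vmap_smul, vmap_smul, vmap_smul, map_mul]
  simp only [Matrix.mulVec_add, Matrix.mulVec_sub, Matrix.mulVec_smul]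

theorem semilinear_ne_zero (g : Cfsg.GU n F q) (τ : F ≃+* F) {x : V} (hx : x ≠ 0) :
    ((g : GLn) : Mat) *ᵥ vmap τ x ≠ 0 := by
  intro h0
  apply hx
  have h1 : vmap τ x = 0 := gu_mulVec_injective g (h0.trans (Matrix.mulVec_zero _).symm)
  funext i
  have := congrFun h1 i
  simpa [vmap] using this

theorem lineFix_stdA (g : Cfsg.GU n F q) (τ : F ≃+* F) {x : V} (hxx : H x x = 0) {c : F}
    (hc : ((g : GLn) : Mat) *ᵥ vmap τ x = c • x) : LineFix (stdA g τ) x := by
  intro t h
  have h1 : IsT q (c • x) (τ t) := hc ▸ h.semilinear g τ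
  refine ⟨_, isT_of_smul hxx h1, ?_⟩
  rw [stdA_tr, tr_congr (h' := h1) hc rfl, tr_smul_point h1 (isT_of_smul hxx h1)]

theorem LineFix.mul {ψ χ : MulAut PSUn} {x : V} (h : LineFix ψ x) (h' : LineFix χ x) :
    LineFix (ψ * χ) x := by
  intro t ht
  obtain ⟨s, hs, e1⟩ := h' t ht
  obtain ⟨r, hr, e2⟩ := h s hs
  exact ⟨r, hr, by rw [MulAut.mul_apply, e1, e2]⟩

variable (p : ℕ) [Fact p.Prime] [CharP F p]

include p in
/-- An automorphism fixing all isotropic points is trivial. -/
theorem eq_one_of_fix_points (hn : 2 ≤ n) {ψ : MulAut PSUn}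
    (h : ∀ x : V, x ≠ 0 → H x x = 0 → LineFix ψ x) : ψ = 1 := by
  refine MulEquiv.ext fun a => ?_
  obtain ⟨s, rfl⟩ := proj_surjective a
  obtain ⟨s', hs'⟩ := proj_surjective (ψ (proj n F q s))
  rw [MulAut.one_apply, ← hs']
  refine (proj_eq_of_points hn fun x hx hxx => ?_).symm
  obtain ⟨k, hk0, hk⟩ := exists_isT (q := q) hxx
  obtain ⟨r, hr, e1⟩ := h x hx hxx k hk
  have hr0 := ne_zero_of_image p hn hx hk0 e1
  have hsx : app s x ≠ 0 := fun e0 => hx (app_injective s (e0.trans (app_zero s).symm))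
  obtain ⟨r', hr', e2⟩ := h _ hsx (by rw [app_H]; exact hxx) k (hk.app s)
  rw [← tr_conj s hk, map_mul, map_mul, map_inv, map_mul, map_mul, map_inv, e1, ← hs', ← map_inv,
    ← map_mul, ← map_mul, tr_conj s' hr] at e2
  have hr'0 : r' ≠ 0 := by
    rintro rfl
    rw [tr_zero, map_one] at e2
    exact tr_proj_ne_one p hn (fun e0 => hx (app_injective s' (e0.trans (app_zero s').symm))) hr0 e2
  exact proj_tr_eq p hn hsx hr'0 e2.symm

include p in
/-- Normalisation at the pair: the parameters become fixed. -/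
theorem exists_normalise (hn : 3 ≤ n) (h32 : ¬ (n = 3 ∧ q = 2)) (hp : HPair q e f)
    {ψ : MulAut PSUn} (he : LineFix ψ e) (hf : LineFix ψ f) :
    ∃ (g : Cfsg.GU n F q) (τ : F ≃+* F), LineFix ((stdA g τ)⁻¹ * ψ) e ∧
      LineFix ((stdA g τ)⁻¹ * ψ) f ∧ SP e f ((stdA g τ)⁻¹ * ψ) id := by
  have hn2 : 2 ≤ n := by omega
  obtain ⟨S, τ, c, hS, hc0, hcσ, hlin, hform⟩ := exists_semilinear_S p hn h32 hp he hf
  have hadd := fun {w w' : V} => hS.add p hn2 hp (w := w) (w' := w')
  obtain ⟨α, hα⟩ := exists_norm (F := F) (q := q) (c := τ c) (by rw [qb_comm, hcσ])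
  have hτc : τ c ≠ 0 := (map_ne_zero τ).2 hc0
  have hα0 : α ≠ 0 := fun h0 => hτc (by rw [← hα, h0, zero_mul])
  have hsα : σ α ≠ 0 := (map_ne_zero σ).2 hα0
  let Γ : V → V := fun v =>
    (α * τ (H v f)) • e + ((σ α)⁻¹ * τ (H v e)) • f + (σ α)⁻¹ • S (pW q e f v)
  have hpW_add : ∀ u v : V, pW q e f (u + v) = pW q e f u + pW q e f v := fun u v => by
    simp only [pW, H_add_left]; module
  have hpW_smul : ∀ (a : F) (v : V), pW q e f (a • v) = a • pW q e f v := fun a v => by
    simp only [pW, H_smul_left]; module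
  have hΓadd : ∀ u v, Γ (u + v) = Γ u + Γ v := fun u v => by
    simp only [Γ, H_add_left, map_add, hpW_add, hadd (hp.pW_mem u) (hp.pW_mem v)]
    module
  have hΓsmul : ∀ (a : F) (v : V), Γ (a • v) = τ a • Γ v := fun a v => by
    simp only [Γ, H_smul_left, map_mul, hpW_smul, hlin a _ (hp.pW_mem v)]
    module
  have hsym : ∀ (a : F) (v : V), vmap τ.symm (a • v) = τ.symm a • vmap τ.symm v := fun a v =>
    vmap_smul _ a v
  let L : V →ₗ[F] V :=
    { toFun := fun v => Γ (vmap τ.symm v)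
      map_add' := fun u v => by rw [vmap_add, hΓadd]
      map_smul' := fun a v => by rw [hsym, hΓsmul, RingEquiv.apply_symm_apply]; rfl }
  have hΓH : ∀ u v, H (Γ u) (Γ v) = τ (H u v) := fun u v => by
    have hu := hS.1 _ (hp.pW_mem (q := q) u)
    have hv := hS.1 _ (hp.pW_mem (q := q) v)
    have huv : H (pW q e f u) (pW q e f v) =
        H u v - σ (H v f) * H u e - σ (H v e) * H u f := by
      simp only [pW, H_sub_left, H_sub_right, H_smul_left, H_smul_right, hp.ee, hp.ff, hp.ef,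
        hp.fe, H_flip]
      ring
    simp only [Γ, H_add_left, H_add_right, H_smul_left, H_smul_right, hp.ee, hp.ff, hp.ef, hp.fe,
      hu.1, hu.2, hv.e_left, hv.f_left, hu.e_left, hu.f_left, hv.1, hv.2,
      hform _ _ (hp.pW_mem u) (hp.pW_mem v), huv, map_mul, map_sub, map_inv₀, qb_qb, qb_comm,
      H_flip]
    rw [← hα]
    field_simp
    ring
  obtain ⟨g, hg⟩ := exists_GU_of_pres (q := q) L (fun u v => by
    show H (Γ (vmap τ.symm u)) (Γ (vmap τ.symm v)) = _
    rw [hΓH, H_vmap, RingEquiv.apply_symm_apply])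
  have hgv : ∀ v, ((g : GLn) : Mat) *ᵥ vmap τ v = Γ v := fun v => by
    rw [hg]
    show Γ (vmap τ.symm (vmap τ v)) = Γ v
    congr 1
    funext i
    exact τ.symm_apply_apply _
  have hΓe : Γ e = α • e := by
    have : pW q e f e = 0 := by simp [pW, hp.ee, hp.ef]
    simp [Γ, hp.ee, hp.ef, this, show S 0 = 0 by simpa using hadd inW_zero inW_zero]
  have hΓf : Γ f = (σ α)⁻¹ • f := by
    have : pW q e f f = 0 := by simp [pW, hp.ff, hp.fe]
    simp [Γ, hp.ff, hp.fe, this, show S 0 = 0 by simpa using hadd inW_zero inW_zero]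
  have hΓw : ∀ w, InW q e f w → Γ w = (σ α)⁻¹ • S w := fun w hw => by
    simp [Γ, hw.1, hw.2, pW_of_inW hw]
  have hPe := lineFix_stdA g τ hp.ee ((hgv e).trans hΓe)
  have hPf := lineFix_stdA g τ hp.ff ((hgv f).trans hΓf)
  refine ⟨g, τ, (hPe.inv p hn2 hp.e_ne hp.ee).mul he, (hPf.inv p hn2 hp.f_ne hp.ff).mul hf,
    fun w hw => hw, fun w t h hw => ?_⟩
  obtain ⟨s, hs, e1⟩ := hS.2 w t h hw
  obtain ⟨h1, e2⟩ := stdA_qE g τ h
  have hge : ((g : GLn) : Mat) *ᵥ vmap τ e = α • e := (hgv e).trans hΓe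
  have h2 : IsQ q (α • e) (((g : GLn) : Mat) *ᵥ vmap τ w) (τ t) := hge ▸ h1
  have hgw : ((g : GLn) : Mat) *ᵥ vmap τ w = (σ α)⁻¹ • S w := (hgv w).trans (hΓw w hw)
  have h3 : IsQ q e (((g : GLn) : Mat) *ᵥ vmap τ w) (τ t) :=
    ⟨hp.ee, by rw [hgw, H_smul_left, (hS.1 w hw).1, mul_zero], h2.2.2⟩
  have hSw : σ α • (((g : GLn) : Mat) *ᵥ vmap τ w) = S w := by
    rw [hgw, smul_smul, mul_inv_cancel₀ hsα, one_smul]
  have h4 : IsQ q e (S w) (σ α * σ (σ α) * τ t) := hSw ▸ h3.smul (σ α)
  rw [qE_congr_point (h' := h2) hge, qE_smul_point h3 α h2, qE_congr (h' := h4) hSw rfl] at e2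
  -- the difference is a transvection at `e`
  have hk : IsT q e (s - σ α * σ (σ α) * τ t) := ⟨hp.ee, by
    rw [map_sub]
    linear_combination hs.2.2 - h4.2.2⟩
  obtain ⟨r, hr, e3⟩ := hPe.inv p hn2 hp.e_ne hp.ee _ hk
  have e4 : qE e (S w) s hs = qE e (S w) _ h4 * tr e _ hk := by
    rw [tr, qE_mul]
    exact qE_congr (add_zero _).symm (by simp)
  refine ⟨t + r, ⟨hp.ee, hw.1, by
    simp only [id_eq, map_add]; linear_combination h.2.2 + hr.2⟩, ?_⟩
  rw [MulAut.mul_apply, e1, e4, map_mul, map_mul, e3, ← e2, MulAut.inv_apply_self, ← map_mul, tr,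
    qE_mul]
  congr 1
  exact qE_congr (add_zero _) (by simp)

include p in
/-- A normalised automorphism fixes every `q(e; a, t)`. -/
theorem fix_qE (hn : 3 ≤ n) (h32 : ¬ (n = 3 ∧ q = 2)) (hp : HPair q e f) {ψ : MulAut PSUn}
    (he : LineFix ψ e) (hf : LineFix ψ f) (hS : SP e f ψ id) {a : V} {t : F} (h : IsQ q e a t) :
    ψ (proj n F q (qE e a t h)) = proj n F q (qE e a t h) := by
  classical
  have hn2 : 2 ≤ n := by omega
  haveI := finite_field (F := F) (q := q)
  -- transvections at `e` are fixed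
  have htr : ∀ (s : F) (hs : IsT q e s), ψ (proj n F q (tr e s hs)) = proj n F q (tr e s hs) := by
    intro s hs
    obtain ⟨w, hw, hw0⟩ := exists_inW_ne_zero hn hp
    obtain ⟨v, hv⟩ := exists_H_eq_one (q := q) hw0
    obtain ⟨u, hu⟩ := exists_trace (F := F) (q := q) (c := 1) (map_one _)
    have hz := hp.pW_mem (q := q) v
    have hzw : H (pW q e f v) w = 1 := by rw [H_pW_right hw, hv]
    set x := -(s * u) with hx
    obtain ⟨t1, ht1⟩ := exists_isQ (q := q) hp.ee (hz.smul x).1
    obtain ⟨t2, ht2⟩ := exists_isQ (q := q) hp.ee hw.1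
    obtain ⟨s1, hs1, e1⟩ := hS.2 _ t1 ht1 (hz.smul x)
    obtain ⟨s2, hs2, e2⟩ := hS.2 _ t2 ht2 hw
    have key : ∀ (a b : F) (ha : IsQ q e (x • pW q e f v) a) (hb : IsQ q e w b),
        tr e s hs = (qE e (x • pW q e f v) a ha * qE e w b hb)⁻¹ *
          (qE e w b hb * qE e (x • pW q e f v) a ha) := by
      intro a b ha hb
      rw [eq_inv_mul_iff_mul_eq, qE_mul, qE_mul, tr, qE_mul]
      refine qE_congr (by rw [add_zero, add_comm]) ?_
      have h1 : H w (x • pW q e f v) = σ x := by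
        rw [H_smul_right, ← H_flip (pW q e f v) w, hzw, map_one, mul_one]
      rw [H_zero_left, h1, H_smul_left, hzw, hx, map_neg, map_mul]
      linear_combination (σ u) * hs.2 - s * hu
    rw [key t1 t2 ht1 ht2]
    simp only [map_mul, map_inv, e1, e2]
    simp only [id_eq, ← map_mul, ← map_inv]
    exact congrArg _ ((key s1 s2 hs1 hs2).symm.trans (key t1 t2 ht1 ht2))
  obtain ⟨w, t', h', hw, hwE⟩ := exists_qE_inW hp h
  rw [hwE]
  clear hwE h a t
  -- the shift in the last parameter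
  have hdiff : ∀ (w : V), InW q e f w → ∃ d : F, ∀ (t : F) (h : IsQ q e w t),
      ∃ h' : IsQ q e w (t + d),
        ψ (proj n F q (qE e w t h)) = proj n F q (qE e w (t + d) h') := by
    intro w hw
    obtain ⟨t0, ht0⟩ := exists_isQ (q := q) hp.ee hw.1
    obtain ⟨s0, hs0, e0⟩ := hS.2 w t0 ht0 hw
    refine ⟨s0 - t0, fun t ht => ?_⟩
    have hk : IsT q e (t - t0) := ⟨hp.ee, by
      rw [map_sub]
      linear_combination ht.2.2 - ht0.2.2⟩
    have e2 : qE e w t ht = qE e w t0 ht0 * tr e (t - t0) hk := by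
      rw [tr, qE_mul]
      exact qE_congr (add_zero w).symm (by simp)
    have hs0' : IsQ q e w s0 := hs0
    refine ⟨⟨hp.ee, hw.1, by
      rw [map_add, map_sub]
      linear_combination ht.2.2 + hs0'.2.2 - ht0.2.2⟩, ?_⟩
    rw [e2, map_mul, map_mul, e0, htr, ← map_mul, tr, qE_mul]
    congr 1
    exact qE_congr (add_zero w) (by simp; ring)
  choose! d hd using hdiff
  have hduniq : ∀ (w : V) (t c : F) (h : IsQ q e w t) (h' : IsQ q e w (t + c)), InW q e f w →
      ψ (proj n F q (qE e w t h)) = proj n F q (qE e w (t + c) h') → d w = c := by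
    intro w t c h h' hw e1
    obtain ⟨h'', e2⟩ := hd w hw t h
    exact add_left_cancel (proj_qE_inj p hn2 hp hw hw (e2.symm.trans e1)).2
  have hdadd : ∀ w w', InW q e f w → InW q e f w' → d (w + w') = d w + d w' := by
    intro w w' hw hw'
    obtain ⟨t, ht⟩ := exists_isQ (q := q) hp.ee hw.1
    obtain ⟨t'', ht''⟩ := exists_isQ (q := q) hp.ee hw'.1
    obtain ⟨hs, e1⟩ := hd w hw t ht
    obtain ⟨hs', e2⟩ := hd w' hw' t'' ht''
    have hsum : IsQ q e (w + w') (t + t'' - H w' w + (d w + d w')) := by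
      refine ⟨hp.ee, (hw.add hw').1, ?_⟩
      have := (hs.add hs').2.2
      simp only [map_add, map_sub] at this ⊢
      linear_combination this
    refine hduniq _ _ _ (ht.add ht'') hsum (hw.add hw') ?_
    rw [← qE_mul ht ht'', map_mul, map_mul, e1, e2, ← map_mul, qE_mul]
    congr 1
    exact qE_congr rfl (by ring)
  -- invariance under the stabiliser
  have hequiv : ∀ (s : SUn) (c : F), DElt e f s c → ∀ w, InW q e f w →
      d (σ c • app s w) = σ c * σ (σ c) * d w := by
    intro s c hs w hw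
    obtain ⟨s', hs'⟩ := proj_surjective (ψ (proj n F q s))
    obtain ⟨c', hd'⟩ := hs.image p hn2 hp he hf hs'.symm
    obtain ⟨k, hk0, hk⟩ := exists_isT (q := q) hp.ee
    have hN : σ c' * σ (σ c') = σ c * σ (σ c) := by
      have e2 := congrArg ψ (congrArg (proj n F q) (hs.conj hk.isQ))
      simp only [map_mul, map_inv] at e2
      rw [← hs', show qE e 0 k hk.isQ = tr e k hk from rfl, htr] at e2
      have hT : IsT q e (σ c * σ (σ c) * k) := ⟨hp.ee, by
        simp only [map_mul, qb_qb]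
        linear_combination (σ c * c) * hk.2⟩
      rw [qE_congr (h' := hT.isQ) (by simp [app_zero]) rfl,
        show qE e 0 _ hT.isQ = tr e _ hT from rfl, htr, ← map_inv, ← map_mul, ← map_mul,
        show tr e k hk = qE e 0 k hk.isQ from rfl, hd'.conj hk.isQ] at e2
      have hT' : IsT q e (σ c' * σ (σ c') * k) := ⟨hp.ee, by
        simp only [map_mul, qb_qb]
        linear_combination (σ c' * c') * hk.2⟩
      rw [qE_congr (h' := hT'.isQ) (by simp [app_zero]) rfl] at e2
      exact mul_right_cancel₀ hk0 (proj_qE_inj p hn2 hp inW_zero inW_zero e2).2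
    obtain ⟨t, ht⟩ := exists_isQ (q := q) hp.ee hw.1
    obtain ⟨h1, e1⟩ := hd w hw t ht
    have hact : σ c • app s w = σ c' • app s' w := hS.equivariant p hn2 hp hs hd' hs'.symm hw
    have hnew : IsQ q e (σ c • app s w) (σ c * σ (σ c) * t + σ c * σ (σ c) * d w) := by
      refine ⟨hp.ee, (hs.isQ ht).2.1, ?_⟩
      have := (hd'.isQ h1).2.2
      rw [← hact, hN] at this
      rw [← mul_add]
      exact this
    refine hduniq _ _ _ (hs.isQ ht) hnew ((hs.inW hp hw).smul _) ?_
    rw [← hs.conj ht, map_mul, map_mul, map_inv, map_mul, map_mul, map_inv, ← hs', e1, ← map_inv,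
      ← map_mul, ← map_mul, hd'.conj h1]
    congr 1
    exact qE_congr hact.symm (by rw [hN, mul_add])
  have hd0 : ∀ w, InW q e f w → d w = 0 := by
    have hd00 : d 0 = 0 := by simpa using hdadd 0 0 inW_zero inW_zero
    have hneg : ∀ w, InW q e f w → d (-w) = - d w := by
      intro w hw
      have := hdadd w ((-1 : F) • w) hw (hw.smul _)
      rw [neg_one_smul, add_neg_cancel, hd00] at this
      linear_combination -this
    -- vanishing from a norm-one scalar
    have hvan : ∀ (x : V) (μ : F), InW q e f x → μ ≠ 1 →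
        (∀ c : F, d (μ • (c • x)) = d (c • x)) → d x = 0 := by
      intro x μ hx hμ h
      have h1 := h (μ - 1)⁻¹
      have h2 := hdadd (μ • ((μ - 1)⁻¹ • x)) (-((μ - 1)⁻¹ • x)) ((hx.smul _).smul _)
        (by simpa using (hx.smul (μ - 1)⁻¹).smul (-1))
      rw [hneg _ (hx.smul _), h1, add_neg_cancel] at h2
      rw [← h2]
      congr 1
      have hne : μ - 1 ≠ 0 := sub_ne_zero.2 hμ
      rw [smul_smul, ← neg_smul, ← add_smul,
        show μ * (μ - 1)⁻¹ + -(μ - 1)⁻¹ = (μ - 1) * (μ - 1)⁻¹ by ring, mul_inv_cancel₀ hne,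
        one_smul]
    rcases w_cases hn hp with ⟨u₀, hu₀, hu₀0, hu₀u⟩ | ⟨hn3, w0, hw0, h00, hline⟩
    · have hq := two_le_q (F := F) (q := q)
      obtain ⟨c, hc1, hc2⟩ := exists_norm_one_pow_ne (F := F) (q := q) (m := 2) two_pos (by omega)
      have hiso : ∀ x, InW q e f x → H x x = 0 → d x = 0 := by
        intro x hx hxx
        by_cases hx0 : x = 0
        · rw [hx0, hd00]
        obtain ⟨y, hy, hyx, hyy⟩ := exists_partner_W hp hx hx0 hxx
        have hc0 : c ≠ 0 := fun h0 => by simp [h0] at hc1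
        obtain ⟨s, hs, hsx, -⟩ := exists_dElt_pair hp hx hy
          (⟨hxx, hyy, by rw [← H_flip y x, hyx, map_one]⟩ : HPair q x y) hc0
        refine hvan x (c * c) hx (by rwa [← pow_two]) fun z => ?_
        have h1 := hequiv s _ hs (z • x) (hx.smul z)
        rw [qb_qb, hc1, one_mul, app_smul, hsx] at h1
        rw [← h1]
        congr 1
        module
      obtain ⟨u', hu', hu'u, hu'u'⟩ := exists_partner_W hp hu₀ hu₀0 hu₀u
      have hq0 : HPair q u₀ u' := ⟨hu₀u, hu'u', by rw [← H_flip u' u₀, hu'u, map_one]⟩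
      intro w hw
      obtain ⟨r, a, b, hr, hrr, rfl⟩ := exists_iso_decomp hp hu₀ hu' hq0 w hw
      rw [hdadd _ _ (hr.add (hu₀.smul a)) (hu'.smul b), hdadd _ _ hr (hu₀.smul a), hiso r hr hrr,
        hiso _ (hu₀.smul a) (by simp [hu₀u]), hiso _ (hu'.smul b) (by simp [hu'u']), add_zero,
        add_zero]
    · have hq3 : 3 ≤ q := by
        have := two_le_q (F := F) (q := q)
        by_contra hcon
        exact h32 ⟨hn3, by omega⟩
      obtain ⟨c, hc1, hc2⟩ := exists_norm_one_pow_ne (F := F) (q := q) (m := 3) three_pos (by omega)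
      have hc0 : c ≠ 0 := fun h0 => by simp [h0] at hc1
      have hsc0 : σ c ≠ 0 := (map_ne_zero σ).2 hc0
      have hμ : σ c * (σ c / c) ≠ 1 := by
        intro h0
        apply hc2
        have h1 : σ c = c⁻¹ := eq_inv_of_mul_eq_one_right hc1
        rw [h1] at h0
        field_simp at h0
        linear_combination -h0
      intro w hw
      obtain ⟨s, hs, hsw⟩ := exists_dElt_refl hp hw0 h00 hc0
      obtain ⟨b, rfl⟩ := hline w hw
      refine hvan _ _ hw hμ fun z => ?_
      have h1 := hequiv s c hs (z • b • w0) (((hw0.smul b)).smul z)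
      rw [qb_qb, mul_comm (σ c) c, hc1, one_mul, app_smul, app_smul, hsw] at h1
      rw [← h1]
      congr 1
      module
  obtain ⟨h1, e1⟩ := hd w hw t' h'
  rw [e1]
  congr 1
  exact qE_congr rfl (by rw [hd0 w hw, add_zero])

include p in
/-- A normalised automorphism is trivial. -/
theorem eq_one_of_normalised (hn : 3 ≤ n) (h32 : ¬ (n = 3 ∧ q = 2)) (hp : HPair q e f)
    {ψ : MulAut PSUn} (he : LineFix ψ e) (hf : LineFix ψ f) (hS : SP e f ψ id) : ψ = 1 := by
  classical
  have hn2 : 2 ≤ n := by omega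
  -- points not orthogonal to `e`
  have hfar : ∀ y : V, H y y = 0 → H y e ≠ 0 → LineFix ψ y := by
    intro y hyy hye
    set y' := (H y e)⁻¹ • y with hy'
    have h1 : H y' e = 1 := by simp [hy', inv_mul_cancel₀ hye]
    have h1' : H e y' = 1 := by rw [← H_flip, h1, map_one]
    have hy'y : H y' y' = 0 := by simp [hy', hyy]
    have hq : IsQ q e (pW q e f y') (H y' f) := by
      refine ⟨hp.ee, (hp.pW_mem y').1, ?_⟩
      rw [H_pW_left (hp.pW_mem y')]
      simp only [pW, H_sub_left, H_smul_left, H_flip, hy'y, h1']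
      linear_combination (- H f y') * h1
    have hmove : app (qE e (pW q e f y') (H y' f) hq) f = y' := by
      rw [qE_apply, hp.fe, (hp.pW_mem y').f_left, pW, h1]
      module
    have hy'fix : LineFix ψ y' := by
      intro t ht
      have ht' : IsT q f t := ⟨hp.ff, ht.2⟩
      obtain ⟨s, hs, es⟩ := hf t ht'
      have hs' : IsT q y' s := ⟨hy'y, hs.2⟩
      refine ⟨s, hs', ?_⟩
      rw [show tr y' t ht = qE e _ _ hq * tr f t ht' * (qE e _ _ hq)⁻¹ by
          rw [tr_conj]; exact tr_congr hmove.symm rfl,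
        show tr y' s hs' = qE e _ _ hq * tr f s hs * (qE e _ _ hq)⁻¹ by
          rw [tr_conj]; exact tr_congr hmove.symm rfl,
        map_mul, map_mul, map_inv, map_mul, map_mul, map_inv, fix_qE p hn h32 hp he hf hS hq, es,
        map_mul, map_mul, map_inv]
    have := hy'fix.smul hy'y hye
    rwa [hy', smul_smul, mul_inv_cancel₀ hye, one_smul] at this
  refine eq_one_of_fix_points p hn2 fun z hz hzz => ?_
  by_cases hze : H z e = 0
  swap
  · exact hfar z hzz hze
  by_cases hline : ∃ c : F, z = c • e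
  · obtain ⟨c, rfl⟩ := hline
    exact he.smul hp.ee (fun h0 => hz (by rw [h0, zero_smul]))
  obtain ⟨y, hy, hyy, himg⟩ := exists_image_point p hn2 ψ hz hzz
  obtain ⟨k, hk0, hk⟩ := exists_isT (q := q) hzz
  obtain ⟨s, hs, es⟩ := himg k hk
  have hs0 := ne_zero_of_image p hn2 hz hk0 es
  -- orthogonality to fixed points
  have horth : ∀ x : V, x ≠ 0 → H x x = 0 → LineFix ψ x → (H x z = 0 ↔ H x y = 0) := by
    intro x hx hxx hfx
    obtain ⟨j, hj0, hj⟩ := exists_isT (q := q) hxx
    obtain ⟨r, hr, er⟩ := hfx j hj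
    have hr0 := ne_zero_of_image p hn2 hx hj0 er
    rw [← proj_commute_iff p hn2 (h := hj) (h' := hk) hx hz hj0 hk0,
      ← proj_commute_iff p hn2 (h := hr) (h' := hs) hx hy hr0 hs0, ← er, ← es, ← map_mul ψ,
      ← map_mul ψ, ψ.injective.eq_iff]
  have hye : H y e = 0 :=
    H_eq_zero_comm.1 ((horth e hp.e_ne hp.ee he).1 (H_eq_zero_comm.1 hze))
  set w := pW q e f z with hwdef
  set w' := pW q e f y with hw'def
  have hw : InW q e f w := hp.pW_mem z
  have hw' : InW q e f w' := hp.pW_mem y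
  have hzd : z = H z f • e + w := by
    rw [hwdef, pW, hze, zero_smul]; module
  have hyd : y = H y f • e + w' := by
    rw [hw'def, pW, hye, zero_smul]; module
  have hw0 : w ≠ 0 := fun h0 => hline ⟨H z f, by rw [hzd, h0, add_zero]; simp [hp.ef]⟩
  obtain ⟨v, hv⟩ := exists_H_eq_one (q := q) hw0
  have hv1 : H (pW q e f v) w = 1 := by rw [H_pW_right hw, hv]
  -- the far points orthogonal to `z`
  have hH : ∀ x : V, InW q e f x → H x w = - σ (H z f) → H x w' = - σ (H y f) := by
    intro x hx hxw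
    obtain ⟨t, ht⟩ := exists_trace (F := F) (q := q) (c := - H x x)
      (by rw [map_neg, H_self_fixed])
    set r := t • e + f + x with hr
    have hrr : H r r = 0 := by
      simp only [hr, H_add_left, H_add_right, H_smul_left, H_smul_right, hp.ee, hp.ff, hp.ef,
        hp.fe, hx.1, hx.2, hx.e_left, hx.f_left]
      linear_combination ht
    have hre : H r e = 1 := by simp [hr, hp.ee, hp.fe, hx.1]
    have hr0 : r ≠ 0 := fun h0 => one_ne_zero (α := F) (by rw [← hre, h0, H_zero_left])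
    have hrz : H r z = 0 := by
      rw [hzd]
      simp only [hr, H_add_left, H_add_right, H_smul_left, H_smul_right, hp.ee, hp.fe, hx.1,
        hw.e_left, hw.f_left, hxw]
      ring
    have h2 := (horth r hr0 hrr (hfar r hrr (by rw [hre]; exact one_ne_zero))).1 hrz
    rw [hyd] at h2
    simp only [hr, H_add_left, H_add_right, H_smul_left, H_smul_right, hp.ee, hp.fe, hx.1,
      hw'.e_left, hw'.f_left] at h2
    linear_combination h2
  set x0 := (- σ (H z f)) • pW q e f v with hx0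
  have hx0W : InW q e f x0 := (hp.pW_mem v).smul _
  have hx0w : H x0 w = - σ (H z f) := by rw [hx0, H_smul_left, hv1, mul_one]
  obtain ⟨a, ha⟩ := exists_smul_of_orth_W hp hw hw' fun x hx hxw => by
    have h1 := hH (x0 + x) (hx0W.add hx) (by rw [H_add_left, hx0w, hxw, add_zero])
    rw [H_add_left, hH x0 hx0W hx0w] at h1
    linear_combination h1
  have hf' : H y f = a * H z f := by
    have h1 := hH x0 hx0W hx0w
    rw [ha, H_smul_right, hx0w, mul_neg, neg_inj, ← map_mul] at h1
    exact ((qb (F := F) q).injective h1).symm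
  have hya : y = a • z := by rw [hyd, ha, hf', hzd]; simp [hp.ef, hw.2]; module
  intro t ht
  obtain ⟨r, hr, er⟩ := himg t ht
  subst hya
  exact ⟨_, isT_of_smul hzz hr, by rw [er, tr_smul_point hr (isT_of_smul hzz hr)]⟩

include p in
/-- Every automorphism is induced by a semilinear isometry. -/
theorem exists_normal_form [Fintype F] (hn : 3 ≤ n) (h32 : ¬ (n = 3 ∧ q = 2))
    (φ : MulAut PSUn) : ∃ (g : Cfsg.GU n F q) (τ : F ≃+* F), φ = stdA g τ := by
  classical
  have hn2 : 2 ≤ n := by omega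
  have hF : Fintype.card F = q ^ 2 := by rw [← Nat.card_eq_fintype_card, hQ.card]
  obtain ⟨e, f, hee, hff, hef⟩ := exists_hyperbolic_pair (F := F) (q := q) hn2
  have hp : HPair q e f := ⟨hee, hff, hef⟩
  obtain ⟨x, hx, hxx, hxi⟩ := exists_image_point p hn2 φ hp.e_ne hee
  obtain ⟨y, hy, hyy, hyi⟩ := exists_image_point p hn2 φ hp.f_ne hff
  obtain ⟨k, hk0, hk⟩ := exists_isT (q := q) hee
  obtain ⟨j, hj0, hj⟩ := exists_isT (q := q) hff
  obtain ⟨k', hk', ek⟩ := hxi k hk
  obtain ⟨j', hj', ej⟩ := hyi j hj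
  have hxy : H x y ≠ 0 := by
    intro h0
    rw [← proj_commute_iff p hn2 (h := hk') (h' := hj') hx hy
      (ne_zero_of_image p hn2 hp.e_ne hk0 ek) (ne_zero_of_image p hn2 hp.f_ne hj0 ej), ← ek, ← ej,
      ← map_mul φ, ← map_mul φ, φ.injective.eq_iff,
      proj_commute_iff p hn2 hp.e_ne hp.f_ne hk0 hj0, hef] at h0
    exact one_ne_zero h0
  set y' := (σ (H x y))⁻¹ • y with hy'
  have hp' : HPair q x y' := ⟨hxx, by simp [hy', hyy], by simp [hy', inv_mul_cancel₀ hxy]⟩
  obtain ⟨s, hs, hinv, hq2⟩ := FormsLib.exists_qhom hF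
  have hU := (FormsLib.hermB_isUnitary hF n hs hinv hq2).1
  let X : Submodule F V := Submodule.span F {e, f}
  let M : V →ₗ[F] V := (Hl (q := q) f).smulRight x + (Hl (q := q) e).smulRight y'
  have hXd : ∀ v ∈ X, v = H v f • e + H v e • f := by
    intro v hv
    induction hv using Submodule.span_induction with
    | mem v hv =>
      rcases hv with rfl | rfl <;> simp [hp.ee, hp.ff, hp.ef, hp.fe]
    | zero => simp
    | add u v _ _ hu hv =>
      conv_lhs => rw [hu, hv]
      simp only [H_add_left]; module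
    | smul c v _ hv =>
      conv_lhs => rw [hv]
      simp only [H_smul_left]; module
  have hMH : ∀ u ∈ X, ∀ v ∈ X, H (M u) (M v) = H u v := by
    intro u hu v hv
    conv_rhs => rw [hXd u hu, hXd v hv]
    simp [M, hp.ee, hp.ff, hp.ef, hp.fe, hp'.ee, hp'.ff, hp'.ef, hp'.fe]
  have hMinj : Function.Injective (M.domRestrict X) := by
    intro u v huv
    apply Subtype.ext
    rw [← sub_eq_zero]
    have h0 : M (u - v : V) = 0 := by
      rw [map_sub, sub_eq_zero]; exact huv
    have hz : ∀ w ∈ X, H (u - v : V) w = 0 := fun w hw => by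
      rw [← hMH _ (sub_mem u.2 v.2) w hw, h0, H_zero_left]
    rw [hXd _ (sub_mem u.2 v.2), hz f (Submodule.subset_span (by simp)),
      hz e (Submodule.subset_span (by simp)), zero_smul, zero_smul, add_zero]
  obtain ⟨g0, hg0, hg0X⟩ := hU.tf.witt X (M.domRestrict X) hMinj (fun u v => by
    show FormsLib.hermB n s (M u) (M v) = _
    rw [FormsLib.hermB_apply hs, FormsLib.hermB_apply hs, hMH _ v.2 _ u.2])
  obtain ⟨g, hg⟩ := exists_GU_of_pres (q := q) (g0 : V →ₗ[F] V) (fun u v => by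
    rw [← FormsLib.hermB_apply hs, ← FormsLib.hermB_apply hs]
    exact hg0 v u)
  have hge : ((g : GLn) : Mat) *ᵥ vmap (RingEquiv.refl F) e = x := by
    rw [show vmap (RingEquiv.refl F) e = e from rfl, hg]
    show g0 e = x
    rw [hg0X ⟨e, Submodule.subset_span (by simp)⟩]
    simp [M, hp.ee, hp.ef]
  have hgf : ((g : GLn) : Mat) *ᵥ vmap (RingEquiv.refl F) f = y' := by
    rw [show vmap (RingEquiv.refl F) f = f from rfl, hg]
    show g0 f = y'
    rw [hg0X ⟨f, Submodule.subset_span (by simp)⟩]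
    simp [M, hp.ff, hp.fe]
  -- the composite fixes both points
  have hback : ∀ (z z' : V) (hzz : H z z = 0), ((g : GLn) : Mat) *ᵥ vmap (RingEquiv.refl F) z = z' →
      ∀ (c : F), c ≠ 0 → (∀ (t : F) (h : IsT q z t), ∃ (r : F) (h' : IsT q (c • z') r),
        φ (proj n F q (tr z t h)) = proj n F q (tr (c • z') r h')) →
      LineFix ((stdA g (RingEquiv.refl F))⁻¹ * φ) z := by
    intro z z' hzz hz' c hc himg t ht
    obtain ⟨r, hr, er⟩ := himg t ht
    have hz'z : H z' z' = 0 := by rw [← hz', GU_H, H_vmap, hzz, map_zero]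
    have h1 := isT_of_smul hz'z hr
    have hT : IsT q z (c * σ c * r) := ⟨hzz, h1.2⟩
    refine ⟨_, hT, (stdA g (RingEquiv.refl F)).injective ?_⟩
    rw [MulAut.mul_apply, MulAut.apply_inv_self, er, tr_smul_point hr h1, stdA_tr g _ hT]
    congr 1
    exact tr_congr hz'.symm rfl
  have hLe : LineFix ((stdA g (RingEquiv.refl F))⁻¹ * φ) e :=
    hback e x hee hge 1 one_ne_zero (fun t h => by simpa using hxi t h)
  have hLf : LineFix ((stdA g (RingEquiv.refl F))⁻¹ * φ) f := by
    refine hback f y' hff hgf (σ (H x y)) ((map_ne_zero σ).2 hxy) (fun t h => ?_)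
    have hy'' : σ (H x y) • y' = y := by
      rw [hy', smul_smul, mul_inv_cancel₀ ((map_ne_zero σ).2 hxy), one_smul]
    obtain ⟨r, hr, er⟩ := hyi t h
    exact ⟨r, hy''.symm ▸ hr, by rw [er]; congr 1; exact tr_congr hy''.symm rfl⟩
  obtain ⟨g', τ, h1, h2, h3⟩ := exists_normalise p hn h32 hp hLe hLf
  have h4 := eq_one_of_normalised p hn h32 hp h1 h2 h3
  refine ⟨g * g', τ, ?_⟩
  rw [inv_mul_eq_one, eq_inv_mul_iff_mul_eq] at h4
  rw [← h4, stdA, stdA, stdA, ← map_mul, fld_one, mul_one, map_mul cj, mul_assoc]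

include p in
/-- Uniqueness: the trivial automorphism comes from scalars only. -/
theorem stdA_eq_one (hn : 3 ≤ n) {g : Cfsg.GU n F q} {τ : F ≃+* F} (h : stdA g τ = 1) :
    τ = RingEquiv.refl F ∧ (g : GLn) ∈ Cfsg.Geo.scalars (Fin n) F := by
  classical
  have hn2 : 2 ≤ n := by omega
  have hpt : ∀ x : V, x ≠ 0 → H x x = 0 → ∃ a : F, ((g : GLn) : Mat) *ᵥ vmap τ x = a • x := by
    intro x hx hxx
    obtain ⟨k, hk0, hk⟩ := exists_isT (q := q) hxx
    have e1 := stdA_tr g τ hk
    rw [h, MulAut.one_apply] at e1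
    exact proj_tr_eq p hn2 hx hk0 e1
  obtain ⟨e, f, hee, hff, hef⟩ := exists_hyperbolic_pair (F := F) (q := q) hn2
  have hp : HPair q e f := ⟨hee, hff, hef⟩
  let Γ : V → V := fun v => ((g : GLn) : Mat) *ᵥ vmap τ v
  have hΓadd : ∀ u v, Γ (u + v) = Γ u + Γ v := fun u v => by
    simp only [Γ, vmap_add, Matrix.mulVec_add]
  have hΓsmul : ∀ (a : F) v, Γ (a • v) = τ a • Γ v := fun a v => by
    simp only [Γ, vmap_smul, Matrix.mulVec_smul]
  obtain ⟨α, hα⟩ := hpt e hp.e_ne hee
  obtain ⟨β, hβ⟩ := hpt f hp.f_ne hff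
  have hα0 : α ≠ 0 := fun h0 => semilinear_ne_zero g τ hp.e_ne (by rw [hα, h0, zero_smul])
  have hskew : ∀ k : F, k + σ k = 0 → τ k * β = k * α := by
    intro k hk
    have hu : H (e + k • f) (e + k • f) = 0 := by
      simp only [H_add_left, H_add_right, H_smul_left, H_smul_right, hee, hff, hef, hp.fe]
      linear_combination hk
    have hu0 : e + k • f ≠ 0 := fun h0 => by
      have := congrArg (fun v => H v f) h0
      simp [hff, hef] at this
    obtain ⟨c, hc⟩ := hpt _ hu0 hu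
    change Γ (e + k • f) = _ at hc
    rw [hΓadd, hΓsmul, show Γ e = α • e from hα, show Γ f = β • f from hβ] at hc
    have e1 := congrArg (fun v => H v f) hc
    have e2 := congrArg (fun v => H v e) hc
    simp [hee, hff, hef, hp.fe] at e1 e2
    rw [e2, e1]; ring
  -- an anisotropic vector orthogonal to the pair
  obtain ⟨w, hw, hww⟩ : ∃ w : V, InW q e f w ∧ H w w ≠ 0 := by
    rcases w_cases hn hp with ⟨u, hu, hu0, huu⟩ | ⟨-, w0, hw0, h00, -⟩
    · obtain ⟨u', hu', hu'u, hu'u'⟩ := exists_partner_W hp hu hu0 huu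
      obtain ⟨a, ha⟩ := exists_trace (F := F) (q := q) (c := 1) (map_one _)
      refine ⟨u + a • u', hu.add (hu'.smul a), ?_⟩
      have huu' : H u u' = 1 := by rw [← H_flip u' u, hu'u, map_one]
      simp only [H_add_left, H_add_right, H_smul_left, H_smul_right, huu, hu'u', hu'u, huu']
      intro h0
      exact one_ne_zero (α := F) (by linear_combination h0 - ha)
    · exact ⟨w0, hw0, h00⟩
  have hall : ∀ t : F, τ t * β = t * α := by
    intro t
    by_cases hts : t + σ t = 0
    · exact hskew t hts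
    obtain ⟨a, ha⟩ := exists_norm (F := F) (q := q) (c := - (t + σ t) / H w w) (by
      rw [map_div₀, map_neg, map_add, qb_qb, H_self_fixed, add_comm (σ t)])
    have hx : H (e + t • f + a • w) (e + t • f + a • w) = 0 := by
      simp only [H_add_left, H_add_right, H_smul_left, H_smul_right, hee, hff, hef, hp.fe, hw.1,
        hw.2, hw.e_left, hw.f_left]
      have : a * σ a * H w w = - (t + σ t) := by rw [ha, div_mul_cancel₀ _ hww]
      linear_combination this
    have hx0 : e + t • f + a • w ≠ 0 := fun h0 => by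
      have := congrArg (fun v => H v f) h0
      simp [hff, hef, hw.2] at this
    obtain ⟨c, hc⟩ := hpt _ hx0 hx
    change Γ (e + t • f + a • w) = _ at hc
    rw [hΓadd, hΓadd, hΓsmul, hΓsmul, show Γ e = α • e from hα, show Γ f = β • f from hβ] at hc
    have hw1 : H (Γ w) (Γ e) = 0 := by
      simp only [Γ, GU_H, H_vmap, hw.1, map_zero]
    have hw2 : H (Γ w) (Γ f) = 0 := by
      simp only [Γ, GU_H, H_vmap, hw.2, map_zero]
    have hβ0 : β ≠ 0 := fun h0 => semilinear_ne_zero g τ hp.f_ne (by rw [hβ, h0, zero_smul])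
    rw [show Γ e = α • e from hα, H_smul_right, mul_eq_zero,
      or_iff_right ((map_ne_zero σ).2 hα0)] at hw1
    rw [show Γ f = β • f from hβ, H_smul_right, mul_eq_zero,
      or_iff_right ((map_ne_zero σ).2 hβ0)] at hw2
    have e1 := congrArg (fun v => H v f) hc
    have e2 := congrArg (fun v => H v e) hc
    simp [hee, hff, hef, hp.fe, hw.1, hw.2, hw1, hw2] at e1 e2
    rw [e2, e1]; ring
  have hαβ : β = α := by simpa using hall 1
  have hτ : τ = RingEquiv.refl F := RingEquiv.ext fun t =>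
    mul_right_cancel₀ hα0 (by rw [← hαβ]; exact (hall t).trans (by rw [hαβ]; rfl))
  refine ⟨hτ, ?_⟩
  subst hτ
  obtain ⟨c, hc⟩ := scalar_of_fix_iso (q := q) hn2 ((g : GLn) : Mat) hpt
  rw [Cfsg.Geo.mem_scalars_iff]
  have hc0 : c ≠ 0 := fun h0 => semilinear_ne_zero g (RingEquiv.refl F) hp.e_ne (by
    rw [show vmap (RingEquiv.refl F) e = e from rfl, hc, h0, zero_smul])
  refine ⟨Units.mk0 c hc0, Matrix.ext_iff_mulVec.2 fun v => ?_⟩
  rw [hc, Units.val_mk0, Matrix.smul_mulVec, Matrix.one_mulVec]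

end Cfsg.Agent.AutPSU
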