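import Cfsg.Agent.Lib.AutPSU.Centre

/-!
# A hyperbolic pair and its stabiliser

For a hyperbolic pair `e, f` with orthogonal space `W`: root elements with parameters in `W`,
elements of `SU` fixing both points, and the additive maps of `W` commuting with their action.
-/

set_option autoImplicit false
set_option linter.style.haveILetI false
set_option linter.unusedSimpArgs false
set_option linter.unusedSectionVars false

namespace Cfsg.Agent.AutPSU

open Matrix

universe u

variable {F : Type u} [Field F] {q : ℕ} [hQ : QField F q] {n : ℕ}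
include hQ

local notation "σ" => qb (F := F) q
local notation "V" => Fin n → F
local notation "Mat" => Matrix (Fin n) (Fin n) F
local notation "GLn" => GL (Fin n) F
set_option quotPrecheck false in
local notation "SUn" => ↥(Cfsg.SU n F q)
local notation "PSUn" => Cfsg.PSU n F q
local notation "H" => Cfsg.hermForm n F q

/-- `e, f` is a hyperbolic pair. -/
structure HPair (q : ℕ) (e f : Fin n → F) : Prop where
  ee : Cfsg.hermForm n F q e e = 0
  ff : Cfsg.hermForm n F q f f = 0
  ef : Cfsg.hermForm n F q e f = 1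

/-- `w` is orthogonal to the pair. -/
def InW (q : ℕ) (e f w : Fin n → F) : Prop :=
  Cfsg.hermForm n F q w e = 0 ∧ Cfsg.hermForm n F q w f = 0

/-- The projection to the orthogonal space of the pair. -/
def pW (q : ℕ) (e f v : Fin n → F) : Fin n → F :=
  v - Cfsg.hermForm n F q v f • e - Cfsg.hermForm n F q v e • f

variable {e f : Fin n → F}

theorem HPair.fe (hp : HPair q e f) : H f e = 1 := by rw [← H_flip e f, hp.ef, map_one]

theorem HPair.e_ne (hp : HPair q e f) : e ≠ 0 := fun h => one_ne_zero (α := F) (by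
  rw [← hp.ef, h, H_zero_left])

theorem HPair.f_ne (hp : HPair q e f) : f ≠ 0 := fun h => one_ne_zero (α := F) (by
  rw [← hp.ef, h, H_zero_right])

theorem HPair.symm (hp : HPair q e f) : HPair q f e := ⟨hp.ff, hp.ee, hp.fe⟩

theorem HPair.pW_mem (hp : HPair q e f) (v : V) : InW q e f (pW q e f v) :=
  ⟨by simp [pW, hp.ee, hp.fe], by simp [pW, hp.ff, hp.ef]⟩

theorem InW.add {w w' : V} (h : InW q e f w) (h' : InW q e f w') : InW q e f (w + w') :=
  ⟨by simp [h.1, h'.1], by simp [h.2, h'.2]⟩

theorem InW.smul {w : V} (h : InW q e f w) (c : F) : InW q e f (c • w) :=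
  ⟨by simp [h.1], by simp [h.2]⟩

theorem InW.sub {w w' : V} (h : InW q e f w) (h' : InW q e f w') : InW q e f (w - w') :=
  ⟨by simp [h.1, h'.1], by simp [h.2, h'.2]⟩

theorem inW_zero : InW q e f (0 : V) := ⟨by simp, by simp⟩

theorem InW.e_left {w : V} (h : InW q e f w) : H e w = 0 := H_eq_zero_comm.1 h.1

theorem InW.f_left {w : V} (h : InW q e f w) : H f w = 0 := H_eq_zero_comm.1 h.2

theorem H_pW_right {w : V} (h : InW q e f w) (v : V) : H (pW q e f v) w = H v w := by
  simp [pW, h.e_left, h.f_left]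

theorem H_pW_left {w : V} (h : InW q e f w) (v : V) : H w (pW q e f v) = H w v := by
  simp [pW, h.1, h.2]

theorem pW_of_inW {w : V} (h : InW q e f w) : pW q e f w = w := by simp [pW, h.1, h.2]

/-- Within `W`: if the orthogonal space of `w` kills `w'`, then `w'` is a multiple of `w`. -/
theorem exists_smul_of_orth_W (hp : HPair q e f) {w w' : V} (hw : InW q e f w)
    (hw' : InW q e f w') (h : ∀ v : V, InW q e f v → H v w = 0 → H v w' = 0) :
    ∃ a : F, w' = a • w := by
  refine exists_smul_of_orth (q := q) fun v hv => ?_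
  rw [← H_pW_right hw' v]
  exact h _ (hp.pW_mem v) (by rw [H_pW_right hw v]; exact hv)

theorem exists_partner_W (hp : HPair q e f) {u : V} (hu : InW q e f u) (hu0 : u ≠ 0)
    (huu : H u u = 0) : ∃ u' : V, InW q e f u' ∧ H u' u = 1 ∧ H u' u' = 0 := by
  obtain ⟨w, hw⟩ := exists_H_eq_one (q := q) hu0
  have hw' : H (pW q e f w) u = 1 := by rw [H_pW_right hu, hw]
  have huw : H u (pW q e f w) = 1 := by rw [← H_flip, hw', map_one]
  obtain ⟨t, ht⟩ := exists_trace (F := F) (q := q) (c := - H (pW q e f w) (pW q e f w))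
    (by rw [map_neg, H_self_fixed])
  refine ⟨pW q e f w + t • u, (hp.pW_mem w).add (hu.smul t), by simp [hw', huu], ?_⟩
  simp only [H_add_left, H_add_right, H_smul_left, H_smul_right, huu, hw', huw]
  linear_combination ht

/-! ### Parameters in `W` -/

theorem isT_smul_sub {x : V} (hxx : H x x = 0) (c : F) : IsT q x (c - σ c) :=
  ⟨hxx, by rw [map_sub, qb_qb]; ring⟩

theorem qE_add_smul {x a : V} {t : F} (c : F) (h : IsQ q x (a + c • x) t)
    (h' : IsQ q x a (t + c - σ c)) :
    qE x (a + c • x) t h = qE x a (t + c - σ c) h' :=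
  su_ext fun v => by
    show app _ v = app _ v
    simp only [qE_apply, H_add_right, H_smul_right]
    module

/-- Every `q(e; a, t)` has a parameter in `W`. -/
theorem exists_qE_inW (hp : HPair q e f) {a : V} {t : F} (h : IsQ q e a t) :
    ∃ (w : V) (s : F) (h' : IsQ q e w s), InW q e f w ∧ qE e a t h = qE e w s h' := by
  have ha : a = pW q e f a + H a f • e := by simp [pW, h.2.1]
  have hw := hp.pW_mem a
  have h1 : IsQ q e (pW q e f a + H a f • e) t := ha ▸ h
  have h' : IsQ q e (pW q e f a) (t + H a f - σ (H a f)) := by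
    refine ⟨h.1, hw.1, ?_⟩
    have e1 := h1.2.2
    simp only [H_add_left, H_add_right, H_smul_left, H_smul_right, hp.ee, hw.1, hw.e_left] at e1
    simp only [map_add, map_sub, qb_qb]
    linear_combination e1
  exact ⟨_, _, h', hw, (qE_congr ha rfl).trans (qE_add_smul _ h1 h')⟩

theorem qE_inj (hp : HPair q e f) {w w' : V} {t s : F} {h : IsQ q e w t} {h' : IsQ q e w' s}
    (hw : InW q e f w) (hw' : InW q e f w') (he : qE e w t h = qE e w' s h') :
    w = w' ∧ t = s := by
  have e1 := congrArg (fun g => app g f) he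
  simp only [qE_apply, hp.fe, hw.f_left, hw'.f_left, one_smul, zero_smul, sub_zero, mul_one] at e1
  have e2 : w + t • e = w' + s • e := by linear_combination (norm := module) e1
  have e3 := congrArg (fun v => H v f) e2
  simp [hp.ef, hw.2, hw'.2] at e3
  subst e3
  exact ⟨add_right_cancel e2, rfl⟩

theorem proj_qE_inj (p : ℕ) [Fact p.Prime] [CharP F p] (hn : 2 ≤ n) (hp : HPair q e f) {w w' : V}
    {t s : F} {h : IsQ q e w t} {h' : IsQ q e w' s}
    (hw : InW q e f w) (hw' : InW q e f w')
    (he : proj n F q (qE e w t h) = proj n F q (qE e w' s h')) : w = w' ∧ t = s :=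
  qE_inj hp hw hw' (eq_of_proj_eq p hn (qE_pow_sq p h) (qE_pow_sq p h') he)

/-! ### Elements fixing both points -/

/-- An element of `SU` from a linear isometry of determinant one. -/
noncomputable def mkSU (L : V →ₗ[F] V) (hL : ∀ u v : V, H (L u) (L v) = H u v)
    (hd : LinearMap.det L = 1) : SUn :=
  ⟨⟨LinearMap.toMatrix' L, by rw [LinearMap.det_toMatrix', hd]⟩, fun u v => by
    show H (LinearMap.toMatrix' L *ᵥ u) (LinearMap.toMatrix' L *ᵥ v) = _
    rw [LinearMap.toMatrix'_mulVec, LinearMap.toMatrix'_mulVec, hL]⟩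

theorem mkSU_apply (L : V →ₗ[F] V) (hL : ∀ u v : V, H (L u) (L v) = H u v)
    (hd : LinearMap.det L = 1) (v : V) : app (mkSU L hL hd) v = L v := by
  show LinearMap.toMatrix' L *ᵥ v = _
  rw [LinearMap.toMatrix'_mulVec]

/-- Scaling of a hyperbolic pair. -/
noncomputable def hypLin (q : ℕ) [QField F q] (e f : V) (a : F) : V →ₗ[F] V :=
  LinearMap.transvection ((a - 1) • Hl (q := q) f) e ∘ₗ
    LinearMap.transvection (((qb q a)⁻¹ - 1) • Hl (q := q) e) f

theorem hypLin_apply (hp : HPair q e f) (a : F) (v : V) :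
    hypLin q e f a v = v + ((a - 1) * H v f) • e + (((σ a)⁻¹ - 1) * H v e) • f := by
  simp [hypLin, LinearMap.transvection.apply, hp.ff]
  module

theorem hypLin_det (hp : HPair q e f) (a : F) :
    LinearMap.det (hypLin q e f a) = a * (σ a)⁻¹ := by
  simp [hypLin, LinearMap.det_comp, LinearMap.transvection.det, hp.ef, hp.fe]

theorem hypLin_pres (hp : HPair q e f) {a : F} (ha : a ≠ 0) (u v : V) :
    H (hypLin q e f a u) (hypLin q e f a v) = H u v := by
  have hs : σ a ≠ 0 := (map_ne_zero σ).2 ha
  simp only [hypLin_apply hp, H_add_left, H_add_right, H_smul_left, H_smul_right, hp.ee, hp.ff,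
    hp.ef, hp.fe, map_mul, map_sub, map_one, map_inv₀, qb_qb, H_flip]
  field_simp
  ring

/-- The quasi-reflection with centre the anisotropic vector `w`. -/
noncomputable def reflLin (q : ℕ) [QField F q] (w : V) (μ : F) : V →ₗ[F] V :=
  LinearMap.transvection (((μ - 1) / Cfsg.hermForm n F q w w) • Hl (q := q) w) w

theorem reflLin_apply (w : V) (μ : F) (v : V) :
    reflLin q w μ v = v + ((μ - 1) / H w w * H v w) • w := by
  simp [reflLin, LinearMap.transvection.apply]

theorem reflLin_det {w : V} (hw : H w w ≠ 0) (μ : F) : LinearMap.det (reflLin q w μ) = μ := by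
  simp [reflLin, LinearMap.transvection.det, div_mul_cancel₀ _ hw]

theorem reflLin_pres {w : V} (hw : H w w ≠ 0) {μ : F} (hμ : μ * σ μ = 1) (u v : V) :
    H (reflLin q w μ u) (reflLin q w μ v) = H u v := by
  simp only [reflLin_apply, H_add_left, H_add_right, H_smul_left, H_smul_right, map_mul,
    map_div₀, map_sub, map_one, H_flip]
  field_simp
  linear_combination (H u w * H w v) * hμ

/-- `s` scales the points `e`, `f`, with multiplier `a` at `e`. -/
def DElt (e f : V) (s : SUn) (a : F) : Prop :=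
  app s e = a • e ∧ ∃ b : F, app s f = b • f

theorem DElt.mul_qb (hp : HPair q e f) {s : SUn} {a : F} (h : DElt e f s a) : a ≠ 0 := by
  intro ha
  have := h.1
  rw [ha, zero_smul] at this
  exact hp.e_ne (app_injective s (this.trans (app_zero s).symm))

theorem DElt.inW (hp : HPair q e f) {s : SUn} {a : F} (h : DElt e f s a) {w : V}
    (hw : InW q e f w) : InW q e f (app s w) := by
  obtain ⟨b, hb⟩ := h.2
  have ha := h.mul_qb hp
  have hb0 : b ≠ 0 := by
    intro h0
    rw [h0, zero_smul] at hb
    exact hp.f_ne (app_injective s (hb.trans (app_zero s).symm))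
  constructor
  · have e1 : H (app s w) (a • e) = 0 := by rw [← h.1, app_H, hw.1]
    rw [H_smul_right, mul_eq_zero] at e1
    exact e1.resolve_left ((map_ne_zero σ).2 ha)
  · have e1 : H (app s w) (b • f) = 0 := by rw [← hb, app_H, hw.2]
    rw [H_smul_right, mul_eq_zero] at e1
    exact e1.resolve_left ((map_ne_zero σ).2 hb0)

theorem DElt.isQ {s : SUn} {a : F} (h : DElt e f s a) {w : V} {t : F} (hq : IsQ q e w t) :
    IsQ q e (σ a • app s w) (σ a * σ (σ a) * t) := by
  have h1 := hq.app s
  rw [h.1] at h1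
  by_cases ha : a = 0
  · subst ha; exact ⟨hq.1, by simp, by simp⟩
  have h2 : IsQ q e (app s w) t := by
    refine ⟨hq.1, ?_, h1.2.2⟩
    have := h1.2.1
    rw [H_smul_right, mul_eq_zero] at this
    exact this.resolve_left ((map_ne_zero σ).2 ha)
  exact h2.smul (σ a)

theorem DElt.conj {s : SUn} {a : F} (h : DElt e f s a) {w : V} {t : F} (hq : IsQ q e w t) :
    s * qE e w t hq * s⁻¹ = qE e (σ a • app s w) (σ a * σ (σ a) * t) (h.isQ hq) := by
  rw [qE_conj]
  refine su_ext fun v => ?_
  show app _ v = app _ v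
  simp only [qE_apply, h.1, H_smul_right, qb_qb]
  module

/-- The transvections with centre in `W`. -/
theorem dElt_tr (hp : HPair q e f) {u : V} (hu : InW q e f u) {t : F} (h : IsT q u t) :
    DElt e f (tr u t h) 1 :=
  ⟨by simp [hu.e_left], 1, by simp [hu.f_left]⟩

/-- Diagonal element for two orthogonal pairs. -/
theorem exists_dElt_pair (hp : HPair q e f) {u u' : V} (hu : InW q e f u) (hu' : InW q e f u')
    (hq : HPair q u u') {a : F} (ha : a ≠ 0) :
    ∃ s : SUn, DElt e f s (σ a) ∧ app s u = a • u ∧ app s u' = (σ a)⁻¹ • u' := by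
  have hs : σ a ≠ 0 := (map_ne_zero σ).2 ha
  let L := hypLin q e f (σ a) ∘ₗ hypLin q u u' a
  have hL : ∀ v w : V, H (L v) (L w) = H v w := fun v w => by
    simp only [L, LinearMap.comp_apply, hypLin_pres hp hs, hypLin_pres hq ha]
  have hd : LinearMap.det L = 1 := by
    simp only [L, LinearMap.det_comp, hypLin_det hp, hypLin_det hq, qb_qb]
    field_simp
  refine ⟨mkSU L hL hd, ⟨?_, (a)⁻¹, ?_⟩, ?_, ?_⟩ <;>
    simp only [mkSU_apply, L, LinearMap.comp_apply, hypLin_apply hp, hypLin_apply hq, hp.ee, hp.ff,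
      hp.ef, hp.fe, hq.ee, hq.ff, hq.ef, hq.fe, hu.1, hu.2, hu'.1, hu'.2, hu.e_left, hu.f_left,
      hu'.e_left, hu'.f_left, H_add_left, H_smul_left, mul_zero, mul_one, zero_smul, add_zero,
      qb_qb] <;>
    module

/-- Diagonal element for the pair and an anisotropic vector. -/
theorem exists_dElt_refl (hp : HPair q e f) {w : V} (hw : InW q e f w) (hww : H w w ≠ 0)
    {a : F} (ha : a ≠ 0) :
    ∃ s : SUn, DElt e f s a ∧ app s w = (σ a / a) • w := by
  have hs : σ a ≠ 0 := (map_ne_zero σ).2 ha
  let L := hypLin q e f a ∘ₗ reflLin q w (σ a / a)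
  have hμ : σ a / a * σ (σ a / a) = 1 := by
    rw [map_div₀, qb_qb]
    field_simp
  have hL : ∀ u v : V, H (L u) (L v) = H u v := fun u v => by
    simp only [L, LinearMap.comp_apply, hypLin_pres hp ha, reflLin_pres hww hμ]
  have hd : LinearMap.det L = 1 := by
    simp only [L, LinearMap.det_comp, hypLin_det hp, reflLin_det hww]
    field_simp
  refine ⟨mkSU L hL hd, ⟨?_, (σ a)⁻¹, ?_⟩, ?_⟩ <;>
    simp only [mkSU_apply, L, LinearMap.comp_apply, hypLin_apply hp, reflLin_apply, hp.ee, hp.ff,
      hp.ef, hp.fe, hw.1, hw.2, hw.e_left, hw.f_left, H_add_left, H_smul_left, mul_zero, mul_one,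
      zero_smul, add_zero, div_mul_cancel₀ _ hww] <;>
    module

/-! ### The shape of `W` -/

theorem exists_inW_ne_zero (hn : 3 ≤ n) (hp : HPair q e f) : ∃ w : V, InW q e f w ∧ w ≠ 0 := by
  classical
  by_contra h
  push Not at h
  have htop : (⊤ : Submodule F V) ≤ Submodule.span F ({e, f} : Finset V) := by
    intro v _
    have h0 : v - H v f • e - H v e • f = 0 := h _ (hp.pW_mem v)
    rw [show v = H v f • e + H v e • f by linear_combination (norm := module) h0]
    exact add_mem (Submodule.smul_mem _ _ (Submodule.subset_span (by simp)))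
      (Submodule.smul_mem _ _ (Submodule.subset_span (by simp)))
  have h1 := Submodule.finrank_mono htop
  rw [finrank_top, Module.finrank_fin_fun] at h1
  have h2 := finrank_span_finset_le_card (R := F) ({e, f} : Finset V)
  rw [Set.finrank] at h2
  have h3 : ({e, f} : Finset V).card ≤ 2 := Finset.card_le_two
  omega

/-- Either `W` has isotropic vectors, or `n = 3` and `W` is an anisotropic line. -/
theorem w_cases (hn : 3 ≤ n) (hp : HPair q e f) :
    (∃ u : V, InW q e f u ∧ u ≠ 0 ∧ H u u = 0) ∨
      (n = 3 ∧ ∃ w0 : V, InW q e f w0 ∧ H w0 w0 ≠ 0 ∧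
        ∀ w : V, InW q e f w → ∃ c : F, w = c • w0) := by
  classical
  by_cases hiso : ∃ u : V, InW q e f u ∧ u ≠ 0 ∧ H u u = 0
  · exact Or.inl hiso
  push Not at hiso
  obtain ⟨w0, hw0, hw00⟩ := exists_inW_ne_zero hn hp
  have h00 := hiso w0 hw0 hw00
  have hline : ∀ w : V, InW q e f w → ∃ c : F, w = c • w0 := by
    intro w hw
    refine ⟨H w w0 / H w0 w0, ?_⟩
    by_contra hne
    set w1 := w - (H w w0 / H w0 w0) • w0 with hw1
    have hw1W : InW q e f w1 := hw.sub (hw0.smul _)
    have hw10 : w1 ≠ 0 := fun h0 => hne (sub_eq_zero.1 h0)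
    have h11 := hiso w1 hw1W hw10
    have h10 : H w1 w0 = 0 := by simp [hw1, div_mul_cancel₀ _ h00]
    have h01 : H w0 w1 = 0 := H_eq_zero_comm.1 h10
    obtain ⟨a, ha⟩ := exists_norm (F := F) (q := q) (c := - H w1 w1 / H w0 w0)
      (by rw [map_div₀, map_neg, H_self_fixed, H_self_fixed])
    refine hiso (a • w0 + w1) ((hw0.smul a).add hw1W) (fun h0 => ?_) ?_
    · have := congrArg (fun v => H v w1) h0
      simp [h01] at this
      exact h11 this
    · simp only [H_add_left, H_add_right, H_smul_left, H_smul_right, h10, h01]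
      have : a * σ a * H w0 w0 = - H w1 w1 := by rw [ha, div_mul_cancel₀ _ h00]
      linear_combination this
  refine Or.inr ⟨?_, w0, hw0, h00, hline⟩
  have htop : (⊤ : Submodule F V) ≤ Submodule.span F ({e, f, w0} : Finset V) := by
    intro v _
    obtain ⟨c, hc⟩ := hline _ (hp.pW_mem v)
    simp only [pW] at hc
    rw [show v = H v f • e + H v e • f + c • w0 by linear_combination (norm := module) hc]
    exact add_mem (add_mem (Submodule.smul_mem _ _ (Submodule.subset_span (by simp)))
      (Submodule.smul_mem _ _ (Submodule.subset_span (by simp))))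
      (Submodule.smul_mem _ _ (Submodule.subset_span (by simp)))
  have h1 := Submodule.finrank_mono htop
  rw [finrank_top, Module.finrank_fin_fun] at h1
  have h2 := finrank_span_finset_le_card (R := F) ({e, f, w0} : Finset V)
  rw [Set.finrank] at h2
  have h3 : ({e, f, w0} : Finset V).card ≤ 3 := Finset.card_le_three
  omega

/-- A hyperbolic pair inside `W` spans `W` together with isotropic vectors of `W`. -/
theorem exists_iso_decomp (hp : HPair q e f) {u u' : V} (hu : InW q e f u) (hu' : InW q e f u')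
    (hq : HPair q u u') (w : V) (hw : InW q e f w) :
    ∃ (r : V) (c d : F), InW q e f r ∧ H r r = 0 ∧ w = r + c • u + d • u' := by
  set w1 := w - H w u' • u - H w u • u' with hw1
  have h1u : H w1 u = 0 := by simp [hw1, hq.ee, hq.fe]
  have h1u' : H w1 u' = 0 := by simp [hw1, hq.ff, hq.ef]
  obtain ⟨t, ht⟩ := exists_trace (F := F) (q := q) (c := - H w1 w1)
    (by rw [map_neg, H_self_fixed])
  refine ⟨u + t • u' + w1, H w u' - 1, H w u - t, (hu.add (hu'.smul t)).add
    ((hw.sub (hu.smul _)).sub (hu'.smul _)), ?_, by rw [hw1]; module⟩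
  simp only [H_add_left, H_add_right, H_smul_left, H_smul_right, hq.ee, hq.ff, hq.ef, hq.fe,
    h1u, h1u', H_eq_zero_comm.1 h1u, H_eq_zero_comm.1 h1u']
  linear_combination ht

/-! ### Numbers -/

/-- An additive map commuting with enough powers is linear. -/
theorem linear_of_powers {α : F → F} (hadd : ∀ x y, α (x + y) = α x + α y) (m d : ℕ)
    (hd : Nat.gcd (q ^ 2 - 1) m ≤ d) (hdq : d < q + 1)
    (h : ∀ a : F, a ≠ 0 → ∀ x, α (a ^ m * x) = a ^ m * α x) (x : F) : α x = x * α 1 := by
  classical
  haveI := finite_field (F := F) (q := q)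
  have hq := two_le_q (F := F) (q := q)
  have h0 : α 0 = 0 := by simpa using hadd 0 0
  let S : Submonoid F :=
    { carrier := {k | ∀ x, α (k * x) = k * α x}
      one_mem' := fun x => by simp
      mul_mem' := fun {a b} ha hb x => by rw [mul_assoc, ha, hb, mul_assoc] }
  have hneg : ∀ a, α (-a) = - α a := fun a => eq_neg_of_add_eq_zero_left (by
    rw [← hadd, neg_add_cancel, h0])
  let L : Subfield F :=
    { S with
      zero_mem' := fun x => by simp [h0]
      add_mem' := fun {a b} ha hb x => by rw [add_mul, hadd, ha, hb, add_mul]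
      neg_mem' := fun {a} ha x => by rw [neg_mul, hneg, ha, neg_mul]
      inv_mem' := fun a ha x => by
        by_cases h' : a = 0
        · subst h'; simp [h0]
        · have e := ha (a⁻¹ * x)
          rw [← mul_assoc, mul_inv_cancel₀ h', one_mul] at e
          rw [e, ← mul_assoc, inv_mul_cancel₀ h', one_mul] }
  suffices hL : ∀ k : F, k ∈ L by simpa using hL x 1
  let P : Fˣ →* Fˣ := powMonoidHom m
  have hcardU : Nat.card Fˣ = q ^ 2 - 1 := by rw [Nat.card_units, hQ.card]
  have hker : Nat.card P.ker ≤ d := by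
    rw [IsCyclic.card_powMonoidHom_ker, hcardU]
    exact hd
  have hrange : Nat.card P.range * Nat.card P.ker = q ^ 2 - 1 := by
    rw [← hcardU, Subgroup.card_eq_card_quotient_mul_card_subgroup P.ker,
      Nat.card_congr (QuotientGroup.quotientKerEquivRange P).toEquiv]
  let ι : Option P.range → L := fun o => o.elim 0 fun y => ⟨((y : Fˣ) : F), by
    obtain ⟨y, a, rfl⟩ := y
    exact fun x => by simpa [P] using h a a.ne_zero x⟩
  have hinj : Function.Injective ι := by
    rintro (_ | y) (_ | z) hyz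
    · rfl
    · exact absurd (congrArg Subtype.val hyz).symm (Units.ne_zero _)
    · exact absurd (congrArg Subtype.val hyz) (Units.ne_zero _)
    · exact congrArg some (Subtype.ext (Units.ext (congrArg (fun w : L => (w : F)) hyz)))
  have hle := Nat.card_le_card_of_injective ι hinj
  rw [Finite.card_option] at hle
  have hq2 : q ^ 2 - 1 = (q + 1) * (q - 1) := by
    obtain ⟨r, rfl⟩ : ∃ r, q = r + 1 := ⟨q - 1, by omega⟩
    simp only [Nat.add_sub_cancel]
    have : (r + 1) ^ 2 = (r + 1 + 1) * r + 1 := by ring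
    omega
  have hgt : q < Nat.card L := by
    by_contra hle'
    have h1 : Nat.card P.range ≤ q - 1 := by omega
    have h2 : Nat.card P.range * Nat.card P.ker ≤ (q - 1) * d := Nat.mul_le_mul h1 hker
    rw [hrange, hq2, mul_comm (q + 1)] at h2
    have := Nat.le_of_mul_le_mul_left h2 (by omega)
    omega
  intro k
  have hpow : Nat.card F = Nat.card L ^ Module.finrank L F := Module.natCard_eq_pow_finrank
  rw [hQ.card] at hpow
  have hr : Module.finrank L F ≤ 1 := by
    by_contra hr
    have h1 : Nat.card L ^ 2 ≤ Nat.card L ^ Module.finrank L F :=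
      Nat.pow_le_pow_right (by omega) (by omega)
    have h2 : q ^ 2 < Nat.card L ^ 2 := Nat.pow_lt_pow_left hgt two_ne_zero
    omega
  have hsurj : Function.Bijective (Subtype.val : L → F) := by
    haveI := Fintype.ofFinite F
    haveI := Fintype.ofFinite L
    rw [Fintype.bijective_iff_injective_and_card]
    refine ⟨Subtype.val_injective, ?_⟩
    rw [← Nat.card_eq_fintype_card, ← Nat.card_eq_fintype_card, hQ.card, hpow]
    have : Module.finrank L F = 1 := le_antisymm hr Module.finrank_pos
    rw [this, pow_one]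
  obtain ⟨l, rfl⟩ := hsurj.2 k
  exact l.2

/-- A norm-one element with non-trivial `m`-th power. -/
theorem exists_norm_one_pow_ne {m : ℕ} (hm : 0 < m) (hmq : m < q + 1) :
    ∃ a : F, a * σ a = 1 ∧ a ^ m ≠ 1 := by
  haveI := finite_field (F := F) (q := q)
  have hq := two_le_q (F := F) (q := q)
  obtain ⟨g, hg⟩ := IsCyclic.exists_generator (α := Fˣ)
  have hord : orderOf g = q ^ 2 - 1 := by
    rw [orderOf_eq_card_of_forall_mem_zpowers hg, Nat.card_units, hQ.card]
  have hq2 : q ^ 2 - 1 = (q - 1) * (q + 1) := by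
    obtain ⟨r, rfl⟩ : ∃ r, q = r + 1 := ⟨q - 1, by omega⟩
    simp only [Nat.add_sub_cancel]
    have : (r + 1) ^ 2 = r * (r + 1 + 1) + 1 := by ring
    omega
  refine ⟨(g : F) ^ (q - 1), ?_, fun h => ?_⟩
  · rw [qb_apply, ← pow_succ', ← pow_mul, ← hq2, ← hord, ← Units.val_pow_eq_pow_val,
      pow_orderOf_eq_one, Units.val_one]
  · rw [← pow_mul] at h
    have h1 : g ^ ((q - 1) * m) = 1 := Units.ext (by simpa using h)
    have h2 := orderOf_dvd_of_pow_eq_one h1
    rw [hord, hq2] at h2
    have := Nat.le_of_dvd hm ((Nat.mul_dvd_mul_iff_left (by omega)).1 h2)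
    omega

theorem gcd_sub_one_two_mul_sub_one : Nat.gcd (q ^ 2 - 1) (2 * q - 1) ≤ 3 := by
  have hq := two_le_q (F := F) (q := q)
  have h1 : Nat.gcd (q ^ 2 - 1) (2 * q - 1) ∣ 4 * (q ^ 2 - 1) :=
    Dvd.dvd.mul_left (Nat.gcd_dvd_left _ _) _
  have h2 : Nat.gcd (q ^ 2 - 1) (2 * q - 1) ∣ (2 * q - 1) * (2 * q + 1) :=
    Dvd.dvd.mul_right (Nat.gcd_dvd_right _ _) _
  have h3 : (2 * q - 1) * (2 * q + 1) = 4 * (q ^ 2 - 1) + 3 := by
    obtain ⟨r, rfl⟩ : ∃ r, q = r + 1 := ⟨q - 1, by omega⟩
    rw [show 2 * (r + 1) - 1 = 2 * r + 1 by omega]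
    have h4 : (r + 1) ^ 2 = r * r + 2 * r + 1 := by ring
    have h5 : (2 * r + 1) * (2 * (r + 1) + 1) = 4 * (r * r) + 8 * r + 3 := by ring
    omega
  rw [h3] at h2
  exact Nat.le_of_dvd three_pos ((Nat.dvd_add_right h1).1 h2)

/-- The additive maps of `W` commuting with the action of the stabiliser are scalars. -/
theorem commutant (hn : 3 ≤ n) (h32 : ¬ (n = 3 ∧ q = 2)) (hp : HPair q e f) (A : V → V)
    (hW : ∀ w : V, InW q e f w → InW q e f (A w))
    (hadd : ∀ w w' : V, InW q e f w → InW q e f w' → A (w + w') = A w + A w')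
    (hcomm : ∀ (s : SUn) (a : F), DElt e f s a → ∀ w : V, InW q e f w →
      A (σ a • app s w) = σ a • app s (A w)) :
    ∃ c : F, ∀ w : V, InW q e f w → A w = c • w := by
  classical
  have hq2 := two_le_q (F := F) (q := q)
  rcases w_cases hn hp with ⟨u₀, hu₀, hu₀0, hu₀u⟩ | ⟨hn3, w0, hw0, h00, hline⟩
  · obtain ⟨k, hk0, hk⟩ := exists_skew (F := F) (q := q)
    -- the value on a point paired with another
    have hone : ∀ x y : V, InW q e f x → InW q e f y → H x x = 0 → H y y = 0 → H y x = 1 →
        ∀ c : F, A (c • x) = H (A (c • x)) y • x ∧ A (c • x) = (k * H (A ((c / k) • y)) x) • x := by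
      intro x y hx hy hxx hyy hyx c
      have hT : IsT q x k := ⟨hxx, hk⟩
      have h1 := hcomm _ _ (dElt_tr hp hx hT) ((c / k) • y) (hy.smul _)
      simp only [map_one, one_smul, tr_apply, H_smul_left, hyx, mul_one] at h1
      rw [hadd _ _ (hy.smul _) (hx.smul _), add_right_inj, mul_div_cancel₀ _ hk0] at h1
      refine ⟨?_, h1⟩
      rw [h1, H_smul_left, ← H_flip y x, hyx, map_one, mul_one]
    have hlin : ∀ x y : V, InW q e f x → InW q e f y → H x x = 0 → H y y = 0 → H y x = 1 →
        ∀ c : F, A (c • x) = (c * H (A x) y) • x := by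
      intro x y hx hy hxx hyy hyx c
      have hq : HPair q x y := ⟨hxx, hyy, by rw [← H_flip y x, hyx, map_one]⟩
      have hα := linear_of_powers (q := q) (α := fun c => H (A (c • x)) y)
        (fun a b => by rw [add_smul, hadd _ _ (hx.smul a) (hx.smul b), H_add_left]) 2 2
        (Nat.le_of_dvd two_pos (Nat.gcd_dvd_right _ _)) (by omega) (fun a ha z => by
          obtain ⟨s, hs, hsx, -⟩ := exists_dElt_pair hp hx hy hq ha
          have h1 := hcomm s _ hs (z • x) (hx.smul z)
          rw [qb_qb, app_smul, hsx, (hone x y hx hy hxx hyy hyx z).1, app_smul, hsx, smul_smul,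
            smul_smul, smul_smul, smul_smul] at h1
          rw [show a ^ 2 * z = a * z * a by ring, h1]
          simp [hq.ef]
          ring) c
      rw [(hone x y hx hy hxx hyy hyx c).1, hα, one_smul]
    have hpair : ∀ x y : V, InW q e f x → InW q e f y → H x x = 0 → H y y = 0 → H y x = 1 →
        H (A x) y = H (A y) x := by
      intro x y hx hy hxx hyy hyx
      have hxy : H x y = 1 := by rw [← H_flip y x, hyx, map_one]
      have e1 := (hone x y hx hy hxx hyy hyx 1).2
      rw [one_smul, one_div, hlin y x hy hx hyy hxx hxy] at e1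
      rw [e1, H_smul_left, H_smul_left, hxy, hyx]
      field_simp
    obtain ⟨u', hu', hu'u, hu'u'⟩ := exists_partner_W hp hu₀ hu₀0 hu₀u
    set c₀ := H (A u₀) u' with hc₀
    have hq0 : HPair q u₀ u' := ⟨hu₀u, hu'u', by rw [← H_flip u' u₀, hu'u, map_one]⟩
    have hA0 : ∀ c : F, A (c • u₀) = c₀ • (c • u₀) := fun c => by
      rw [hlin u₀ u' hu₀ hu' hu₀u hu'u' hu'u c, smul_smul, mul_comm]
    have hA0' : ∀ c : F, A (c • u') = c₀ • (c • u') := fun c => by
      rw [hlin u' u₀ hu' hu₀ hu'u' hu₀u hq0.ef c, ← hpair u₀ u' hu₀ hu' hu₀u hu'u' hu'u,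
        smul_smul, mul_comm]
    -- isotropic vectors not orthogonal to a point of known value
    have hnon : ∀ x y : V, InW q e f x → InW q e f y → H x x = 0 → H y y = 0 → H y x ≠ 0 →
        (∀ c : F, A (c • y) = c₀ • (c • y)) → A x = c₀ • x := by
      intro x y hx hy hxx hyy hyx hA
      have hy' : InW q e f ((H y x)⁻¹ • y) := hy.smul _
      have h1 : H ((H y x)⁻¹ • y) x = 1 := by simp [inv_mul_cancel₀ hyx]
      have h2 : H ((H y x)⁻¹ • y) ((H y x)⁻¹ • y) = 0 := by simp [hyy]
      have e1 := hlin x _ hx hy' hxx h2 h1 1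
      rw [one_smul, one_mul, hpair x _ hx hy' hxx h2 h1, hA, H_smul_left, h1, mul_one] at e1
      exact e1
    have hiso : ∀ x : V, InW q e f x → H x x = 0 → A x = c₀ • x := by
      intro x hx hxx
      by_cases h1 : H u₀ x = 0
      · by_cases h2 : H u' x = 0
        · have hsum : A (u' + x) = c₀ • (u' + x) := by
            refine hnon _ u₀ (hu'.add hx) hu₀ ?_ hu₀u ?_ hA0
            · simp [hu'u', hxx, h2, H_eq_zero_comm.1 h2]
            · simp [h1, hq0.ef]
          rw [hadd _ _ hu' hx] at hsum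
          have := hA0' 1
          rw [one_smul] at this
          rw [this, smul_add, add_right_inj] at hsum
          exact hsum
        · exact hnon x u' hx hu' hxx hu'u' h2 hA0'
      · exact hnon x u₀ hx hu₀ hxx hu₀u h1 hA0
    refine ⟨c₀, fun w hw => ?_⟩
    obtain ⟨r, c, d, hr, hrr, rfl⟩ := exists_iso_decomp hp hu₀ hu' hq0 w hw
    rw [hadd _ _ (hr.add (hu₀.smul c)) (hu'.smul d), hadd _ _ hr (hu₀.smul c), hA0, hA0',
      hiso r hr hrr]
    module
  · have hq3 : 3 ≤ q := by
      by_contra hcon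
      exact h32 ⟨hn3, by omega⟩
    have hrep : ∀ v : V, InW q e f v → v = (H v w0 / H w0 w0) • w0 := by
      intro v hv
      obtain ⟨c, rfl⟩ := hline v hv
      rw [H_smul_left, mul_div_cancel_right₀ _ h00]
    have hα := linear_of_powers (q := q) (α := fun c => H (A (c • w0)) w0 / H w0 w0)
      (fun a b => by rw [add_smul, hadd _ _ (hw0.smul a) (hw0.smul b), H_add_left, add_div])
      (2 * q - 1) 3 (gcd_sub_one_two_mul_sub_one (F := F)) (by omega) (fun a ha x => by
        obtain ⟨s, hs, hsw⟩ := exists_dElt_refl hp hw0 h00 ha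
        have h1 := hcomm s a hs (x • w0) (hw0.smul x)
        rw [hrep _ (hW _ (hw0.smul x)), app_smul, app_smul, hsw, smul_smul, smul_smul, smul_smul,
          smul_smul] at h1
        have hpw : σ a * (σ a / a) = a ^ (2 * q - 1) := by
          rw [qb_apply, mul_div_assoc', eq_comm, eq_div_iff ha, ← pow_succ, ← pow_add]
          congr 1
          omega
        rw [show a ^ (2 * q - 1) * x = σ a * x * (σ a / a) by rw [← hpw]; ring, h1, H_smul_left,
          mul_div_cancel_right₀ _ h00, ← hpw]
        ring)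
    refine ⟨H (A w0) w0 / H w0 w0, fun w hw => ?_⟩
    obtain ⟨c, rfl⟩ := hline w hw
    rw [hrep _ (hW _ (hw0.smul c)), hα c, one_smul, smul_smul]
    ring_nf

end Cfsg.Agent.AutPSU
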