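import Cfsg.Agent.Lib.AutPSU.Pair

/-!
# An automorphism fixing two non-orthogonal points

It preserves the group of all `q(e; a, t)`, acts on the parameters by a semilinear similitude of
`W`, and after removing this it fixes every isotropic point.
-/

set_option autoImplicit false
set_option linter.style.haveILetI false
set_option linter.unusedSimpArgs false
set_option linter.unusedSectionVars false

namespace Cfsg.Agent.AutPSU

open Matrix

universe u

variable {F : Type u} [Field F] {q : ℕ} [hQ : QField F q] {n : ℕ}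
include hQ

local notation "σ" => qb (F := F) q
local notation "V" => Fin n → F
local notation "Mat" => Matrix (Fin n) (Fin n) F
local notation "GLn" => GL (Fin n) F
set_option quotPrecheck false in
local notation "SUn" => ↥(Cfsg.SU n F q)
local notation "PSUn" => Cfsg.PSU n F q
local notation "H" => Cfsg.hermForm n F q

variable {e f : Fin n → F}

/-- `ψ` preserves the transvection group of `x`. -/
def LineFix (ψ : MulAut (Cfsg.PSU n F q)) (x : Fin n → F) : Prop :=
  ∀ (t : F) (h : IsT q x t), ∃ (s : F) (h' : IsT q x s),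
    ψ (proj n F q (tr x t h)) = proj n F q (tr x s h')

/-- `S` describes `ψ` on the parameters in `W` of the root elements at `e`. -/
def SP (e f : Fin n → F) (ψ : MulAut (Cfsg.PSU n F q)) (S : (Fin n → F) → Fin n → F) : Prop :=
  (∀ w, InW q e f w → InW q e f (S w)) ∧
    ∀ (w : Fin n → F) (t : F) (h : IsQ q e w t), InW q e f w → ∃ (s : F) (h' : IsQ q e (S w) s),
      ψ (proj n F q (qE e w t h)) = proj n F q (qE e (S w) s h')

theorem qE_congr_point {x y a : V} {t : F} {h : IsQ q x a t} {h' : IsQ q y a t} (e₁ : x = y) :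
    qE x a t h = qE y a t h' := by subst e₁; rfl

theorem tr_smul_point {x : V} {c t : F} (h : IsT q (c • x) t) (h' : IsT q x (c * σ c * t)) :
    tr (c • x) t h = tr x (c * σ c * t) h' :=
  su_ext fun v => by
    show app _ v = app _ v
    simp only [tr_apply, H_smul_right]
    module

theorem isT_of_smul {x : V} (hxx : H x x = 0) {c t : F} (h : IsT q (c • x) t) :
    IsT q x (c * σ c * t) := ⟨hxx, by
  simp only [map_mul, qb_qb]
  linear_combination (c * σ c) * h.2⟩

/-- Conjugates of `q(e; a, t)` by elements fixing the point `e`. -/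
theorem qSub_conj (hee : H e e = 0) {g : SUn} {c : F} (hc : c ≠ 0) (hg : app g e = c • e)
    {u : SUn} (hu : u ∈ qSub e hee) : g * u * g⁻¹ ∈ qSub e hee := by
  obtain ⟨a, t, h, rfl⟩ := hu
  have h1 : IsQ q (c • e) (app g a) t := hg ▸ h.app g
  have h2 : IsQ q e (app g a) t := by
    refine ⟨hee, ?_, h1.2.2⟩
    have := h1.2.1
    rw [H_smul_right, mul_eq_zero] at this
    exact this.resolve_left ((map_ne_zero σ).2 hc)
  exact ⟨_, _, h2.smul (σ c), by
    rw [qE_conj, qE_congr_point (h' := h1) hg, qE_smul_point h2 c h1]⟩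

theorem qE_tr_commute {x a : V} {t k : F} (h : IsQ q x a t) (hk : IsT q x k) :
    qE x a t h * tr x k hk = tr x k hk * qE x a t h := by
  rw [tr, qE_mul, qE_mul]
  exact qE_congr (by rw [add_zero, zero_add]) (by simp; ring)

variable (p : ℕ) [Fact p.Prime] [CharP F p]

include p in
theorem tr_proj_ne_one (hn : 2 ≤ n) {x : V} (hx : x ≠ 0) {t : F} {h : IsT q x t} (ht : t ≠ 0) :
    proj n F q (tr x t h) ≠ 1 := fun e1 =>
  tr_ne_one hx h ht (eq_of_proj_eq p hn (tr_pow_sq p h) (l := 0) (one_pow _)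
    (by rw [e1, map_one]))

include p in
theorem ne_zero_of_image (hn : 2 ≤ n) {x y : V} (hx : x ≠ 0) {t s : F} {h : IsT q x t}
    {h' : IsT q y s} (ht : t ≠ 0) {ψ : MulAut PSUn}
    (e1 : ψ (proj n F q (tr x t h)) = proj n F q (tr y s h')) : s ≠ 0 := by
  rintro rfl
  rw [tr_zero, map_one, MulEquiv.map_eq_one_iff] at e1
  exact tr_proj_ne_one p hn hx ht e1

include p in
theorem LineFix.inv (hn : 2 ≤ n) {ψ : MulAut PSUn} {x : V} (hx : x ≠ 0) (hxx : H x x = 0)
    (hψ : LineFix ψ x) : LineFix ψ⁻¹ x := by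
  obtain ⟨y, hy, hyy, himg⟩ := exists_image_point p hn ψ⁻¹ hx hxx
  obtain ⟨k, hk0, hk⟩ := exists_isT (q := q) hxx
  obtain ⟨s1, hs1, e1⟩ := hψ k hk
  obtain ⟨s2, hs2, e2⟩ := himg s1 hs1
  rw [← e1, MulAut.inv_apply_self] at e2
  obtain ⟨c, rfl⟩ := proj_tr_eq p hn hx hk0 e2
  intro t ht
  obtain ⟨s, hs, es⟩ := himg t ht
  exact ⟨_, isT_of_smul hxx hs, by rw [es, tr_smul_point hs (isT_of_smul hxx hs)]⟩

theorem LineFix.smul {ψ : MulAut PSUn} {x : V} (hxx : H x x = 0) (hψ : LineFix ψ x) {c : F}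
    (hc : c ≠ 0) : LineFix ψ (c • x) := by
  intro t ht
  obtain ⟨s, hs, es⟩ := hψ _ (isT_of_smul hxx ht)
  have hcc : c * σ c ≠ 0 := mul_ne_zero hc ((map_ne_zero σ).2 hc)
  have hs' : IsT q (c • x) ((c * σ c)⁻¹ * s) := ⟨by simp [hxx], by
    simp only [map_mul, map_inv₀, qb_qb, mul_comm (σ c) c]
    linear_combination (c * σ c)⁻¹ * hs.2⟩
  refine ⟨_, hs', ?_⟩
  rw [tr_smul_point ht (isT_of_smul hxx ht), es, tr_smul_point hs' (isT_of_smul hxx hs')]
  congr 1
  exact tr_congr rfl (by rw [mul_inv_cancel_left₀ hcc])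

include p in
theorem line_of_image (hn : 2 ≤ n) {ψ : MulAut PSUn} {x : V} (hx : x ≠ 0) (hxx : H x x = 0)
    (hψ : LineFix ψ x) {s s' : SUn} {a : F} (hs : app s x = a • x)
    (es : ψ (proj n F q s) = proj n F q s') : ∃ a' : F, app s' x = a' • x := by
  obtain ⟨k, hk0, hk⟩ := exists_isT (q := q) hxx
  obtain ⟨s1, hs1, e1⟩ := hψ k hk
  have h2 : IsT q (a • x) k := hs ▸ hk.app s
  obtain ⟨s2, hs2, e2⟩ := hψ _ (isT_of_smul hxx h2)
  rw [← tr_smul_point h2, tr_congr (h' := hk.app s) hs.symm rfl, ← tr_conj s hk, map_mul, map_mul,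
    map_inv, map_mul, map_mul, map_inv, es, e1, ← map_inv, ← map_mul, ← map_mul, tr_conj] at e2
  exact proj_tr_eq p hn hx
    (ne_zero_of_image p hn hx hk0 e1 |> fun hs10 => by
      intro h0
      subst h0
      have e3 := eq_of_proj_eq p hn (tr_pow_sq p _) (tr_pow_sq p _) e2
      rw [tr_zero] at e3
      exact tr_ne_one (fun he => hx (app_injective s' (he.trans (app_zero s').symm))) _ hs10 e3)
    e2.symm

include p in
theorem DElt.image (hn : 2 ≤ n) (hp : HPair q e f) {ψ : MulAut PSUn} (he : LineFix ψ e)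
    (hf : LineFix ψ f) {s s' : SUn} {a : F} (hs : DElt e f s a)
    (es : ψ (proj n F q s) = proj n F q s') : ∃ a' : F, DElt e f s' a' := by
  obtain ⟨b, hb⟩ := hs.2
  obtain ⟨a', ha'⟩ := line_of_image p hn hp.e_ne hp.ee he hs.1 es
  exact ⟨a', ha', line_of_image p hn hp.f_ne hp.ff hf hb es⟩

include p in
/-- An automorphism fixing the point `e` preserves the group of all `q(e; a, t)`. -/
theorem image_qE (hn : 3 ≤ n) (hp : HPair q e f) {ψ : MulAut PSUn} (hψ : LineFix ψ e)
    {a : V} {t : F} (h : IsQ q e a t) :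
    ∃ (w : V) (s : F) (h' : IsQ q e w s), InW q e f w ∧
      ψ (proj n F q (qE e a t h)) = proj n F q (qE e w s h') := by
  classical
  haveI := finite_field (F := F) (q := q)
  have hn2 : 2 ≤ n := by omega
  let Rbar : Subgroup PSUn := ((qSub (q := q) e hp.ee).map (proj n F q)).map ψ.toMonoidHom
  have hRbar : IsPGroup p Rbar := ((isPGroup_qSub p e hp.ee).map _).map _
  let C' : Subgroup SUn := Rbar.comap (proj n F q)
  have hsurj : Function.Surjective ((proj n F q).subgroupComap Rbar) :=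
    MonoidHom.subgroupComap_surjective_of_surjective _ _ proj_surjective
  obtain ⟨S⟩ := (inferInstance : Nonempty (Sylow p C'))
  let R : Subgroup SUn := (S : Subgroup C').map C'.subtype
  have hR : IsPGroup p R := S.2.map _
  have hpow : ∀ r ∈ R, ∃ k, r ^ p ^ k = 1 := fun r hr => by
    obtain ⟨k, hk⟩ := hR ⟨r, hr⟩
    exact ⟨k, congrArg Subtype.val hk⟩
  have hRmem : ∀ r ∈ R, proj n F q r ∈ Rbar := by
    rintro _ ⟨r, -, rfl⟩
    exact r.2
  have hlift : ∀ r ∈ Rbar, ∃ g ∈ R, proj n F q g = r := by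
    intro r hr
    let T := S.mapSurjective (f := (proj n F q).subgroupComap Rbar) hsurj
    have hT : (T : Subgroup Rbar) = ⊤ := (T.3 (hRbar.to_subgroup ⊤) le_top).symm
    have hm : (⟨r, hr⟩ : Rbar) ∈ (T : Subgroup Rbar) := by rw [hT]; trivial
    obtain ⟨g, hg, hgr⟩ := hm
    exact ⟨g, ⟨g, hg, rfl⟩, congrArg Subtype.val hgr⟩
  -- `R` fixes `e`
  obtain ⟨k, hk0, hk⟩ := exists_isT (q := q) hp.ee
  obtain ⟨k', hk', ek⟩ := hψ k hk
  have hk'0 : k' ≠ 0 := ne_zero_of_image p hn2 hp.e_ne hk0 ek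
  have hRe : ∀ r ∈ R, app r e = e := by
    intro r hr
    obtain ⟨_, ⟨g, ⟨b, s, hb, rfl⟩, rfl⟩, hg⟩ := hRmem r hr
    obtain ⟨j, hj⟩ := hpow r hr
    have e1 : proj n F q (r * tr e k' hk' * r⁻¹) = proj n F q (tr e k' hk') := by
      rw [map_mul, map_mul, map_inv, ← hg, ← ek]
      show ψ _ * ψ _ * (ψ _)⁻¹ = ψ _
      rw [← map_inv, ← map_mul, ← map_mul, ← map_inv, ← map_mul, ← map_mul,
        qE_tr_commute, mul_inv_cancel_right]
    rw [tr_conj] at e1
    have hre : app r e ≠ 0 := fun h0 => hp.e_ne (app_injective r (h0.trans (app_zero r).symm))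
    obtain ⟨c, hc⟩ := proj_tr_eq p hn2 hp.e_ne hk'0 e1.symm
    rw [hc, eigen_eq_one p hj hp.e_ne hc, one_smul]
  -- invariance under the transvections of `W`
  have hnorm : ∀ x : V, InW q e f x → ∀ (j : F) (hj : IsT q x j), ∀ r ∈ R,
      (tr x j hj)⁻¹ * r * tr x j hj ∈ R := by
    intro x hx j hj r hr
    obtain ⟨s, hs⟩ := proj_surjective (ψ⁻¹ (proj n F q (tr x j hj)))
    obtain ⟨c, hc⟩ := line_of_image p hn2 hp.e_ne hp.ee (hψ.inv p hn2 hp.e_ne hp.ee)
      (dElt_tr hp hx hj).1 hs.symm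
    have hc0 : c ≠ 0 := by
      intro h0
      rw [h0, zero_smul] at hc
      exact hp.e_ne (app_injective s (hc.trans (app_zero s).symm))
    have hc' : app s⁻¹ e = c⁻¹ • e := by
      apply app_injective s
      rw [app_inv', app_smul, hc, smul_smul, inv_mul_cancel₀ hc0, one_smul]
    obtain ⟨_, ⟨g, hg, rfl⟩, hgr⟩ := hRmem r hr
    have hmem : proj n F q ((tr x j hj)⁻¹ * r * tr x j hj) ∈ Rbar := by
      refine ⟨proj n F q (s⁻¹ * g * s), ⟨_, ?_, rfl⟩, ?_⟩
      · simpa using qSub_conj hp.ee (inv_ne_zero hc0) hc' hg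
      · show ψ _ = _
        have hs' : ψ (proj n F q s) = proj n F q (tr x j hj) := by
          rw [hs, MulAut.apply_inv_self]
        simp only [map_mul, map_inv, hs']
        rw [← hgr]
        rfl
    obtain ⟨g', hg', eg'⟩ := hlift _ hmem
    obtain ⟨l, hl⟩ := hpow g' hg'
    obtain ⟨m, hm⟩ := hpow r hr
    have hm' : ((tr x j hj)⁻¹ * r * tr x j hj) ^ p ^ m = 1 := by
      have := conj_pow (a := (tr x j hj)⁻¹) (b := r) (i := p ^ m)
      rw [inv_inv] at this
      rw [this, hm, mul_one, inv_mul_cancel]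
    rw [← eq_of_proj_eq p hn2 hl hm' eg']
    exact hg'
  -- `R` is trivial on `W` modulo `e`
  let U : V → Prop := fun w => InW q e f w ∧ ∀ r ∈ R, ∃ c : F, app r w = w + c • e
  have hUsmul : ∀ (w : V) (c : F), U w → U (c • w) := fun w c hw => ⟨hw.1.smul c, fun r hr => by
    obtain ⟨d, hd⟩ := hw.2 r hr
    exact ⟨c * d, by rw [app_smul, hd]; module⟩⟩
  have hUadd : ∀ w w' : V, U w → U w' → U (w + w') := fun w w' hw hw' =>
    ⟨hw.1.add hw'.1, fun r hr => by
      obtain ⟨c, hc⟩ := hw.2 r hr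
      obtain ⟨d, hd⟩ := hw'.2 r hr
      exact ⟨c + d, by rw [app_add, hc, hd]; module⟩⟩
  have hUsub : ∀ w w' : V, U w → U w' → U (w - w') := fun w w' hw hw' => by
    simpa [sub_eq_add_neg] using hUadd w ((-1 : F) • w') hw (hUsmul w' (-1) hw')
  obtain ⟨u, hu, hu0⟩ : ∃ u : V, U u ∧ u ≠ 0 := by
    obtain ⟨w0, hw0, hw00⟩ := exists_inW_ne_zero hn hp
    let W : Submodule F V := LinearMap.ker (Hl (q := q) e) ⊓ LinearMap.ker (Hl (q := q) f)
    have hWmem : ∀ v : V, v ∈ W ↔ InW q e f v := fun v => Iff.rfl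
    have hproj : ∀ r ∈ R, ∀ v : V, InW q e f v →
        InW q e f (app r v - H (app r v) f • e) := by
      intro r hr v hv
      have h1 : H (app r v) e = 0 := by rw [← hRe r hr, app_H]; exact hv.1
      exact ⟨by simp [h1, hp.ee], by simp [hp.ef]⟩
    letI : MulAction R W :=
      { smul := fun r v => ⟨app (r : SUn) v - H (app (r : SUn) v) f • e,
          (hWmem _).2 (hproj _ r.2 _ ((hWmem _).1 v.2))⟩
        one_smul := fun v => Subtype.ext (by
          show app (1 : SUn) v - H (app (1 : SUn) (v : V)) f • e = v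
          rw [app_one, ((hWmem _).1 v.2).2, zero_smul, sub_zero])
        mul_smul := fun r r' v => Subtype.ext (by
          show app ((r : SUn) * (r' : SUn)) v - H (app ((r : SUn) * (r' : SUn)) (v : V)) f • e =
            app (r : SUn) (app (r' : SUn) v - H (app (r' : SUn) (v : V)) f • e) -
              H (app (r : SUn) (app (r' : SUn) v - H (app (r' : SUn) (v : V)) f • e)) f • e
          rw [app_mul, app_sub, app_smul, hRe _ r.2]
          simp only [H_sub_left, H_smul_left, hp.ef]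
          module) }
    have hdvd : p ∣ Nat.card W := by
      have hp0 : p • (⟨w0, (hWmem _).2 hw0⟩ : W) = 0 := by
        apply Subtype.ext
        show p • w0 = 0
        rw [← Nat.cast_smul_eq_nsmul F, CharP.cast_eq_zero, zero_smul]
      have := addOrderOf_eq_prime hp0 (fun e => hw00 (congrArg Subtype.val e))
      exact this ▸ addOrderOf_dvd_natCard _
    obtain ⟨y, hy, hne⟩ := hR.exists_fixed_point_of_prime_dvd_card_of_fixed_point W hdvd
      (a := (0 : W)) (fun g => Subtype.ext (by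
        show app (g : SUn) 0 - H (app (g : SUn) (0 : V)) f • e = 0
        rw [app_zero, H_zero_left, zero_smul, sub_zero]))
    refine ⟨y, ⟨(hWmem _).1 y.2, fun r hr => ⟨H (app r y) f, ?_⟩⟩,
      fun e0 => hne (Subtype.ext e0.symm)⟩
    have e1 : app r y - H (app r (y : V)) f • e = y := congrArg Subtype.val (hy ⟨r, hr⟩)
    linear_combination (norm := module) e1
  have hmove : ∀ x : V, InW q e f x → H x x = 0 → ∀ w : V, U w → H w x ≠ 0 → U x := by
    intro x hx hxx w hw hwx
    obtain ⟨j, hj0, hj⟩ := exists_isT (q := q) hxx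
    have hτ : U (app (tr x j hj) w) := by
      refine ⟨(dElt_tr hp hx hj).inW hp hw.1, fun r hr => ?_⟩
      obtain ⟨c, hc⟩ := hw.2 _ (hnorm x hx j hj r hr)
      refine ⟨c, ?_⟩
      have e1 := congrArg (app (tr x j hj)) hc
      rw [app_add, app_smul, (dElt_tr hp hx hj).1, one_smul, ← app_mul, ← mul_assoc, ← mul_assoc,
        mul_inv_cancel, one_mul, app_mul] at e1
      exact e1
    have h1 := hUsmul _ (j * H w x)⁻¹ (hUsub _ _ hτ hw)
    rwa [tr_apply, add_sub_cancel_left, smul_smul, inv_mul_cancel₀ (mul_ne_zero hj0 hwx),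
      one_smul] at h1
  have hall : ∀ w : V, InW q e f w → U w := by
    rcases w_cases hn hp with ⟨u₀, hu₀, hu₀0, hu₀u⟩ | ⟨-, w0, hw0, -, hline⟩
    · obtain ⟨u', hu', hu'u, hu'u'⟩ := exists_partner_W hp hu₀ hu₀0 hu₀u
      have hq0 : HPair q u₀ u' := ⟨hu₀u, hu'u', by rw [← H_flip u' u₀, hu'u, map_one]⟩
      -- some isotropic vector of `W` lies in `U`
      obtain ⟨x, hx, hxx, hux⟩ : ∃ x : V, InW q e f x ∧ H x x = 0 ∧ H u x ≠ 0 := by
        by_contra hcon
        push Not at hcon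
        refine hu0 (eq_zero_of_orth' (q := q) fun v => ?_)
        rw [← H_pW_left hu.1]
        obtain ⟨r, c, d, hr, hrr, hd⟩ := exists_iso_decomp hp hu₀ hu' hq0 _ (hp.pW_mem v)
        rw [hd]
        simp [hcon r hr hrr, hcon u₀ hu₀ hu₀u, hcon u' hu' hu'u']
      have hxU := hmove x hx hxx u hu hux
      obtain ⟨x', hx', hx'x, hx'x'⟩ := exists_partner_W hp hx
        (fun h0 => hux (by rw [h0, H_zero_right])) hxx
      have hq1 : HPair q x x' := ⟨hxx, hx'x', by rw [← H_flip x' x, hx'x, map_one]⟩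
      have hx'U := hmove x' hx' hx'x' x hxU (by rw [hq1.ef]; exact one_ne_zero)
      intro w hw
      obtain ⟨r, c, d, hr, hrr, rfl⟩ := exists_iso_decomp hp hx hx' hq1 w hw
      refine hUadd _ _ (hUadd _ _ ?_ (hUsmul _ c hxU)) (hUsmul _ d hx'U)
      by_cases h1 : H x r = 0
      · by_cases h2 : H x' r = 0
        · have h3 : U (x' + r) := by
            refine hmove _ (hx'.add hr) ?_ x hxU ?_
            · simp [hx'x', hrr, h2, H_eq_zero_comm.1 h2]
            · simp [h1, hq1.ef]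
          simpa using hUsub _ _ h3 hx'U
        · exact hmove r hr hrr x' hx'U h2
      · exact hmove r hr hrr x hxU h1
    · intro w hw
      obtain ⟨c, rfl⟩ := hline w hw
      obtain ⟨d, hd⟩ := hline u hu.1
      have hd0 : d ≠ 0 := fun h0 => hu0 (by rw [hd, h0, zero_smul])
      have := hUsmul u (c / d) hu
      rwa [hd, smul_smul, div_mul_cancel₀ _ hd0] at this
  -- hence the image is some `q(e; w, s)`
  obtain ⟨g, hg, eg⟩ := hlift (ψ (proj n F q (qE e a t h))) ⟨_, ⟨_, ⟨a, t, h, rfl⟩, rfl⟩, rfl⟩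
  set b := app g f - f with hb
  have hgf : app g f = f + b := by rw [hb]; abel
  have hge := hRe g hg
  have hbe : H b e = 0 := by
    rw [hb, H_sub_left]
    nth_rewrite 1 [← hge]
    rw [app_H, sub_self]
  have hgf' := app_H g f f
  rw [hgf, hp.ff] at hgf'
  simp only [H_add_left, H_add_right, hp.ff] at hgf'
  have hq : IsQ q e b (H f b) := ⟨hp.ee, hbe, by rw [H_flip]; linear_combination hgf'⟩
  have hgE : g = qE e b (H f b) hq := su_ext fun v => by
    show app g v = app (qE e b (H f b) hq) v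
    have hw := hp.pW_mem (q := q) v
    obtain ⟨c, hc⟩ := (hall _ hw).2 g hg
    have e2 := app_H g (pW q e f v) f
    rw [hc, hgf, hw.2] at e2
    simp only [H_add_left, H_add_right, H_smul_left, hp.ef, H_eq_zero_comm.1 hbe, hw.2] at e2
    rw [show c = - H (pW q e f v) b by linear_combination e2] at hc
    conv_lhs => rw [show v = H v f • e + H v e • f + pW q e f v by rw [pW]; module]
    rw [app_add, app_add, app_smul, app_smul, hge, hgf, hc, qE_apply]
    simp only [pW, H_sub_left, H_smul_left, H_eq_zero_comm.1 hbe]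
    module
  obtain ⟨w, s, h', hw, e3⟩ := exists_qE_inW hp hq
  exact ⟨w, s, h', hw, by rw [← eg, hgE, e3]⟩

include p in
theorem SP.unique (hn : 2 ≤ n) (hp : HPair q e f) {ψ : MulAut PSUn} {S : V → V}
    (hS : SP e f ψ S) {w w' : V} {t s : F} {h : IsQ q e w t} {h' : IsQ q e w' s}
    (hw : InW q e f w) (hw' : InW q e f w')
    (e1 : ψ (proj n F q (qE e w t h)) = proj n F q (qE e w' s h')) : S w = w' := by
  obtain ⟨s2, h2, e2⟩ := hS.2 w t h hw
  exact (proj_qE_inj p hn hp (hS.1 w hw) hw' (e2.symm.trans e1)).1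

include p in
theorem exists_SP (hn : 3 ≤ n) (hp : HPair q e f) {ψ : MulAut PSUn} (hψ : LineFix ψ e) :
    ∃ S : V → V, SP e f ψ S := by
  classical
  have hn2 : 2 ≤ n := by omega
  have key : ∀ w : V, InW q e f w → ∃ w' : V, InW q e f w' ∧ ∀ (t : F) (h : IsQ q e w t),
      ∃ (s : F) (h' : IsQ q e w' s),
        ψ (proj n F q (qE e w t h)) = proj n F q (qE e w' s h') := by
    intro w hw
    obtain ⟨t0, ht0⟩ := exists_isQ (q := q) hp.ee hw.1
    obtain ⟨w', s0, h0', hw', e0⟩ := image_qE p hn hp hψ ht0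
    refine ⟨w', hw', fun t ht => ?_⟩
    have hk : IsT q e (t - t0) := ⟨hp.ee, by
      rw [map_sub]
      linear_combination ht.2.2 - ht0.2.2⟩
    obtain ⟨s1, hs1, e1⟩ := hψ _ hk
    have e2 : qE e w t ht = qE e w t0 ht0 * tr e (t - t0) hk := by
      rw [tr, qE_mul]
      exact qE_congr (add_zero w).symm (by simp)
    have hs : IsQ q e w' (s0 + s1) := ⟨hp.ee, h0'.2.1, by
      rw [map_add]
      linear_combination h0'.2.2 + hs1.2⟩
    refine ⟨s0 + s1, hs, ?_⟩
    rw [e2, map_mul, map_mul, e0, e1, ← map_mul, tr, qE_mul]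
    congr 1
    exact qE_congr (add_zero w') (by simp)
  choose! S hS using key
  exact ⟨S, fun w hw => (hS w hw).1, fun w t h hw => (hS w hw).2 t h⟩

include p in
theorem SP.add (hn : 2 ≤ n) (hp : HPair q e f) {ψ : MulAut PSUn} {S : V → V}
    (hS : SP e f ψ S) {w w' : V} (hw : InW q e f w) (hw' : InW q e f w') :
    S (w + w') = S w + S w' := by
  obtain ⟨t, ht⟩ := exists_isQ (q := q) hp.ee hw.1
  obtain ⟨t', ht'⟩ := exists_isQ (q := q) hp.ee hw'.1
  obtain ⟨s, hs, e1⟩ := hS.2 w t ht hw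
  obtain ⟨s', hs', e2⟩ := hS.2 w' t' ht' hw'
  refine hS.unique p hn hp (hw.add hw') ((hS.1 w hw).add (hS.1 w' hw'))
    (t := t + t' - H w' w) (h := ht.add ht') (h' := hs.add hs') ?_
  rw [← qE_mul ht ht', map_mul, map_mul, e1, e2, ← map_mul, qE_mul hs hs']

include p in
theorem SP.inv_apply (hn : 2 ≤ n) (hp : HPair q e f) {ψ : MulAut PSUn} {S S' : V → V}
    (hS : SP e f ψ S) (hS' : SP e f ψ⁻¹ S') {w : V} (hw : InW q e f w) : S (S' w) = w := by
  obtain ⟨t, ht⟩ := exists_isQ (q := q) hp.ee hw.1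
  obtain ⟨s, hs, e1⟩ := hS'.2 w t ht hw
  refine hS.unique p hn hp (hS'.1 w hw) hw (h := hs) (h' := ht) ?_
  rw [← e1, MulAut.apply_inv_self]

include p in
theorem SP.equivariant (hn : 2 ≤ n) (hp : HPair q e f) {ψ : MulAut PSUn} {S : V → V}
    (hS : SP e f ψ S) {s s' : SUn} {a a' : F} (hs : DElt e f s a) (hs' : DElt e f s' a')
    (es : ψ (proj n F q s) = proj n F q s') {w : V} (hw : InW q e f w) :
    S (σ a • app s w) = σ a' • app s' (S w) := by
  obtain ⟨t, ht⟩ := exists_isQ (q := q) hp.ee hw.1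
  obtain ⟨r, hr, e1⟩ := hS.2 w t ht hw
  refine hS.unique p hn hp ((hs.inW hp hw).smul _) ((hs'.inW hp (hS.1 w hw)).smul _)
    (h := hs.isQ ht) (h' := hs'.isQ hr) ?_
  rw [← hs.conj ht, ← hs'.conj hr, map_mul, map_mul, map_inv, map_mul, map_mul, map_inv, es, e1,
    map_mul, map_mul, map_inv]

include p in
/-- The parameters transform by a semilinear similitude of `W`. -/
theorem exists_semilinear_S (hn : 3 ≤ n) (h32 : ¬ (n = 3 ∧ q = 2)) (hp : HPair q e f)
    {ψ : MulAut PSUn} (he : LineFix ψ e) (hf : LineFix ψ f) :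
    ∃ (S : V → V) (τ : F ≃+* F) (c : F), SP e f ψ S ∧ c ≠ 0 ∧ σ c = c ∧
      (∀ (a : F) (w : V), InW q e f w → S (a • w) = τ a • S w) ∧
      ∀ w w' : V, InW q e f w → InW q e f w' → H (S w) (S w') = τ (c * H w w') := by
  classical
  haveI := finite_field (F := F) (q := q)
  have hn2 : 2 ≤ n := by omega
  have he' := he.inv p hn2 hp.e_ne hp.ee
  have hf' := hf.inv p hn2 hp.f_ne hp.ff
  obtain ⟨S, hS⟩ := exists_SP p hn hp he
  obtain ⟨S', hS'⟩ := exists_SP p hn hp he'
  have hSS : ∀ w, InW q e f w → S (S' w) = w := fun w hw => hS.inv_apply p hn2 hp hS' hw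
  have hS'S : ∀ w, InW q e f w → S' (S w) = w := fun w hw =>
    hS'.inv_apply p hn2 hp (by rwa [inv_inv]) hw
  have hS0 : S 0 = 0 := by simpa using hS.add p hn2 hp inW_zero inW_zero
  have hSne : ∀ w, InW q e f w → w ≠ 0 → S w ≠ 0 := fun w hw hw0 h0 => hw0 (by
    rw [← hS'S w hw, h0]
    simpa [hS0] using hS'S 0 inW_zero)
  -- semilinearity
  have hT : ∀ a : F, ∃ b : F, ∀ w : V, InW q e f w → S (a • S' w) = b • w := by
    intro a
    refine commutant hn h32 hp (fun w => S (a • S' w))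
      (fun w hw => hS.1 _ ((hS'.1 w hw).smul a)) (fun w w' hw hw' => ?_) ?_
    · show S (a • S' (w + w')) = S (a • S' w) + S (a • S' w')
      rw [hS'.add p hn2 hp hw hw', smul_add,
        hS.add p hn2 hp ((hS'.1 w hw).smul a) ((hS'.1 w' hw').smul a)]
    · intro s c hs w hw
      show S (a • S' (σ c • app s w)) = σ c • app s (S (a • S' w))
      obtain ⟨s', hs'⟩ := proj_surjective (ψ⁻¹ (proj n F q s))
      obtain ⟨c', hd⟩ := hs.image p hn2 hp he' hf' hs'.symm
      rw [hS'.equivariant p hn2 hp hs hd hs'.symm hw, smul_comm a, ← app_smul,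
        hS.equivariant p hn2 hp hd hs (by rw [hs', MulAut.apply_inv_self])
          ((hS'.1 w hw).smul a)]
  choose τ₀ hτ₀ using hT
  have hlin : ∀ (a : F) (w : V), InW q e f w → S (a • w) = τ₀ a • S w := fun a w hw => by
    rw [← hτ₀ a (S w) (hS.1 w hw), hS'S w hw]
  obtain ⟨w0, hw0, hw00⟩ := exists_inW_ne_zero hn hp
  have hcancel : ∀ x y : F, x • S w0 = y • S w0 → x = y := fun x y h =>
    smul_left_injective F (hSne w0 hw0 hw00) h
  let τh : F →+* F :=
    { toFun := τ₀
      map_one' := hcancel _ _ (by rw [← hlin 1 w0 hw0, one_smul, one_smul])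
      map_mul' := fun x y => hcancel _ _ (by
        rw [← hlin _ w0 hw0, mul_smul x y w0, hlin x _ (hw0.smul y), hlin y w0 hw0, smul_smul])
      map_zero' := hcancel _ _ (by rw [← hlin 0 w0 hw0, zero_smul, zero_smul, hS0])
      map_add' := fun x y => hcancel _ _ (by
        rw [← hlin _ w0 hw0, add_smul x y w0, hS.add p hn2 hp (hw0.smul x) (hw0.smul y),
          hlin x w0 hw0, hlin y w0 hw0, add_smul]) }
  let τ : F ≃+* F := RingEquiv.ofBijective τh (Finite.injective_iff_bijective.1 τh.injective)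
  have hlin' : ∀ (a : F) (w : V), InW q e f w → S (a • w) = τ a • S w := hlin
  -- the form
  have hfix : ∀ w w' : V, InW q e f w → InW q e f w' → σ (H w w') = H w w' →
      σ (H (S w) (S w')) = H (S w) (S w') := by
    intro w w' hw hw' hh
    obtain ⟨t, ht⟩ := exists_isQ (q := q) hp.ee hw.1
    obtain ⟨t', ht'⟩ := exists_isQ (q := q) hp.ee hw'.1
    obtain ⟨s, hs, e1⟩ := hS.2 w t ht hw
    obtain ⟨s', hs', e2⟩ := hS.2 w' t' ht' hw'
    have hc : qE e w t ht * qE e w' t' ht' = qE e w' t' ht' * qE e w t ht := by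
      rw [qE_mul, qE_mul]
      exact qE_congr (add_comm _ _) (by rw [← H_flip w w', hh]; ring)
    have h2 := congrArg (fun g => ψ (proj n F q g)) hc
    simp only [map_mul, e1, e2] at h2
    rw [← map_mul, ← map_mul, qE_mul, qE_mul] at h2
    have h3 := (proj_qE_inj p hn2 hp ((hS.1 w hw).add (hS.1 w' hw'))
      ((hS.1 w' hw').add (hS.1 w hw)) h2).2
    rw [H_flip]
    linear_combination -h3
  let G : V → V → F := fun w w' => τ.symm (H (S w) (S w'))
  have hGflip : ∀ w w', σ (G w w') = G w' w := fun w w' => by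
    simp only [G, qb_comm, H_flip]
  have hGsmul : ∀ (a : F) (w w' : V), InW q e f w → G (a • w) w' = a * G w w' := fun a w w' hw => by
    simp only [G, hlin' a w hw, H_smul_left, map_mul, RingEquiv.symm_apply_apply]
  have hGfix : ∀ w w', InW q e f w → InW q e f w' → σ (H w w') = H w w' →
      σ (G w w') = G w w' := fun w w' hw hw' hh => by
    simp only [G]
    rw [qb_comm, hfix w w' hw hw' hh]
  have hGzero : ∀ w w', InW q e f w → InW q e f w' → H w w' = 0 → G w w' = 0 := by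
    intro w w' hw hw' h0
    obtain ⟨a, ha⟩ := qb_ne (F := F) (q := q)
    have h1 := hGfix _ w' (hw.smul a) hw' (by rw [H_smul_left, h0, mul_zero, map_zero])
    rw [hGsmul a w w' hw, map_mul, hGfix w w' hw hw' (by rw [h0, map_zero])] at h1
    by_contra hne
    exact ha (mul_right_cancel₀ hne h1)
  -- the ratio
  have hratio : ∀ w' : V, InW q e f w' → w' ≠ 0 →
      ∃ c : F, σ c = c ∧ c ≠ 0 ∧ ∀ w, InW q e f w → G w w' = c * H w w' := by
    intro w' hw' hw'0
    obtain ⟨v, hv⟩ := exists_H_eq_one (q := q) hw'0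
    have hz := hp.pW_mem (q := q) v
    have hzw : H (pW q e f v) w' = 1 := by rw [H_pW_right hw', hv]
    have hc : ∀ w, InW q e f w → G w w' = G (pW q e f v) w' * H w w' := by
      intro w hw
      have h1 := hGzero (w - H w w' • pW q e f v) w' (hw.sub (hz.smul _)) hw'
        (by simp [hzw])
      have hadd : G w w' = G (w - H w w' • pW q e f v) w' + G (H w w' • pW q e f v) w' := by
        simp only [G]
        rw [← map_add, ← H_add_left,
          ← hS.add p hn2 hp (hw.sub (hz.smul _)) (hz.smul _), sub_add_cancel]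
      rw [hadd, h1, zero_add, hGsmul _ _ _ hz, mul_comm]
    refine ⟨G (pW q e f v) w', hGfix _ _ hz hw' (by rw [hzw, map_one]), fun h0 => ?_, hc⟩
    refine hSne w' hw' hw'0 (eq_zero_of_orth (q := q) fun x => ?_)
    have h1 := hc (S' (pW q e f x)) (hS'.1 _ (hp.pW_mem x))
    rw [h0, zero_mul] at h1
    simp only [G, map_eq_zero, hSS _ (hp.pW_mem x), H_pW_right (hS.1 w' hw')] at h1
    exact h1
  choose c hcσ hc0 hcG using hratio
  refine ⟨S, τ, c w0 hw0 hw00, hS, hc0 _ _ _, hcσ _ _ _, hlin', fun w w' hw hw' => ?_⟩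
  suffices hG : G w w' = c w0 hw0 hw00 * H w w' by
    rw [← hG]
    simp [G]
  by_cases hw'0 : w' = 0
  · subst hw'0; simp [G, hS0]
  rw [hcG w' hw' hw'0 w hw]
  congr 1
  -- the ratio is constant
  have hnon : ∀ (x y : V) (hx : InW q e f x) (hy : InW q e f y) (hx0 : x ≠ 0) (hy0 : y ≠ 0),
      H x y ≠ 0 → c y hy hy0 = c x hx hx0 := by
    intro x y hx hy hx0 hy0 hxy
    have h1 := congrArg (qb q) (hcG x hx hx0 y hy)
    rw [hGflip, map_mul, H_flip, hcσ, hcG y hy hy0 x hx] at h1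
    exact mul_right_cancel₀ hxy h1
  by_cases h1 : H w0 w' ≠ 0
  · exact hnon w0 w' hw0 hw' hw00 hw'0 h1
  · push Not at h1
    obtain ⟨v, hv⟩ := exists_H_eq_one (q := q) hw'0
    obtain ⟨v', hv'⟩ := exists_H_eq_one (q := q) hw00
    have hz := hp.pW_mem (q := q) v
    have hz' := hp.pW_mem (q := q) v'
    obtain ⟨z, hzW, hzw', hzw0⟩ : ∃ z : V, InW q e f z ∧ H z w' ≠ 0 ∧ H z w0 ≠ 0 := by
      by_cases h2 : H (pW q e f v) w0 ≠ 0
      · exact ⟨_, hz, by rw [H_pW_right hw', hv]; exact one_ne_zero, h2⟩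
      by_cases h3 : H (pW q e f v') w' ≠ 0
      · exact ⟨_, hz', h3, by rw [H_pW_right hw0, hv']; exact one_ne_zero⟩
      push Not at h2 h3
      refine ⟨_, hz.add hz', ?_, ?_⟩
      · rw [H_add_left, h3, add_zero, H_pW_right hw', hv]; exact one_ne_zero
      · rw [H_add_left, h2, zero_add, H_pW_right hw0, hv']; exact one_ne_zero
    have hz0 : z ≠ 0 := fun h0 => hzw' (by rw [h0, H_zero_left])
    rw [hnon z w' hzW hw' hz0 hw'0 hzw',
      hnon w0 z hw0 hzW hw00 hz0 (fun h => hzw0 (H_eq_zero_comm.1 h))]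

end Cfsg.Agent.AutPSU
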