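import Cfsg.Agent.Lib.AutPSU.Group
import Cfsg.Agent.Lib.AutPSp.Twisted

/-!
# Cosets of field automorphisms of `PSU_n`

For a field automorphism of odd order: conjugacy of the elements of the same order in its coset,
centralisers, and the splitting of the class under inner automorphisms.
-/

set_option autoImplicit false
set_option linter.style.haveILetI false
set_option linter.unusedSimpArgs false
set_option linter.unusedSectionVars false

namespace Cfsg.Agent.AutPSU

open Matrix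
open Cfsg.Agent.AutPSL (cyc uMap glMap glMap_coe map_cyc cyc_comm cyc_mul_central)
open Cfsg.Agent.AutPSp (commSub mem_commSub splitClassCount_eq_index index_ker_sup)

universe u

variable {F : Type u} [Field F] {q : ℕ} [hQ : QField F q] {n : ℕ}
include hQ

local notation "σ" => qb (F := F) q
local notation "V" => Fin n → F
local notation "Mat" => Matrix (Fin n) (Fin n) F
local notation "GLn" => GL (Fin n) F
set_option quotPrecheck false in
local notation "SUn" => ↥(Cfsg.SU n F q)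
local notation "PSUn" => Cfsg.PSU n F q
local notation "H" => Cfsg.hermForm n F q
set_option quotPrecheck false in
local notation "GUn" => ↥(Cfsg.GU n F q)
set_option quotPrecheck false in
local notation "N1" => ↥(normOne (F := F) (q := q))

/-- `g` is unitary exactly when `gᵀ σ(g) = 1`. -/
theorem mem_GU_iff_mat {g : GLn} :
    g ∈ Cfsg.GU n F q ↔ (g : Mat)ᵀ * (g : Mat).map σ = 1 := by
  classical
  constructor
  · intro hg
    ext a b
    have e : H ((g : Mat) *ᵥ Pi.single a 1) ((g : Mat) *ᵥ Pi.single b 1) =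
        H (Pi.single a 1) (Pi.single b 1) := hg _ _
    rw [Matrix.mul_apply]
    simp only [Matrix.mulVec_single_one, Matrix.transpose_apply, H_eq, Matrix.map_apply] at e ⊢
    refine e.trans ?_
    rw [Finset.sum_eq_single a (by intro c _ hc; simp [hc]) (by simp)]
    by_cases h : a = b
    · subst h; simp
    · simp [h, Pi.single_eq_of_ne h]
  · intro hg u v
    show H ((g : Mat) *ᵥ u) ((g : Mat) *ᵥ v) = H u v
    have hH : ∀ u v : V, H u v = u ⬝ᵥ vmap σ v := fun u v => by rw [H_eq]; rfl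
    rw [hH, hH, ← vmap_mulVec, ← Matrix.vecMul_transpose, ← Matrix.dotProduct_mulVec,
      Matrix.mulVec_mulVec, hg, Matrix.one_mulVec]

/-- `τ` on `GU`. -/
def gF (τ : F ≃+* F) : GUn →* GUn where
  toFun := guMap τ
  map_one' := Subtype.ext (map_one _)
  map_mul' g h := Subtype.ext (map_mul _ _ _)

theorem gF_coe (τ : F ≃+* F) (g : GUn) :
    ((gF τ g : GUn) : GLn).1 = ((g : GLn) : Mat).map τ := rfl

theorem pow_map_norm (τ : F ≃+* F) {c : Fˣ} (hc : c ^ (q + 1) = 1) :
    (uMap τ c) ^ (q + 1) = 1 := by rw [← map_pow, hc, map_one]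

/-- `τ` on the norm-one elements. -/
def nF (τ : F ≃+* F) : N1 →* N1 where
  toFun c := ⟨uMap τ (c : Fˣ), pow_map_norm τ c.2⟩
  map_one' := Subtype.ext (map_one _)
  map_mul' a b := Subtype.ext (map_mul _ _ _)

theorem nF_coe (τ : F ≃+* F) (c : N1) : ((nF τ c : N1) : Fˣ) = uMap τ (c : Fˣ) := rfl

theorem detHom_gF (τ : F ≃+* F) (g : GUn) : detHom (gF τ g) = nF τ (detHom g) := by
  refine Subtype.ext (Units.ext ?_)
  show (((g : GLn) : Mat).map τ).det = τ ((g : GLn) : Mat).det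
  exact ((τ : F →+* F).map_det _).symm

/-- Scalar unitary matrices. -/
def scalU (hn : 1 ≤ n) : N1 →* GUn :=
  ((Matrix.GeneralLinearGroup.scalar (Fin n) : Fˣ →* GLn).comp
    (normOne (F := F) (q := q)).subtype).codRestrict _ fun c => (mem_scalars_GU_iff hn _).2 c.2

theorem scalU_coe (hn : 1 ≤ n) (c : N1) :
    ((scalU hn c : GUn) : GLn).1 = ((c : Fˣ) : F) • (1 : Mat) := by
  simp [scalU, Matrix.GeneralLinearGroup.scalar, Matrix.smul_one_eq_diagonal]

theorem scalU_mem_center (hn : 1 ≤ n) (c : N1) :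
    (scalU hn c : GUn) ∈ Subgroup.center GUn := by
  refine Subgroup.mem_center_iff.2 fun g => ?_
  apply Subtype.ext
  apply Units.ext
  simp [scalU_coe, Units.val_mul]

theorem scalU_injective (hn : 1 ≤ n) :
    Function.Injective (scalU (n := n) (F := F) (q := q) hn) := by
  intro a b h
  have h' := congrArg (fun g : GUn => ((g : GLn) : Mat) ⟨0, hn⟩ ⟨0, hn⟩) h
  simp [scalU_coe] at h'
  exact Subtype.ext (Units.ext h')

theorem gF_scalU (hn : 1 ≤ n) (τ : F ≃+* F) (c : N1) :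
    gF τ (scalU hn c) = scalU hn (nF τ c) := by
  apply Subtype.ext
  apply Units.ext
  rw [gF_coe, scalU_coe, scalU_coe]
  ext i j
  simp [nF, uMap, Matrix.one_apply, apply_ite τ]

theorem detHom_scalU (hn : 1 ≤ n) (c : N1) : detHom (scalU hn c) = c ^ n := by
  refine Subtype.ext (Units.ext ?_)
  show ((scalU hn c : GUn) : GLn).1.det = _
  rw [scalU_coe, Matrix.det_smul, Matrix.det_one, mul_one, Fintype.card_fin]
  simp

/-- The standard field automorphism. -/
def stdF (τ : F ≃+* F) : MulAut PSUn := descend (fld τ)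

theorem stdF_cj (τ : F ≃+* F) (g : GUn) :
    (stdF τ : MulAut PSUn) * descend (cj g) = descend (cj (gF τ g)) * stdF τ := by
  rw [stdF, ← map_mul, ← map_mul, fld_mul_cj]
  rfl

theorem stdF_refl : (stdF (RingEquiv.refl F) : MulAut PSUn) = 1 := by rw [stdF, fld_one, map_one]

theorem stdF_pow (τ : F ≃+* F) : ∀ i, (stdF τ : MulAut PSUn) ^ i = stdF (τ ^ i)
  | 0 => by rw [pow_zero, pow_zero]; exact stdF_refl.symm
  | i + 1 => by
    rw [pow_succ, stdF_pow τ i, stdF, stdF, stdF, ← map_mul, fld_mul, pow_succ]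
    rfl

theorem stdA_eq_mul (g : GUn) (τ : F ≃+* F) :
    stdA g τ = descend (cj g) * stdF τ := map_mul descend _ _

theorem cyc_pow (τ : F ≃+* F) (g : GUn) : ∀ i,
    (descend (cj g) * stdF τ : MulAut PSUn) ^ i = descend (cj (cyc (gF τ) g i)) * stdF τ ^ i
  | 0 => by simp [cyc]
  | i + 1 => by
    rw [pow_succ', cyc_pow τ g i, cyc, map_mul cj, map_mul descend, pow_succ']
    simp only [mul_assoc]
    congr 1
    rw [← mul_assoc, stdF_cj, mul_assoc]

theorem iterate_gF (τ : F ≃+* F) : ∀ (i : ℕ) (x : GUn),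
    ((((gF τ : GUn → GUn)^[i] x : GUn) : GLn) : Mat) = ((x : GLn) : Mat).map (τ ^ i : F ≃+* F)
  | 0, x => by ext; rfl
  | i + 1, x => by
    rw [Function.iterate_succ_apply', pow_succ', gF_coe, iterate_gF τ i]
    rfl

theorem iterate_gF_orderOf (τ : F ≃+* F) (x : GUn) : (gF τ : GUn → GUn)^[orderOf τ] x = x := by
  apply Subtype.ext
  apply Units.ext
  rw [iterate_gF, pow_orderOf_eq_one]
  rfl

section Finite

variable (p : ℕ) [Fact p.Prime] [CharP F p]
include p

theorem descend_cj_eq_one (hn : 3 ≤ n) (g : GUn) :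
    descend (cj g) = (1 : MulAut PSUn) ↔ ∃ c : N1, g = scalU (by omega) c := by
  constructor
  · intro h
    rw [descend_cj_eq] at h
    obtain ⟨c, hc⟩ := (Cfsg.Geo.mem_scalars_iff _).1 (stdA_eq_one p hn h).2
    have hmem : c ^ (q + 1) = 1 := by
      refine (mem_scalars_GU_iff (n := n) (by omega) c).1 ?_
      have : (Matrix.GeneralLinearGroup.scalar (Fin n) c : GLn) = (g : GLn) := Units.ext (by
        simp [Matrix.GeneralLinearGroup.scalar, hc, Matrix.smul_one_eq_diagonal])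
      rw [this]
      exact g.2
    exact ⟨⟨c, hmem⟩, Subtype.ext (Units.ext (by rw [hc, scalU_coe]))⟩
  · rintro ⟨c, rfl⟩
    rw [cj_scalar ((Cfsg.Geo.mem_scalars_iff _).2 ⟨(c : Fˣ), scalU_coe _ c⟩), map_one]

theorem stdF_eq_one_iff (hn : 3 ≤ n) (τ : F ≃+* F) :
    (stdF τ : MulAut PSUn) = 1 ↔ τ = RingEquiv.refl F := by
  refine ⟨fun h => (stdA_eq_one p hn (g := (1 : GUn)) (τ := τ) ?_).1, ?_⟩
  · rw [stdA_eq_mul, map_one, map_one, one_mul, h]
  · rintro rfl
    exact stdF_refl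

theorem orderOf_stdF (hn : 3 ≤ n) (τ : F ≃+* F) :
    orderOf (stdF τ : MulAut PSUn) = orderOf τ := by
  refine orderOf_eq_orderOf_iff.2 fun i => ?_
  rw [stdF_pow, stdF_eq_one_iff p hn]
  rfl

theorem commute_stdF_iff (hn : 3 ≤ n) (τ : F ≃+* F) (g : GUn) :
    Commute (descend (cj g) : MulAut PSUn) (stdF τ) ↔
      ∃ c : N1, gF τ g = g * scalU (by omega) c := by
  rw [commute_iff_eq, stdF_cj, mul_left_inj]
  constructor
  · intro h
    obtain ⟨c, hc⟩ := (descend_cj_eq_one p hn (g⁻¹ * gF τ g)).1 (by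
      rw [map_mul, map_mul, map_inv, map_inv, ← h, inv_mul_cancel])
    exact ⟨c, by rw [← hc, mul_inv_cancel_left]⟩
  · rintro ⟨c, hc⟩
    rw [hc, map_mul, map_mul, (descend_cj_eq_one p hn _).2 ⟨c, rfl⟩, mul_one]

theorem inndiag_mem (g : GUn) : (descend (cj g) : MulAut PSUn) ∈ Cfsg.inndiagPSU n F q := by
  rw [inndiag_eq]; exact ⟨g, rfl⟩

/-- Conjugates of a standard field automorphism are conjugate to it in the inner-diagonal group. -/
theorem exists_inndiag_conj [Fintype F] (hn : 3 ≤ n) (h32 : ¬ (n = 3 ∧ q = 2)) (τ : F ≃+* F)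
    (α : MulAut PSUn) :
    ∃ g : GUn, α * stdF τ * α⁻¹ = descend (cj g) * stdF τ * (descend (cj g))⁻¹ := by
  haveI : IsCyclic (F ≃+* F) := AutPSL.isCyclic_ringAut p
  obtain ⟨g, ρ, rfl⟩ := exists_normal_form p hn h32 α
  refine ⟨g, ?_⟩
  have hc : Commute (stdF ρ : MulAut PSUn) (stdF τ) := by
    show _ = _
    rw [stdF, stdF, ← map_mul, ← map_mul, fld_mul, fld_mul]
    exact congrArg (fun e => descend (fld e))
      ((IsCyclic.commutative (α := F ≃+* F)).is_comm.comm ρ τ)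
  rw [stdA_eq_mul]
  simp only [_root_.mul_inv_rev, mul_assoc]
  congr 1
  rw [← mul_assoc, hc.eq, mul_assoc, mul_inv_cancel_left]

theorem exists_field_rep [Fintype F] (hn : 3 ≤ n) (h32 : ¬ (n = 3 ∧ q = 2)) {x : MulAut PSUn}
    (hx : Cfsg.IsFieldAutClassPSU x) :
    ∃ (τ : F ≃+* F) (k : GUn), τ ≠ RingEquiv.refl F ∧ Odd (orderOf τ) ∧
      x = descend (cj k) * stdF τ * (descend (cj k))⁻¹ := by
  obtain ⟨α, φ, τ, hτ, hodd, hs, he⟩ := hx
  rw [isFieldOf_iff] at hs
  obtain ⟨k, hk⟩ := exists_inndiag_conj p hn h32 τ α⁻¹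
  refine ⟨τ, k, hτ, hodd, ?_⟩
  rw [← hk, inv_inv, show stdF τ = α * x * α⁻¹ from (he.trans hs).symm]
  simp [mul_assoc]

end Finite

omit hQ in
theorem index_pow_sup {A : Type*} [CommGroup A] [Finite A] [IsCyclic A] (S : Subgroup A) (k : ℕ) :
    ((powMonoidHom k : A →* A).range ⊔ S).index = Nat.gcd S.index k := by
  haveI hQ' : IsCyclic (A ⧸ S) := isCyclic_of_surjective _ (QuotientGroup.mk'_surjective S)
  have h1 : (powMonoidHom k : A →* A).range.map (QuotientGroup.mk' S) =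
      (powMonoidHom (α := A ⧸ S) k).range := by
    ext x
    constructor
    · rintro ⟨_, ⟨b, rfl⟩, rfl⟩
      exact ⟨QuotientGroup.mk' S b, by simp⟩
    · rintro ⟨b, rfl⟩
      obtain ⟨b, rfl⟩ := QuotientGroup.mk'_surjective S b
      exact ⟨b ^ k, ⟨b, rfl⟩, by simp⟩
  have h2 := Subgroup.index_map (powMonoidHom k : A →* A).range (QuotientGroup.mk' S)
  rw [h1, IsCyclic.index_powMonoidHom_range, QuotientGroup.ker_mk',
    MonoidHom.range_eq_top.mpr (QuotientGroup.mk'_surjective S), Subgroup.index_top, mul_one] at h2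
  rw [← h2]
  rfl

/-! ### The subfield -/

section Subfield

variable (τ : F ≃+* F) {F₀ : Type*} [Field F₀] {q₀ : ℕ} [hQ₀ : QField F₀ q₀] (j : F₀ →+* F)

local notation "GLn₀" => GL (Fin n) F₀

variable (hj : ∀ a, τ a = a ↔ a ∈ j.range) (hjσ : ∀ a, j (qb q₀ a) = qb q (j a))

include hQ₀ hjσ in
theorem map_mem_GU (g : Cfsg.GU n F₀ q₀) :
    Matrix.GeneralLinearGroup.map j (g : GLn₀) ∈ Cfsg.GU n F q := by
  rw [mem_GU_iff_mat]
  show (((g : GLn₀) : Matrix (Fin n) (Fin n) F₀).map j)ᵀ *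
    (((g : GLn₀) : Matrix (Fin n) (Fin n) F₀).map j).map σ = 1
  have h := (mem_GU_iff_mat (q := q₀)).1 g.2
  have e : (((g : GLn₀) : Matrix (Fin n) (Fin n) F₀).map j).map σ =
      (((g : GLn₀) : Matrix (Fin n) (Fin n) F₀).map (qb q₀)).map j := by
    ext a b; simp [hjσ]
  rw [e, ← Matrix.transpose_map, ← Matrix.map_mul, h, Matrix.map_one _ (map_zero j) (map_one j)]

/-- Unitary matrices over the subfield. -/
noncomputable def gMap : Cfsg.GU n F₀ q₀ →* GUn :=
  ((Matrix.GeneralLinearGroup.map j).comp (Cfsg.GU n F₀ q₀).subtype).codRestrict _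
    (map_mem_GU j hjσ)

include hQ₀ hjσ in
theorem gMap_coe (g : Cfsg.GU n F₀ q₀) :
    ((gMap j hjσ g : GUn) : GLn).1 = ((g : GLn₀) : Matrix (Fin n) (Fin n) F₀).map j := rfl

include hQ₀ hjσ in
theorem pow_map_norm₀ {c : F₀ˣ} (hc : c ^ (q₀ + 1) = 1) :
    (Units.map j.toMonoidHom c) ^ (q + 1) = 1 := by
  apply Units.ext
  rw [Units.val_pow_eq_pow_val, Units.val_one, pow_succ', ← qb_apply (F := F) (q := q)]
  show j (c : F₀) * σ (j (c : F₀)) = 1
  rw [← hjσ, ← map_mul, coe_norm_eq_one (q := q₀) (mem_normOne.2 hc), map_one]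

/-- Norm-one elements of the subfield. -/
noncomputable def nMap : normOne (F := F₀) (q := q₀) →* N1 :=
  ((Units.map j.toMonoidHom).comp (normOne (F := F₀) (q := q₀)).subtype).codRestrict _
    fun c => pow_map_norm₀ j hjσ c.2

include hQ₀ hjσ in
theorem nMap_injective : Function.Injective (nMap (q := q) j hjσ) := fun a b h =>
  Subtype.ext (Units.map_injective (f := j.toMonoidHom) j.injective (congrArg Subtype.val h))

include hQ₀ hjσ in
theorem detHom_gMap (g : Cfsg.GU n F₀ q₀) : detHom (gMap j hjσ g) = nMap j hjσ (detHom g) := by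
  refine Subtype.ext (Units.ext ?_)
  show (((g : GLn₀) : Matrix (Fin n) (Fin n) F₀).map j).det =
    j ((g : GLn₀) : Matrix (Fin n) (Fin n) F₀).det
  exact (j.map_det _).symm

include hQ₀ hj hjσ

theorem gF_gMap (g : Cfsg.GU n F₀ q₀) : gF τ (gMap j hjσ g) = gMap j hjσ g := by
  apply Subtype.ext
  apply Units.ext
  ext a b
  exact (hj _).2 ⟨_, rfl⟩

theorem exists_gMap_eq (g : GUn) (hg : gF τ g = g) :
    ∃ g₀ : Cfsg.GU n F₀ q₀, gMap j hjσ g₀ = g := by
  obtain ⟨m, hm⟩ := AutPSL.exists_map_eq τ j hj (g : GLn) (congrArg Subtype.val hg)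
  have hmem : m ∈ Cfsg.GU n F₀ q₀ := by
    rw [mem_GU_iff_mat]
    have h := mem_GU_iff_mat.1 g.2
    have hgm : ((g : GLn) : Mat) = (m : Matrix (Fin n) (Fin n) F₀).map j :=
      (congrArg Units.val hm).symm
    rw [hgm] at h
    have e : ((m : Matrix (Fin n) (Fin n) F₀).map j).map σ =
        ((m : Matrix (Fin n) (Fin n) F₀).map (qb q₀)).map j := by
      ext a b; simp [hjσ]
    rw [e, ← Matrix.transpose_map, ← Matrix.map_mul] at h
    apply Matrix.map_injective j.injective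
    show ((m : Matrix (Fin n) (Fin n) F₀)ᵀ * (m : Matrix (Fin n) (Fin n) F₀).map (qb q₀)).map j =
      (1 : Matrix (Fin n) (Fin n) F₀).map j
    rw [h, Matrix.map_one _ (map_zero j) (map_one j)]
  exact ⟨⟨m, hmem⟩, Subtype.ext hm⟩

/-- The twisted norm is surjective on norm-one elements. -/
theorem exists_cyc_eq [Finite F] (hr : 0 < orderOf τ) (c : N1) (hc : nF τ c = c) :
    ∃ l : N1, cyc (nF τ) l (orderOf τ) = c := by
  haveI : Finite F₀ := Finite.of_injective j j.injective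
  obtain ⟨c₀, hc₀⟩ := (hj _).1 (congrArg Units.val (congrArg Subtype.val hc))
  have hc00 : c₀ ≠ 0 := fun h0 => (c : Fˣ).ne_zero (by rw [← hc₀, h0, map_zero])
  have hn : cyc (uMap (qb (F := F₀) q₀)) (Units.mk0 c₀ hc00) 2 = 1 := by
    rw [AutPSL.cyc_two]
    apply Units.ext
    apply j.injective
    show j (c₀ * qb q₀ c₀) = j 1
    rw [map_mul, hjσ, hc₀, map_one, coe_norm_eq_one c.2]
  obtain ⟨b₀, hb₀⟩ := AutPSL.exists_hilbert90 (qb (F := F₀) q₀) (by rw [orderOf_qb]; exact two_pos)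
    (Units.mk0 c₀ hc00) (by rw [orderOf_qb]; exact hn)
  obtain ⟨l, hl⟩ := AutPSL.exists_norm_eq τ hr (Units.map j.toMonoidHom b₀)
    (Units.ext ((hj _).2 ⟨_, rfl⟩))
  have hmem : (l * (uMap σ l)⁻¹) ^ (q + 1) = 1 := by
    have hσσ : uMap σ (uMap σ l) = l := Units.ext (qb_qb _)
    have hu : uMap σ (l * (uMap σ l)⁻¹) = (l * (uMap σ l)⁻¹) ^ q := Units.ext (by
      rw [Units.val_pow_eq_pow_val]; exact qb_apply _)
    rw [pow_succ, ← hu, map_mul, map_inv, hσσ]
    apply Units.ext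
    push_cast
    field_simp
  refine ⟨⟨_, hmem⟩, Subtype.ext ?_⟩
  rw [show ((cyc (nF τ) (⟨_, hmem⟩ : N1) (orderOf τ) : N1) : Fˣ) =
      cyc (uMap τ) (l * (uMap σ l)⁻¹) (orderOf τ) from
    map_cyc (nF τ) (uMap τ) (normOne (F := F) (q := q)).subtype (fun x => nF_coe τ x) _ _]
  have hcm : ∀ x, uMap σ (uMap τ x) = uMap τ (uMap σ x) := fun x => Units.ext (qb_comm τ _)
  have hinv : ∀ (x : Fˣ) i, cyc (uMap τ) x⁻¹ i = (cyc (uMap τ) x i)⁻¹ := fun x i =>
    (map_cyc (uMap τ) (uMap τ) (MonoidHom.mk' (fun y : Fˣ => y⁻¹) (fun a b => mul_inv a b))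
      (fun y => (map_inv (uMap τ) y).symm) x i).symm
  rw [cyc_comm, hinv, ← map_cyc (uMap τ) (uMap τ) (uMap σ) hcm, hl]
  apply Units.ext
  show j (b₀ : F₀) * (↑(uMap σ (Units.map j.toMonoidHom b₀))⁻¹ : F) = ((c : Fˣ) : F)
  have e := congrArg (fun x : F₀ˣ => j (x : F₀)) hb₀
  simp only [Units.val_mk0, Units.val_mul, map_mul, hc₀] at e
  rw [e]
  congr 1
  rw [Units.val_inv_eq_inv_val, Units.val_inv_eq_inv_val, map_inv₀]
  show (σ (j (b₀ : F₀)))⁻¹ = (j (qb q₀ (b₀ : F₀)))⁻¹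
  rw [hjσ]

/-- A twisted coboundary of norm-one elements. -/
theorem exists_hilbert90_norm [Finite F] (hr : 0 < orderOf τ) (c : N1)
    (hc : cyc (nF τ) c (orderOf τ) = 1) : ∃ b : N1, c = b * (nF τ b)⁻¹ := by
  haveI : Finite F₀ := Finite.of_injective j j.injective
  obtain ⟨b, hb⟩ := AutPSL.exists_hilbert90 τ hr (c : Fˣ) (by
    show cyc (uMap τ) ((normOne (F := F) (q := q)).subtype c) _ = 1
    rw [← map_cyc (nF τ) (uMap τ) (normOne (F := F) (q := q)).subtype (fun x => nF_coe τ x) c, hc]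
    rfl)
  have hfix : τ ((b : F) * σ (b : F)) = (b : F) * σ (b : F) := by
    have e1 := coe_norm_eq_one c.2
    rw [hb, Units.val_mul, map_mul, Units.val_inv_eq_inv_val, map_inv₀] at e1
    have hτb : τ (b : F) ≠ 0 := (map_ne_zero τ).2 b.ne_zero
    have hu : ((uMap τ b : Fˣ) : F) = τ (b : F) := rfl
    rw [hu] at e1
    have hσ : σ (τ (b : F)) ≠ 0 := (map_ne_zero σ).2 hτb
    field_simp at e1
    rw [map_mul, ← qb_comm]
    linear_combination -e1
  obtain ⟨d, hd⟩ := (hj _).1 hfix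
  have hdσ : qb q₀ d = d := j.injective (by rw [hjσ, hd, map_mul, qb_qb, mul_comm])
  obtain ⟨a, ha⟩ := exists_norm (F := F₀) (q := q₀) hdσ
  have hbb : (b : F) * σ (b : F) ≠ 0 := mul_ne_zero b.ne_zero ((map_ne_zero σ).2 b.ne_zero)
  have ha0 : j a ≠ 0 := fun h0 => hbb (by rw [← hd, ← ha, map_mul, h0, zero_mul])
  set b' : Fˣ := b * (Units.mk0 (j a) ha0)⁻¹ with hb'
  have hmem : b' ^ (q + 1) = 1 := by
    apply Units.ext
    rw [Units.val_pow_eq_pow_val, Units.val_one, pow_succ', ← qb_apply (F := F) (q := q), hb',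
      Units.val_mul, map_mul, Units.val_inv_eq_inv_val, Units.val_mk0, map_inv₀, ← hjσ]
    have h2 : j a * j (qb q₀ a) = (b : F) * σ (b : F) := by rw [← map_mul, ha, hd]
    have h3 : j (qb q₀ a) ≠ 0 := fun h0 => hbb (by rw [← h2, h0, mul_zero])
    field_simp
    linear_combination -h2
  refine ⟨⟨b', hmem⟩, Subtype.ext ?_⟩
  show (c : Fˣ) = b' * (uMap τ b')⁻¹
  have hfa : uMap τ (Units.mk0 (j a) ha0) = Units.mk0 (j a) ha0 := Units.ext ((hj _).2 ⟨_, rfl⟩)
  rw [hb', map_mul, map_inv, hfa, hb, _root_.mul_inv_rev, inv_inv, mul_assoc, inv_mul_cancel_left]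

variable (p : ℕ) [Fact p.Prime] [CharP F p] [Finite F]
include p

/-- Elements of the same order in the coset of a field automorphism are conjugate to it. -/
theorem exists_conj_stdF (hn : 3 ≤ n) (hr : 0 < orderOf τ) (g : GUn)
    (h : (descend (cj g) * stdF τ : MulAut PSUn) ^ orderOf τ = 1) :
    ∃ k : GUn, (descend (cj g) * stdF τ : MulAut PSUn) =
      descend (cj k) * stdF τ * (descend (cj k))⁻¹ := by
  classical
  haveI : Finite F₀ := Finite.of_injective j j.injective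
  have hn1 : 1 ≤ n := by omega
  rw [cyc_pow, stdF_pow, pow_orderOf_eq_one, (stdF_eq_one_iff p hn (1 : F ≃+* F)).2 rfl, mul_one,
    descend_cj_eq_one p hn] at h
  obtain ⟨c, hc⟩ := h
  have hfix := AutPSL.fixed_of_central (gF τ) g (orderOf τ) (iterate_gF_orderOf τ g)
    (by rw [hc]; exact scalU_mem_center _ c)
  rw [hc, gF_scalU] at hfix
  obtain ⟨l, hl⟩ := exists_cyc_eq τ j hj hjσ hr c (scalU_injective hn1 hfix)
  have hcl : ∀ i, cyc (gF τ) (scalU hn1 l⁻¹ : GUn) i = scalU hn1 (cyc (nF τ) l⁻¹ i) := fun i =>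
    (map_cyc (nF τ) (gF τ) (scalU hn1) (fun x => (gF_scalU hn1 τ x).symm) l⁻¹ i).symm
  set g' := g * scalU hn1 l⁻¹ with hg'
  have hcyc : cyc (gF τ) g' (orderOf τ) = 1 := by
    rw [hg', cyc_mul_central _ _ _ (fun i => by rw [hcl]; exact scalU_mem_center _ _), hcl, hc,
      ← map_mul]
    have h1 : cyc (nF τ) l⁻¹ (orderOf τ) = c⁻¹ := by
      refine eq_inv_of_mul_eq_one_left ?_
      rw [← hl, ← cyc_comm, inv_mul_cancel]
      have : ∀ i, cyc (nF τ) (1 : N1) i = 1 := by
        intro i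
        induction i with
        | zero => rfl
        | succ i ih => rw [cyc, ih, map_one, mul_one]
      exact this _
    rw [h1, mul_inv_cancel, map_one]
  obtain ⟨hd, hhd⟩ := AutPSL.exists_descent τ hr (g' : GLn) (by
    rw [show (g' : GLn) = (Cfsg.GU n F q).subtype g' from rfl,
      ← map_cyc (gF τ) (glMap τ) (Cfsg.GU n F q).subtype (fun _ => rfl), hcyc, map_one])
  -- the pulled back form is defined over the fixed field
  set C : Mat := (hd : Mat)ᵀ * (hd : Mat).map σ with hC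
  have hτC : C.map τ = C := by
    have e1 : (hd : Mat) = ((g' : GLn) : Mat) * (hd : Mat).map τ := by
      conv_lhs => rw [← hhd, Units.val_mul, glMap_coe]
    have e2 : ((hd : Mat).map σ).map τ = ((hd : Mat).map τ).map σ := by
      ext a b; simp [qb_comm]
    calc C.map τ = ((hd : Mat).map τ)ᵀ * ((hd : Mat).map τ).map σ := by
          rw [hC, Matrix.map_mul, e2, Matrix.transpose_map]
      _ = ((hd : Mat).map τ)ᵀ *
          ((((g' : GLn) : Mat))ᵀ * ((g' : GLn) : Mat).map σ) * ((hd : Mat).map τ).map σ := by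
          rw [mem_GU_iff_mat.1 g'.2, mul_one]
      _ = _ := by
          rw [hC]
          conv_rhs => rw [e1, Matrix.transpose_mul, Matrix.map_mul]
          simp only [Matrix.mul_assoc]
  have hent : ∀ a b, ∃ z : F₀, j z = C a b := fun a b =>
    (hj _).1 (congrFun (congrFun hτC a) b)
  choose N hN using hent
  have hNC : (Matrix.of N).map j = C := by ext a b; exact hN a b
  have hCu : IsUnit C := by
    rw [hC, Matrix.isUnit_iff_isUnit_det, Matrix.det_mul, Matrix.det_transpose,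
      show ((hd : Mat).map σ).det = σ (hd : Mat).det from ((σ : F →+* F).map_det _).symm]
    have := (Matrix.isUnit_iff_isUnit_det (hd : Mat)).1 hd.isUnit
    exact this.mul (this.map _)
  have hNu : IsUnit (Matrix.of N) := by
    rw [Matrix.isUnit_iff_isUnit_det, isUnit_iff_ne_zero]
    intro h0
    have := (Matrix.isUnit_iff_isUnit_det C).1 hCu
    rw [← hNC, ← RingHom.mapMatrix_apply, ← RingHom.map_det, h0, map_zero] at this
    exact not_isUnit_zero this
  have hherm : ((Matrix.of N).map (qb q₀))ᵀ = Matrix.of N := by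
    apply Matrix.map_injective j.injective
    show (((Matrix.of N).map (qb q₀))ᵀ).map j = (Matrix.of N).map j
    rw [hNC]
    ext a b
    simp only [Matrix.map_apply, Matrix.transpose_apply, Matrix.of_apply, hjσ, hN]
    simp [hC, Matrix.mul_apply, map_sum, mul_comm]
  obtain ⟨hN0, hhN⟩ := AutPSL.exists_hermitian_congr (qb (F := F₀) q₀) qb_qb qb_ne_refl hNu.unit
    hherm
  let h0 : GLn := Matrix.GeneralLinearGroup.map j hN0
  have hC0 : C = (h0 : Mat) * ((h0 : Mat).map σ)ᵀ := by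
    rw [← hNC, show Matrix.of N = (hNu.unit : Matrix (Fin n) (Fin n) F₀) from rfl, hhN,
      Matrix.map_mul]
    congr 1
    ext a b
    simp [h0, hjσ]
  let MT : GLn := ⟨((h0⁻¹ : GLn) : Mat)ᵀ, (h0 : Mat)ᵀ, by
      rw [← Matrix.transpose_mul, Units.mul_inv, Matrix.transpose_one], by
      rw [← Matrix.transpose_mul, Units.inv_mul, Matrix.transpose_one]⟩
  have hk : hd * MT ∈ Cfsg.GU n F q := by
    rw [mem_GU_iff_mat, Units.val_mul, Matrix.transpose_mul, Matrix.map_mul]
    show (((h0⁻¹ : GLn) : Mat)ᵀ)ᵀ * (hd : Mat)ᵀ * ((hd : Mat).map σ * (((h0⁻¹ : GLn) : Mat)ᵀ).map σ) = 1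
    rw [Matrix.transpose_transpose, Matrix.mul_assoc, ← Matrix.mul_assoc ((hd : Mat)ᵀ), ← hC, hC0,
      ← Matrix.mul_assoc, ← Matrix.mul_assoc, Units.inv_mul, Matrix.one_mul, Matrix.transpose_map,
      ← Matrix.transpose_mul, ← Matrix.map_mul, Units.inv_mul,
      Matrix.map_one _ (map_zero σ) (map_one σ), Matrix.transpose_one]
  let kG : GUn := ⟨hd * MT, hk⟩
  have hfixk : g' * gF τ kG = kG := by
    apply Subtype.ext
    show (g' : GLn) * glMap τ (hd * MT) = hd * MT
    have hMT : glMap τ MT = MT := by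
      apply Units.ext
      rw [glMap_coe]
      show (((h0⁻¹ : GLn) : Mat)ᵀ).map τ = ((h0⁻¹ : GLn) : Mat)ᵀ
      rw [show ((h0⁻¹ : GLn) : Mat) =
        ((hN0⁻¹ : GLn₀) : Matrix (Fin n) (Fin n) F₀).map j from
          congrArg Units.val (map_inv (Matrix.GeneralLinearGroup.map j) hN0).symm]
      ext a b
      exact (hj _).2 ⟨_, rfl⟩
    rw [map_mul, hMT, ← mul_assoc, hhd]
  refine ⟨kG, ?_⟩
  have hg'' : descend (cj g') = (descend (cj g) : MulAut PSUn) := by
    rw [hg', map_mul, map_mul, (descend_cj_eq_one p hn _).2 ⟨_, rfl⟩, mul_one]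
  conv_rhs => lhs; lhs; rw [← hfixk]
  rw [map_mul cj, map_mul descend, mul_assoc (descend (cj g')), ← stdF_cj, hg'']
  simp [mul_assoc]

/-- An element commuting with a field automorphism is a fixed one up to a scalar. -/
theorem exists_fixed (hn : 3 ≤ n) (hr : 0 < orderOf τ) (g : GUn) (c : N1)
    (h : gF τ g = g * scalU (by omega) c) :
    ∃ b : N1, gF τ (g * scalU (by omega) b) = g * scalU (by omega) b := by
  have hn1 : 1 ≤ n := by omega
  have hiter : ∀ i, (gF τ : GUn → GUn)^[i] g = g * scalU hn1 (cyc (nF τ) c i) := by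
    intro i
    induction i with
    | zero => simp [cyc]
    | succ i ih =>
      rw [Function.iterate_succ_apply', ih, map_mul, gF_scalU, h, cyc, mul_assoc, map_mul]
  have h1 : cyc (nF τ) c (orderOf τ) = 1 := by
    refine scalU_injective hn1 (mul_left_cancel (a := g) ?_)
    rw [← hiter, map_one, mul_one, iterate_gF_orderOf]
  obtain ⟨b, hb⟩ := exists_hilbert90_norm τ j hj hjσ hr c h1
  refine ⟨b, ?_⟩
  rw [map_mul, gF_scalU, h, mul_assoc, ← map_mul, hb, inv_mul_cancel_right]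

/-- The centraliser of a field automorphism in the inner-diagonal group. -/
theorem centralizer_equiv (hn : 3 ≤ n) (hr : 0 < orderOf τ) :
    Nonempty (↥(Cfsg.inndiagPSU n F q ⊓ Subgroup.centralizer {stdF τ}) ≃*
      Cfsg.PGU n F₀ q₀) := by
  haveI : Finite F₀ := Finite.of_injective j j.injective
  let Φ : Cfsg.GU n F₀ q₀ →* ↥(Cfsg.inndiagPSU n F q ⊓ Subgroup.centralizer {stdF τ}) :=
    ((descend.comp cj).comp (gMap j hjσ)).codRestrict _ (fun g => ⟨inndiag_mem p _,
      Subgroup.mem_centralizer_singleton_iff.mpr (((commute_stdF_iff p hn τ (gMap j hjσ g)).mpr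
        ⟨1, by rw [gF_gMap τ j hj hjσ, map_one, mul_one]⟩).eq)⟩)
  have hΦ : Function.Surjective Φ := by
    rintro ⟨x, hx1, hx2⟩
    rw [inndiag_eq] at hx1
    obtain ⟨g, rfl⟩ := hx1
    obtain ⟨c, hc⟩ :=
      (commute_stdF_iff p hn τ g).mp (Subgroup.mem_centralizer_singleton_iff.mp hx2)
    obtain ⟨b, hb⟩ := exists_fixed τ j hj hjσ p hn hr g c hc
    obtain ⟨g₀, hg₀⟩ := exists_gMap_eq τ j hj hjσ _ hb
    refine ⟨g₀, Subtype.ext ?_⟩
    show descend (cj (gMap j hjσ g₀)) = descend (cj g)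
    rw [hg₀, map_mul, map_mul, (descend_cj_eq_one p hn _).2 ⟨b, rfl⟩, mul_one]
  refine ⟨((QuotientGroup.quotientMulEquivOfEq ?_).trans
    (QuotientGroup.quotientKerEquivOfSurjective Φ hΦ)).symm⟩
  ext g
  rw [MonoidHom.mem_ker, Subgroup.mem_subgroupOf, Cfsg.Geo.mem_scalars_iff]
  have hi : (0 : ℕ) < n := by omega
  constructor
  · rintro ⟨c, hc⟩
    apply Subtype.ext
    show descend (cj (gMap j hjσ g)) = 1
    rw [cj_scalar ((Cfsg.Geo.mem_scalars_iff _).2 ⟨Units.map j.toMonoidHom c, ?_⟩), map_one]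
    rw [gMap_coe, hc]
    ext a b
    simp [Matrix.one_apply, apply_ite j]
  · intro h
    obtain ⟨c, hc⟩ := (descend_cj_eq_one p hn _).1 (congrArg Subtype.val h)
    have e : ∀ a b, j (((g : GLn₀) : Matrix (Fin n) (Fin n) F₀) a b) =
        ((c : Fˣ) : F) * if a = b then 1 else 0 := fun a b => by
      have := congrArg (fun x : GUn => ((x : GLn) : Mat) a b) hc
      simpa [scalU_coe, gMap_coe, Matrix.one_apply] using this
    set i0 : Fin n := ⟨0, hi⟩
    set d := ((g : GLn₀) : Matrix (Fin n) (Fin n) F₀) i0 i0 with hd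
    have hdc : j d = ((c : Fˣ) : F) := by rw [hd, e]; simp
    refine ⟨Units.mk0 d (fun h0 => (c : Fˣ).ne_zero (by rw [← hdc, h0, map_zero])), ?_⟩
    ext a b
    apply j.injective
    rw [e]
    simp [Matrix.one_apply, apply_ite j, hdc]

/-- The number of classes under inner automorphisms in the class of a field automorphism. -/
theorem splitClassCount_stdF (hn : 3 ≤ n) (hr : 0 < orderOf τ) :
    Cfsg.splitClassCount (Cfsg.inndiagPSU n F q) (Cfsg.Inn PSUn) (stdF τ) =
      Nat.gcd n ((q + 1) / (q₀ + 1)) := by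
  haveI : Finite F₀ := Finite.of_injective j j.injective
  have hn1 : 1 ≤ n := by omega
  have hinn : Cfsg.Inn PSUn = (detHom (n := n) (F := F) (q := q)).ker.map (descend.comp cj) := by
    apply le_antisymm
    · rintro _ ⟨a, rfl⟩
      obtain ⟨s, rfl⟩ := proj_surjective a
      exact ⟨suToGU s, (mem_range_suToGU_iff _).1 ⟨s, rfl⟩,
        by rw [MonoidHom.comp_apply, cj_suToGU, descend_conj]⟩
    · rintro _ ⟨g, hg, rfl⟩
      obtain ⟨s, rfl⟩ := (mem_range_suToGU_iff g).2 hg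
      exact ⟨proj n F q s, by rw [MonoidHom.comp_apply, cj_suToGU, descend_conj]⟩
  rw [inndiag_eq, hinn, splitClassCount_eq_index, index_ker_sup _ (detHom_surjective hn),
    show (commSub (descend.comp cj) (stdF τ)).map (detHom (n := n) (F := F) (q := q)) =
      (powMonoidHom n : N1 →* N1).range ⊔ (nMap (q := q) j hjσ).range from ?_,
    index_pow_sup, Nat.gcd_comm]
  · congr 1
    have h := Subgroup.card_mul_index (nMap (q := q) j hjσ).range
    rw [← Nat.card_congr (MonoidHom.ofInjective (nMap_injective j hjσ)).toEquiv,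
      card_normOne, card_normOne] at h
    rw [← h, Nat.mul_div_cancel_left _ (Nat.succ_pos _)]
  apply le_antisymm
  · rintro _ ⟨g, hg, rfl⟩
    obtain ⟨c, hc⟩ := (commute_stdF_iff p hn τ g).mp (mem_commSub.1 hg)
    obtain ⟨b, hb⟩ := exists_fixed τ j hj hjσ p hn hr g c hc
    obtain ⟨g₀, hg₀⟩ := exists_gMap_eq τ j hj hjσ _ hb
    rw [show g = gMap j hjσ g₀ * scalU hn1 b⁻¹ by rw [hg₀, map_inv, mul_inv_cancel_right],
      map_mul, detHom_scalU, detHom_gMap, mul_comm]
    exact Subgroup.mul_mem_sup ⟨b⁻¹, rfl⟩ ⟨_, rfl⟩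
  · rw [sup_le_iff]
    constructor
    · rintro _ ⟨b, rfl⟩
      refine ⟨scalU hn1 b, mem_commSub.2 ((commute_stdF_iff p hn τ _).2
        ⟨b⁻¹ * nF τ b, by rw [gF_scalU, ← map_mul, mul_inv_cancel_left]⟩), ?_⟩
      rw [detHom_scalU, powMonoidHom_apply]
    · rintro _ ⟨c, rfl⟩
      obtain ⟨g₀, rfl⟩ := detHom_surjective (F := F₀) (q := q₀) hn c
      exact ⟨gMap j hjσ g₀, mem_commSub.2 ((commute_stdF_iff p hn τ _).2
        ⟨1, by rw [gF_gMap τ j hj hjσ, map_one, mul_one]⟩), detHom_gMap j hjσ g₀⟩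

end Subfield

/-- An odd power of the degree: the involutions agree on the subfield. -/
theorem qb_compat {F₀ : Type*} [Field F₀] {q₀ r : ℕ} [QField F₀ q₀] (j : F₀ →+* F) (hr : Odd r)
    (hq : q = q₀ ^ r) (a : F₀) : j (qb q₀ a) = qb q (j a) := by
  have hx : ∀ x : F₀, x ^ q₀ ^ 2 = x := fun x => by
    rw [pow_two, pow_mul, ← qb_apply (q := q₀), ← qb_apply (q := q₀), qb_qb]
  have key : ∀ i, a ^ q₀ ^ (2 * i + 1) = a ^ q₀ := by
    intro i
    induction i with
    | zero => simp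
    | succ i ih =>
      rw [show 2 * (i + 1) + 1 = 2 * i + 1 + 2 by ring, pow_add, pow_mul, ih, hx]
  obtain ⟨i, rfl⟩ := hr
  rw [qb_apply, qb_apply, ← map_pow, hq, key]

section Statements

variable (p : ℕ) [Fact p.Prime] [CharP F p] [Fintype F] {f : ℕ}
include p

/-- The fixed field of an automorphism of odd order. -/
theorem card_fixed (hq : q = p ^ f) (hf : 1 ≤ f) (τ : F ≃+* F) {r : ℕ} (hτ : orderOf τ = r)
    (hodd : Odd r) :
    r ∣ f ∧ Nat.card ((τ : F →+* F).eqLocusField (RingHom.id F)) = (p ^ (f / r)) ^ 2 ∧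
      q = (p ^ (f / r)) ^ r ∧ 2 ≤ p ^ (f / r) := by
  have hF : Fintype.card F = p ^ (2 * f) := by
    rw [← Nat.card_eq_fintype_card, hQ.card, hq, ← pow_mul, mul_comm]
  obtain ⟨hd, hK⟩ := AutPSL.card_fixedField hF τ hτ hodd.pos
  have hd' : r ∣ f := (Nat.Coprime.dvd_of_dvd_mul_left (Nat.coprime_two_right.2 hodd) hd)
  refine ⟨hd', ?_, ?_, ?_⟩
  · rw [hK, ← pow_mul, Nat.mul_div_assoc 2 hd', mul_comm]
  · rw [← pow_mul, Nat.div_mul_cancel hd', hq]
  · exact le_trans (Fact.out : p.Prime).two_le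
      (Nat.le_self_pow (Nat.div_pos (Nat.le_of_dvd (by omega) hd') hodd.pos).ne' p)

/-- In the coset of a field automorphism of prime order `r`, order `r` means conjugate. -/
theorem coset_conj_iff (hq : q = p ^ f) (hf : 1 ≤ f) (hn : 3 ≤ n) (h32 : ¬ (n = 3 ∧ q = 2))
    {x δ : MulAut PSUn} (hx : Cfsg.IsFieldAutClassPSU x) {r : ℕ} (hr : r.Prime)
    (hxr : orderOf x = r) (hδ : δ ∈ Cfsg.inndiagPSU n F q) :
    orderOf (δ * x) = r ↔ Cfsg.IsConjUnder (Cfsg.inndiagPSU n F q) x (δ * x) := by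
  constructor
  swap
  · rintro ⟨h, -, he⟩
    rw [he, AutPSL.orderOf_conj, hxr]
  intro hord
  obtain ⟨τ, k, -, hodd, hxe⟩ := exists_field_rep p hn h32 hx
  have hτr : orderOf τ = r := by rw [← hxr, hxe, AutPSL.orderOf_conj, orderOf_stdF p hn]
  rw [inndiag_eq] at hδ
  obtain ⟨d, rfl⟩ := hδ
  have e1 : (descend.comp cj) d * x = descend (cj k) *
      (descend (cj (k⁻¹ * d * k)) * stdF τ) * (descend (cj k))⁻¹ := by
    rw [hxe, MonoidHom.comp_apply, map_mul cj, map_mul cj, map_mul descend, map_mul descend,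
      map_inv, map_inv]
    simp [mul_assoc]
  rw [e1, AutPSL.orderOf_conj] at hord
  obtain ⟨-, hK, hqK, h2⟩ := card_fixed p hq hf τ hτr (hτr ▸ hodd)
  haveI : QField ((τ : F →+* F).eqLocusField (RingHom.id F)) (p ^ (f / r)) := ⟨hK, h2⟩
  let j : (τ : F →+* F).eqLocusField (RingHom.id F) →+* F :=
    ((τ : F →+* F).eqLocusField (RingHom.id F)).subtype
  have hj : ∀ a, τ a = a ↔ a ∈ j.range := fun a => by
    constructor
    · intro h; exact ⟨⟨a, h⟩, rfl⟩
    · rintro ⟨b, rfl⟩; exact b.2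
  obtain ⟨l, hl⟩ := exists_conj_stdF τ j hj (qb_compat j (hτr ▸ hodd) hqK) p hn
    (by rw [hτr]; exact hr.pos) _ (by rw [hτr, ← hord]; exact pow_orderOf_eq_one _)
  rw [e1, hl, hxe, AutPSL.isConjUnder_iff_of_conj _ (inndiag_mem p k)]
  exact ⟨descend (cj k) * descend (cj l), mul_mem (inndiag_mem p k) (inndiag_mem p l),
    by simp [mul_assoc]⟩

end Statements

end Cfsg.Agent.AutPSU
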